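import Cfsg.Agent.BS.Higman2
import Cfsg.Agent.Cl.UStd

/-!
# The Sylow 2-subgroup of `U₃(4)`
-/

set_option autoImplicit false
set_option linter.unusedSectionVars false

namespace Cfsg.Agent.BS

open Cfsg Cfsg.Agent.GT Cfsg.Agent.Cl.Uni Subgroup Function
open scoped commutatorElement

universe u v

theorem U34.of_injective {X : Type u} {Y : Type v} [Group X] [Group Y] {z w a b c d : X}
    (f : X →* Y) (hf : Injective f) (h : U34 (f z) (f w) (f a) (f b) (f c) (f d)) :
    U34 z w a b c d := by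
  constructor <;> apply hf <;>
    simp only [map_mul, map_commutatorElement, h.zz, h.ww, h.wz, h.az, h.bz, h.cz, h.dz, h.aw,
      h.bw, h.cw, h.dw, h.aa, h.bb, h.cc, h.dd, h.ba, h.ca, h.da, h.cb, h.db, h.dc, map_one]

theorem exists_u34_EG {F : Type*} [Field F] [StarRing F] {V : Type*} [AddCommGroup V] [Module F V]
    {h : HForm F V} (nt : NT F) (h2 : (2 : F) = 0) {γ : F} (hγ : γ + star γ = 1)
    (hγ' : star γ = γ ^ 4) {e f w : V} (he : h e e = 0) (hw : h e w = 0) (hw1 : h w w = 1)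
    (hf : h f e = 1) :
    ∃ z w a b c d : EG h, U34 z w a b c d ∧ z ≠ 1 ∧ w ≠ 1 ∧ z * w ≠ 1 := by
  have e0 : e ≠ 0 := fun e' => by rw [e', h.zero_right] at hf; exact zero_ne_one hf
  have ex : ∀ α : F, ∃ β, EC h e (α • w) β := fun α => by
    obtain ⟨β, hβ⟩ := nt.exists_trace (h.star_symm (α • w) (α • w))
    exact ⟨β, he, by rw [h.smul_right, hw, mul_zero], hβ⟩
  choose β C using ex
  have Z : ∀ δ : F, star δ = δ → EC h e ((0 : F) • w) δ := fun δ hδ =>
    ⟨he, by rw [h.smul_right, hw, mul_zero], by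
      rw [hδ, zero_smul, h.zero_left]; linear_combination δ * h2⟩
  have mul : ∀ {α α' α'' b b' b'' : F} (H : EC h e (α • w) b) (H' : EC h e (α' • w) b')
      (H'' : EC h e (α'' • w) b''), α + α' = α'' → b + b' + α' * star α = b'' →
      eich h e _ _ H * eich h e _ _ H' = eich h e _ _ H'' := by
    intro α α' α'' b b' b'' H H' H'' e1 e2
    rw [eich_mul]
    exact eich_congr _ _ rfl (by rw [← add_smul, e1]) (by
      rw [h.smul_left, h.smul_right, hw1, mul_one, e2])
  have one : ∀ H : EC h e ((0 : F) • w) 0, eich h e _ _ H = 1 := fun H => by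
    rw [← eich_zero (EC.zero he (β := 0) (by simp))]
    exact eich_congr _ _ rfl (zero_smul _ _) rfl
  have cm : ∀ {α α' b b' δ : F} (H : EC h e (α • w) b) (H' : EC h e (α' • w) b')
      (H'' : EC h e ((0 : F) • w) δ), α' * star α = δ + α * star α' →
      ⁅eich h e _ _ H, eich h e _ _ H'⁆ = eich h e _ _ H'' := by
    intro α α' b b' δ H H' H'' e1
    rw [commutatorElement_def, mul_inv_eq_iff_eq_mul, mul_inv_eq_iff_eq_mul, eich_mul, eich_mul,
      eich_mul]
    refine eich_congr _ _ rfl (by module) ?_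
    simp only [h.smul_left, h.add_right, h.smul_right, hw1, star_zero]
    linear_combination e1
  have cz : ∀ {α b δ : F} (H : EC h e (α • w) b) (H' : EC h e ((0 : F) • w) δ),
      eich h e _ _ H * eich h e _ _ H' = eich h e _ _ H' * eich h e _ _ H := by
    intro α b δ H H'
    rw [eich_mul, eich_mul]
    refine eich_congr _ _ rfl (by module) ?_
    simp only [h.smul_left, h.smul_right, hw1, star_zero]
    ring
  have ne : ∀ {δ : F} (H : EC h e ((0 : F) • w) δ), δ ≠ 0 → eich h e _ _ H ≠ 1 := by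
    intro δ H hδ e1
    have := eich_apply H f
    rw [e1, UG.one_apply, zero_smul, h.zero_right, hf] at this
    simp [eq_sub_iff_add_eq, hδ, e0] at this
  have sγ : star γ = 1 + γ := by linear_combination hγ - γ * h2
  set η := γ * star γ with hη
  have sη : star η = η := by rw [hη, star_mul, star_star]
  have η2 : η * η = η + 1 := by
    rw [hη, sγ]
    rw [sγ] at hγ'
    linear_combination (-1 : F) * hγ' + (γ ^ 3) * h2
  have s1 : star (η + 1) = η + 1 := by rw [star_add, sη, star_one]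
  have η0 : η ≠ 0 := fun e' => by rw [e'] at η2; simp at η2
  have η1 : η + 1 ≠ 0 := by rw [← η2]; exact mul_ne_zero η0 η0
  have zw : eich h e _ _ (Z 1 (star_one F)) * eich h e _ _ (Z η sη) = eich h e _ _ (Z _ s1) :=
    mul _ _ _ (by simp) (by simp [add_comm])
  refine ⟨⟨_, eich_mem_EG (Z 1 (star_one F))⟩, ⟨_, eich_mem_EG (Z η sη)⟩,
    ⟨_, eich_mem_EG (C 1)⟩, ⟨_, eich_mem_EG (C (η + 1))⟩, ⟨_, eich_mem_EG (C γ)⟩,
    ⟨_, eich_mem_EG (C ((η + 1) * γ))⟩, U34.of_injective (EG h).subtype (EG h).subtype_injective ?_,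
    fun e' => ne (Z 1 (star_one F)) one_ne_zero (congrArg Subtype.val e'),
    fun e' => ne (Z η sη) η0 (congrArg Subtype.val e'),
    fun e' => ne _ η1 (zw.symm.trans (congrArg Subtype.val e'))⟩
  have Z0 := Z 0 (star_zero F)
  simp only [coe_subtype]
  refine ⟨(mul _ _ Z0 (by simp) ?_).trans (one _), (mul _ _ Z0 (by simp) ?_).trans (one _),
    cz _ _, cz _ _, cz _ _, cz _ _, cz _ _, cz _ _, cz _ _, cz _ _, cz _ _,
    mul _ _ _ ?_ ?_, mul _ _ _ ?_ ?_, mul _ _ _ ?_ ?_, (mul _ _ _ ?_ ?_).trans zw.symm,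
    (cm _ _ Z0 ?_).trans (one _), cm _ _ _ ?_, (cm _ _ _ ?_).trans zw.symm,
    (cm _ _ _ ?_).trans zw.symm, cm _ _ _ ?_, (cm _ _ Z0 ?_).trans (one _)⟩ <;>
    try simp only [star_mul', star_one, star_zero, s1]
  · linear_combination h2
  · linear_combination η * h2
  · linear_combination h2
  · linear_combination β 1 * h2
  · linear_combination (η + 1) * h2
  · linear_combination η2 + (β (η + 1) + η + 1) * h2
  · linear_combination γ * h2
  · linear_combination β γ * h2
  · linear_combination (η + 1) * γ * h2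
  · linear_combination (-(η + 1) ^ 2) * hη + (η + 3) * η2 + (β ((η + 1) * γ) + 2 * η + 1) * h2
  · ring
  · linear_combination sγ
  · linear_combination (η + 1) * sγ
  · linear_combination (η + 1) * sγ
  · linear_combination (η + 1) ^ 2 * sγ + η2 + (η + 1) * h2
  · ring

theorem Tri3.equiv_sylow {T : Type u} [Group T] [Finite T] {σ : MulAut T} {z x y : T}
    (H : Tri3 σ z) (hc : Nat.card T = 64) (U : U34 z (σ z) x (σ x) y (σ y))
    (hg : closure {x, σ x, y, σ y} = ⊤) {F : Type*} [Field F] [Fintype F]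
    (hF : Fintype.card F = 16) (P : Sylow 2 (Cfsg.PSU 3 F 4)) :
    Nonempty (T ≃* (P : Subgroup (Cfsg.PSU 3 F 4))) := by
  have : Fact (Nat.Prime 2) := ⟨Nat.prime_two⟩
  obtain ⟨_, I⟩ := exists_isFrob (q := 4) hF
  have h2 : (2 : F) = 0 := by
    have := FiniteField.cast_card_eq_zero F
    rw [hF] at this
    exact pow_eq_zero_iff (n := 4) (by norm_num) |>.1 (by rw [← this]; norm_num)
  obtain ⟨γ, hγ⟩ := I.nt.exists_omega
  obtain ⟨z', w, a, b, c, d, U', n1, n2, n3⟩ := exists_u34_EG (h := stdH F 3) I.nt h2 hγ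
    (I.star_eq γ) (e := ![1, 1, 0]) (f := ![1, 0, 0]) (w := ![0, 0, 1])
    (by simp [stdH_apply, Fin.sum_univ_three]; linear_combination h2)
    (by simp [stdH_apply, Fin.sum_univ_three]) (by simp [stdH_apply, Fin.sum_univ_three])
    (by simp [stdH_apply, Fin.sum_univ_three])
  have c1 := I.card_psu (n := 3) (by norm_num)
  have c2 : Nat.card (Cfsg.PSU 3 F 4) = 62400 := by
    simp [Finset.prod_range_succ, Nat.even_iff] at c1
    omega
  have : Finite (Cfsg.PSU 3 F 4) := Nat.finite_of_card_ne_zero (by omega)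
  have c3 : center (Cfsg.SU 3 F 4) = ⊥ := by
    rw [← card_eq_one, I.card_center_su (by norm_num)]; rfl
  let φ : EG (stdH F 3) →* Cfsg.PSU 3 F 4 :=
    (QuotientGroup.mk' _).comp (I.suEquivEG (by norm_num)).symm.toMonoidHom
  have hφ : Injective φ := by
    refine Injective.comp (g := QuotientGroup.mk' _) ?_ (I.suEquivEG (by norm_num)).symm.injective
    rw [← MonoidHom.ker_eq_bot_iff, QuotientGroup.ker_mk', c3]
  obtain ⟨f, f1, f2⟩ := U.exists_hom (U'.map φ) hc hg
  have hf : Injective f := by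
    rw [injective_iff_map_eq_one]
    intro g hg
    by_contra h1
    obtain ⟨j, h1, h3⟩ := H.exists_invol h1
    have h4 : f (g ^ 2 ^ j) = 1 := by rw [map_pow, hg, one_pow]
    rcases H.inv _ h3 with e | e | e | e <;> rw [e] at h1 h4
    · exact h1 rfl
    · exact n1 (hφ (by rw [← f1, h4, map_one]))
    · exact n2 (hφ (by rw [← f2, h4, map_one]))
    · exact n3 (hφ (by rw [map_mul, ← f1, ← f2, ← map_mul, h4, map_one]))
  have c4 : Nat.card f.range = 2 ^ 6 := by
    rw [← Nat.card_congr (MonoidHom.ofInjective hf).toEquiv, hc]; rfl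
  obtain ⟨Q, hQ⟩ := (IsPGroup.of_card c4).exists_le_sylow
  have e : f.range = Q := by
    obtain ⟨n, hn⟩ := IsPGroup.iff_card.1 Q.isPGroup'
    refine eq_of_le_of_card_ge hQ ?_
    have := Q.toSubgroup.card_subgroup_dvd_card
    rw [hn, c2] at this
    rw [hn, c4]
    refine Nat.pow_le_pow_right two_pos ?_
    by_contra h
    have := (pow_dvd_pow 2 (show 7 ≤ n by omega)).trans this
    omega
  exact ⟨((MonoidHom.ofInjective hf).trans (MulEquiv.subgroupCongr e)).trans (Q.equiv P)⟩

end Cfsg.Agent.BS
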