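import Cfsg.Agent.BS.BrauerSuzuki

/-!
# Glauberman's Z*-theorem
-/

set_option autoImplicit false
set_option linter.unusedSectionVars false

namespace Cfsg.Agent.BS

open Cfsg Cfsg.Agent.Char Cfsg.Agent.GT Subgroup

universe u

variable {G : Type u} [Group G] [Finite G] {t : G}

/-- Products of `t` with its conjugates have odd order. -/
def Isolated (t : G) : Prop := t * t = 1 ∧ ∀ g, Odd (orderOf (t * (g * t * g⁻¹)))

theorem conj_invol (ht : t * t = 1) (g : G) : g * t * g⁻¹ * (g * t * g⁻¹) = 1 := by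
  calc g * t * g⁻¹ * (g * t * g⁻¹) = g * (t * t) * g⁻¹ := by group
    _ = 1 := by rw [ht]; group

theorem isolated_of_commute (ht : t * t = 1)
    (h : ∀ g, t * (g * t * g⁻¹) = g * t * g⁻¹ * t → g * t * g⁻¹ = t) : Isolated t := by
  refine ⟨ht, fun g => ?_⟩
  by_contra hn
  have hg := conj_invol ht g
  obtain ⟨k, -, h2, h3, -⟩ := central_of_even ht hg (Nat.not_odd_iff_even.1 hn)
  obtain ⟨c, hc⟩ : ∃ c, c * t * c⁻¹ = t * (t * (g * t * g⁻¹)) ^ k := by
    rcases Nat.even_or_odd' k with ⟨m, rfl | rfl⟩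
    · exact ⟨((t * (g * t * g⁻¹)) ^ m)⁻¹, by rw [invol_mul_pow_even ht hg, inv_inv]⟩
    · exact ⟨((t * (g * t * g⁻¹)) ^ m)⁻¹ * g, by rw [invol_mul_pow_odd ht hg]; group⟩
  have := h c (by rw [hc, mul_assoc t _ t, h3])
  rw [hc] at this
  exact ne_one_of_orderOf_two h2 (mul_eq_left.1 this)

theorem Isolated.eq_of_commute (h : Isolated t) {g : G}
    (hc : t * (g * t * g⁻¹) = g * t * g⁻¹ * t) : g * t * g⁻¹ = t := by
  have h1 : (t * (g * t * g⁻¹)) ^ 2 = 1 := by
    rw [pow_two]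
    nth_rewrite 1 [hc]
    calc g * t * g⁻¹ * t * (t * (g * t * g⁻¹)) = g * t * g⁻¹ * (t * t) * (g * t * g⁻¹) := by group
      _ = 1 := by rw [h.1, mul_one, conj_invol h.1]
  have h2 : orderOf (t * (g * t * g⁻¹)) = 1 :=
    Nat.eq_one_of_dvd_coprimes (Nat.coprime_two_right.2 (h.2 g)) dvd_rfl
      (orderOf_dvd_of_pow_eq_one h1)
  rw [orderOf_eq_one_iff] at h2
  exact (eq_inv_of_mul_eq_one_right h2).trans (inv_eq_of_mul_eq_one_right h.1)

theorem Isolated.map {G' : Type*} [Group G'] (h : Isolated t) (f : G →* G')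
    (hf : Function.Surjective f) : f t * f t = 1 ∧ ∀ g, Odd (orderOf (f t * (g * f t * g⁻¹))) := by
  refine ⟨by rw [← map_mul, h.1, map_one], fun g => ?_⟩
  obtain ⟨g, rfl⟩ := hf g
  simpa using (h.2 g).of_dvd_nat (orderOf_map_dvd f _)

theorem Isolated.subgroup (h : Isolated t) {M : Subgroup G} (ht : t ∈ M) :
    Isolated (⟨t, ht⟩ : M) :=
  ⟨Subtype.ext h.1, fun g => by rw [← orderOf_coe]; exact h.2 g⟩

theorem zstar_aux (n : ℕ) : ∀ (G : Type u) [Group G] [Finite G], Nat.card G = n →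
    ∀ t : G, Isolated t → ∀ g, t * (g * t * g⁻¹) ∈ piCore {2}ᶜ G := by
  induction n using Nat.strong_induction_on with
  | _ n ih =>
  intro G _ _ hn t ht
  classical
  have : Fintype G := Fintype.ofFinite G
  have IH : ∀ (H : Type u) [Group H] [Finite H], Nat.card H < Nat.card G → ∀ s : H, Isolated s →
      ∀ g, s * (g * s * g⁻¹) ∈ piCore {2}ᶜ H := fun H _ _ hH => ih _ (hn ▸ hH) H rfl
  have IHq : ∀ (N : Subgroup G) [N.Normal], N ≠ ⊥ → ∀ g,
      t * (g * t * g⁻¹) ∈ coreMod {2}ᶜ N ⊤ := by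
    intro N _ hN g
    rw [← comap_piCore_quotient, mem_comap]
    simpa using IH (G ⧸ N) (by
      rw [card_eq_card_quotient_mul_card_subgroup N]
      exact lt_mul_of_one_lt_right Nat.card_pos (ne_bot_iff_one_lt_card.1 hN))
      _ (ht.map (QuotientGroup.mk' N) (QuotientGroup.mk'_surjective N)) (g : G ⧸ N)
  have IHs : ∀ M : Subgroup G, M ≠ ⊤ → t ∈ M → ∀ g ∈ M, t * (g * t * g⁻¹) ∈ piCoreOf {2}ᶜ M := by
    intro M hM htM g hg
    exact ⟨_, IH M (by
      simpa using card_lt_of_lt (lt_top_iff_ne_top.2 hM)) _ (ht.subgroup htM) ⟨g, hg⟩, rfl⟩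
  by_cases hO : piCore {2}ᶜ G = ⊥
  swap
  · intro g
    have := IHq _ hO g
    rwa [coreMod_eq_piCoreOf le_top le_norm_of_normal
      (by rw [← piCoreOf_top]; exact piCoreOf_isPi _ _),
      piCoreOf_top] at this
  have hO' : ∀ N : Subgroup G, ⊤ ≤ N[N] → piCoreOf {2}ᶜ N = ⊥ := fun N hN =>
    piCoreOf_eq_bot_of_normal le_top hN (by rw [piCoreOf_top, hO])
  by_contra hcon
  have hne : ¬ ∀ g, g * t * g⁻¹ = t := fun h => hcon fun g => by rw [h, ht.1]; exact one_mem _
  have ht1 : t ≠ 1 := by rintro rfl; simp at hne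
  have ht2 := orderOf_eq_two_of ht.1 ht1
  -- `t` lies in no proper normal subgroup
  have hgen : ∀ N : Subgroup G, N.Normal → t ∈ N → N = ⊤ := by
    intro N hN htN
    by_contra hNt
    refine hne fun g => ht.eq_of_commute ?_
    have := IHs N hNt htN _ (hN.conj_mem t htN g)
    rw [hO' N le_norm_of_normal, mem_bot] at this
    have e := (eq_inv_of_mul_eq_one_right this).trans (inv_eq_of_mul_eq_one_right ht.1)
    exact (mul_inv_eq_iff_eq_mul.1 e).symm
  -- no central involution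
  have hcen : ∀ z : G, orderOf z = 2 → C1[z] ≠ ⊤ := by
    intro z hz hc
    have hzc : ∀ g, g * z = z * g := fun g => mem_cent1.1 (hc ▸ mem_top g)
    have hZ : (zpowers z).Normal := ⟨fun x hx g => by
      rwa [(commute_of_mem_zpowers_left hx (hzc g).symm).symm.eq, mul_inv_cancel_right]⟩
    refine hcon fun g => ?_
    have h1 := IHq (zpowers z) (by simpa using ne_one_of_orderOf_two hz) g
    have h2 : ⊤ ≤ N[coreMod {2}ᶜ (zpowers z) ⊤] := self_le_norm_coreMod le_norm_of_normal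
    have h3 := mem_core_of_cyclic (fun P hP hP2 => PG.isCyclic_of_le' inferInstance
      (PG.le_of_normal_of_piNat_relIndex hP (isPi_of_isPGroup Nat.prime_two hP2)
        le_norm_of_normal (coreMod_relIndex le_top le_norm_of_normal))) h1 (ht.2 g)
    rw [hO' _ h2, mem_bot] at h3
    rw [h3]; exact one_mem _
  -- an involution commuting with `t`
  obtain ⟨s, hs, hst, hs'⟩ : ∃ s : G, orderOf s = 2 ∧ s * t = t * s ∧ s ≠ t := by
    by_contra hno
    push Not at hno
    refine hcon fun g => brauer_suzuki (fun a b ha hb hab => ?_) ht2 (by rw [GT.orderOf_conj, ht2])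
    have h2 : ∀ x : G, orderOf x = 2 → IsPGroup 2 (zpowers x) := fun x hx =>
      PG.isPGroup_of_card_eq (by rw [Nat.card_zpowers, hx])
    obtain ⟨T, hT, hT'⟩ := exists_syl_ge Nat.prime_two (IsPGroup.to_sup_of_normal_left'
      (h2 a ha) (h2 b hb) (le_norm_of_cent (by
        rw [cent_zpowers, zpowers_le, mem_cent1]; exact hab.symm))) le_top
    obtain ⟨c, -, hc⟩ := syl_exists_le_conj Nat.prime_two hT (h2 t ht2) le_top
    have hTp : IsPGroup 2 (cj[c] T) := PG.isPGroup_conj_iff.2 (syl_isPGroup Nat.prime_two hT)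
    have key : ∀ x ∈ T, orderOf x = 2 → c * x * c⁻¹ = t := by
      intro x hx hx2
      have h3 : c * x * c⁻¹ ∈ cj[c] T := conj_mem_conj.2 hx
      have h4 := hc (mem_zpowers t)
      have h5 : orderOf (c * x * c⁻¹) = 2 := by rw [GT.orderOf_conj, hx2]
      generalize c * x * c⁻¹ = y at h3 h5 ⊢
      refine hno y h5 ?_
      have h6 : t * (y * t * y⁻¹) = 1 := eq_one_of_piNat_orderOf
        ((isPi_of_isPGroup Nat.prime_two hTp).orderOf
          (mul_mem h4 (mul_mem (mul_mem h3 h4) (inv_mem h3)))) (piNat_two_compl.2 (ht.2 y))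
      exact mul_inv_eq_iff_eq_mul.1
        ((eq_inv_of_mul_eq_one_right h6).trans (inv_eq_of_mul_eq_one_right ht.1))
    exact conj_injective ((key a (hT' (mem_sup_left (mem_zpowers a))) ha).trans
      (key b (hT' (mem_sup_right (mem_zpowers b))) hb).symm)
  have main : ∀ s : G, orderOf s = 2 → s * t = t * s → s ≠ t → ∀ χ ∈ B0 G,
      χ 1 * χ (s * t) = χ s * χ t := by
    intro s hs hst hs' χ hχ
    refine (B0_irr hχ).mul_of_conj_eq fun g => ?_
    have hss := conj_invol (mul_self_of_orderOf hs) g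
    have hnc : ∀ c, c * s * c⁻¹ ≠ t := by
      intro c hc
      have e : c⁻¹ * t * c⁻¹⁻¹ = s := by rw [← hc]; group
      exact hs' (e.symm.trans (ht.eq_of_commute (by rw [e, hst])))
    obtain ⟨r, hr⟩ : ∃ r, r = g * s * g⁻¹ := ⟨_, rfl⟩
    rw [← hr] at hss ⊢
    have hev : Even (orderOf (t * r)) := by
      by_contra hodd
      obtain ⟨k, hk⟩ := conj_of_odd ht.1 hss (Nat.not_even_iff_odd.1 hodd)
      exact hnc (((t * r) ^ k)⁻¹ * g) (by nth_rewrite 3 [hk]; rw [hr]; group)
    obtain ⟨k, h1, h2, h3, h4⟩ := central_of_even ht.1 hss hev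
    have h5 := IHs _ (hcen _ h2) (mem_cent1.2 h3.symm) r (mem_cent1.2 h4.symm)
    have h6 : t * (r * t * r⁻¹) = (t * r) ^ 2 := by
      rw [inv_eq_of_mul_eq_one_right hss, pow_two]; group
    have hk : Odd k := by
      have := ht.2 r
      rwa [h6, orderOf_pow' _ two_ne_zero, h1, Nat.gcd_eq_right (dvd_mul_right 2 k),
        Nat.mul_div_cancel_left _ two_pos] at this
    obtain ⟨m, rfl⟩ := hk
    have h7 : t * r = (t * r) ^ (2 * m + 1) * ((t * r) ^ 2) ^ (m + 1) := by
      rw [← pow_mul, ← pow_add, show 2 * m + 1 + 2 * (m + 1) = 2 * (2 * m + 1) + 1 by ring, ← h1,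
        pow_succ, pow_orderOf_eq_one, one_mul]
    have h8 : χ (t * r) = χ ((t * r) ^ (2 * m + 1)) := by
      nth_rewrite 1 [h7]
      exact B0_apply_mul_core (by rw [h2]; exact piNat_single_self Nat.prime_two) hχ
        (pow_mem (h6 ▸ h5) _)
    rw [(B0_irr hχ).isClassFunction.mul_comm r t, h8]
    -- `z` is conjugate to `s * t`
    have h9 := invol_mul_pow_odd ht.1 hss m
    generalize (t * r) ^ (2 * m + 1) = z at h2 h3 h9
    obtain ⟨c, hc⟩ : ∃ c, t * z = c * s * c⁻¹ := ⟨((t * r) ^ m)⁻¹ * g, by rw [h9, hr]; group⟩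
    have c1 : t ∈ C1[t * z] := mem_cent1.2 (by rw [mul_assoc, h3])
    have c2 : c * t * c⁻¹ ∈ C1[t * z] := mem_cent1.2 (by
      rw [hc]
      calc c * t * c⁻¹ * (c * s * c⁻¹) = c * (t * s) * c⁻¹ := by group
        _ = _ := by rw [← hst]; group)
    obtain ⟨j, hj⟩ := conj_of_odd ht.1 (conj_invol ht.1 c) (ht.2 c)
    have c3 := mem_cent1.1 (pow_mem (mul_mem c1 c2) j)
    generalize (t * (c * t * c⁻¹)) ^ j = d at hj c3
    rw [← (B0_irr hχ).isClassFunction (s * t) (d⁻¹ * c)]
    congr 1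
    calc z = t * z * t := by rw [mul_assoc, h3, ← mul_assoc, ht.1, one_mul]
      _ = d⁻¹ * (d * (t * z)) * (d⁻¹ * (c * t * c⁻¹) * d) := by rw [← hj]; group
      _ = _ := by rw [c3, hc]; group
  have hst2 : orderOf (s * t) = 2 := orderOf_eq_two_of (by
      calc s * t * (s * t) = s * (t * s) * t := by group
        _ = s * (s * t) * t := by rw [hst]
        _ = 1 := by rw [← mul_assoc, mul_self_of_orderOf hs, one_mul, ht.1])
    fun e => hs' ((eq_inv_of_mul_eq_one_left e).trans (inv_eq_of_mul_eq_one_right ht.1))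
  have hsum : ∑ χ ∈ B0 G, χ s * (χ 1 + χ t) = 0 := by
    have hs2 : constt {2} s = s := constt_of_piNat (by rw [hs]; exact piNat_single_self Nat.prime_two)
    have ht2' : constt {2} t = t :=
      constt_of_piNat (by rw [ht2]; exact piNat_single_self Nat.prime_two)
    have a1 := sum_B0_eq_zero (x := s) (y := 1) (by
      rw [hs2, constt_one, isConj_one_left]; exact ne_one_of_orderOf_two hs)
    have a2 := sum_B0_eq_zero (x := s) (y := t) (by
      rw [hs2, ht2', isConj_iff]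
      rintro ⟨c, hc⟩
      have e : c⁻¹ * t * c⁻¹⁻¹ = s := by rw [← hc]; group
      exact hs' (e.symm.trans (ht.eq_of_commute (by rw [e, hst]))))
    rw [inv_eq_of_mul_eq_one_right (mul_self_of_orderOf hs)] at a1 a2
    simp only [mul_add, Finset.sum_add_distrib, a1, a2, add_zero]
  rw [Finset.sum_eq_single_of_mem _ one_mem_B0] at hsum
  · norm_num at hsum
  · intro χ hχ hne1
    have a1 := main s hs hst hs' χ hχ
    have a2 := main (s * t) hst2 (by rw [mul_assoc, ← mul_assoc t, ← hst, mul_assoc])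
      (fun e => ne_one_of_orderOf_two hs (mul_eq_right.1 e)) χ hχ
    rw [mul_assoc, ht.1, mul_one] at a2
    have a3 : χ t ≠ χ 1 := fun e => hne1 ((B0_irr hχ).eq_one_of_forall fun g =>
      apply_eq_of_mem_chKer (by
        rw [hgen _ (chKer_normal (B0_irr hχ).isClassFunction)
          ((B0_irr hχ).isCharacter.mem_chKer_iff.2 e)]; trivial))
    refine mul_left_cancel₀ (sub_ne_zero.2 a3) ?_
    linear_combination -χ t * a1 - χ 1 * a2

/-- **Glauberman's Z*-theorem**. -/
theorem Isolated.mul_conj_mem (ht : Isolated t) (g : G) : t * (g * t * g⁻¹) ∈ piCore {2}ᶜ G :=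
  zstar_aux _ G rfl t ht g

/-- **Glauberman's Z*-theorem**: an involution commuting with none of its other conjugates is
central modulo `O_{2'}(G)`. -/
theorem zstar (ht : t * t = 1)
    (h : ∀ g, t * (g * t * g⁻¹) = g * t * g⁻¹ * t → g * t * g⁻¹ = t) (g : G) :
    t * (g * t * g⁻¹) ∈ piCore {2}ᶜ G :=
  (isolated_of_commute ht h).mul_conj_mem g

end Cfsg.Agent.BS
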