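import Cfsg.Agent.BS.Homocyclic
import Cfsg.Agent.BS.U34
import Cfsg.Agent.BS.ZStar

/-!
# Sylow 2-subgroups of simple groups of 2-rank two
-/

set_option autoImplicit false
set_option linter.unusedSectionVars false

namespace Cfsg.Agent.BS

open Cfsg Cfsg.Agent.GT Subgroup
open scoped commutatorElement

universe u

variable {G : Type u} [Group G] [Finite G] {S T V : Subgroup G} {z : G}

theorem exists_conj_invol [IsSimpleGroup G] (hG : ¬ IsMulCommutative G) (hS : IsPiHallOf {2} S ⊤)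
    (hz : S ≤ C1[z]) (h2 : z * z = 1) (h1 : z ≠ 1) : ∃ t ∈ S, t ≠ z ∧ IsConj z t := by
  have : Fintype G := Fintype.ofFinite G
  by_contra hc
  push Not at hc
  have key := zstar h2 fun g hg => by
    obtain ⟨c, hc1, hc2⟩ := syl_exists_conj_le Nat.prime_two (hS.of_le hz le_top)
      (Q := zpowers (g * z * g⁻¹)) (PG.isPGroup_zpowers_of_pow_eq_one (k := 1) (by
        rw [pow_one, pow_two, conj_invol h2])) (zpowers_le.2 (mem_cent1.2 hg.symm))
    by_contra hne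
    refine hc _ (hc2 (conj_mem_conj.2 (mem_zpowers _))) (fun e => hne ?_)
      (isConj_iff.2 ⟨c * g, by group⟩)
    calc g * z * g⁻¹ = c⁻¹ * (c * (g * z * g⁻¹) * c⁻¹) * c := by group
      _ = z := by rw [e, mul_assoc, ← mem_cent1.1 hc1]; group
  rcases (piCore_normal {2}ᶜ G).eq_bot_or_eq_top with h | h
  · have hz' : z ∈ center G := mem_center_iff.2 fun g => by
      have := key g
      rw [h, mem_bot, mul_eq_one_iff_inv_eq, inv_eq_of_mul_eq_one_right h2] at this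
      exact mul_inv_eq_iff_eq_mul.1 this.symm
    rcases (inferInstance : (center G).Normal).eq_bot_or_eq_top with e | e
    · exact h1 (by rwa [e, mem_bot] at hz')
    · exact hG ⟨⟨fun a b => mem_center_iff.1 (e ▸ mem_top b) a⟩⟩
  · have := piNat_two_compl.1 ((piCoreOf_isPi {2}ᶜ (⊤ : Subgroup G)).orderOf (x := z)
      (by rw [piCoreOf_top, h]; exact mem_top z))
    rw [orderOf_eq_two_of h2 h1] at this
    exact absurd this (by decide)

theorem exists_extremal (hS : IsPiHallOf {2} S ⊤) (hz : S ≤ C1[z]) {t : G} (h : IsConj z t) :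
    ∃ g, g * t * g⁻¹ = z ∧ cj[g] (S ⊓ C1[t]) ≤ S := by
  obtain ⟨g, hg⟩ := isConj_iff.1 h.symm
  obtain ⟨c, hc1, hc2⟩ := syl_exists_conj_le Nat.prime_two (hS.of_le hz le_top)
    (Q := cj[g] (S ⊓ C1[t]))
    (PG.isPGroup_conj_iff.2 ((syl_isPGroup Nat.prime_two hS).to_le inf_le_left))
    (by rw [← hg, ← conj_cent1]; exact conj_mono g inf_le_right)
  refine ⟨c * g, ?_, by rwa [mul_conj]⟩
  calc c * g * t * (c * g)⁻¹ = c * (g * t * g⁻¹) * c⁻¹ := by group
    _ = z := by rw [hg, mem_cent1.1 hc1]; group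

theorem zpowers_disj {x y : G} {n : ℕ} (hx : orderOf x = 2 ^ (n + 1))
    (hy : orderOf y = 2 ^ (n + 1)) (h : x ^ 2 ^ n ≠ y ^ 2 ^ n) : zpowers x ⊓ zpowers y = ⊥ := by
  rw [eq_bot_iff]
  intro w hw
  by_contra h1
  obtain ⟨j, h1, h2⟩ := PG.exists_pow_not_mem_pow_mem (p := 2) (k := n + 1) (K := ⊥)
    (mem_bot.2 (orderOf_dvd_iff_pow_eq_one.1 (hx ▸ orderOf_dvd_of_mem_zpowers hw.1))) h1
  rw [mem_bot] at h1 h2
  have a1 := (Cls.eq_one_or_eq_of_sq hx (pow_mem hw.1 _) h2).resolve_left h1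
  have a2 := (Cls.eq_one_or_eq_of_sq hy (pow_mem hw.2 _) h2).resolve_left h1
  exact h (a1.symm.trans a2)

theorem wreath (hTS : T ≤ S) (hn : S ≤ N[T]) (hc : Nat.card S ≤ 2 * Nat.card T)
    (hT : ∀ a ∈ T, ∀ b ∈ T, a * b = b * a) {n : ℕ} (hcT : Nat.card T = 4 ^ (n + 1)) {x s : G}
    (hx : x ∈ T) (ho : orderOf x = 2 ^ (n + 1)) (hs : s ∈ S) (hs' : s ∉ T)
    (h : s * x ^ 2 ^ n * s⁻¹ ≠ x ^ 2 ^ n) :
    (∃ n : ℕ, 2 ≤ n ∧ Nonempty (S ≃* DihedralGroup n)) ∨ IsWreathed S := by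
  have hy : s * x * s⁻¹ ∈ T := conj_mem_of_le_norm hn hs hx
  have ho' : orderOf (s * x * s⁻¹) = 2 ^ (n + 1) := by rw [orderOf_conj, ho]
  have hd := zpowers_disj ho ho' (by rw [conj_pow]; exact h.symm)
  have hss := Cls.mul_mem_of_card_le_two_mul hTS hc hs hs hs' hs'
  have e1 : s * (s * x * s⁻¹) * s⁻¹ = x := by
    calc s * (s * x * s⁻¹) * s⁻¹ = s * s * x * (s * s)⁻¹ := by group
      _ = x := by rw [hT _ hss _ hx]; group
  set y := s * x * s⁻¹ with hy'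
  have c : Commute x y := hT _ hx _ hy
  have yn : y ∈ N[zpowers x] := cent_le_norm _ (by rw [cent_zpowers, mem_cent1, c.eq])
  have e2 : zpowers x ⊔ zpowers y = T := eq_of_le_of_card_ge
    (sup_le (zpowers_le.2 hx) (zpowers_le.2 hy)) (by
      rw [card_sup_of_inf_eq_bot (Or.inr (zpowers_le.2 yn)) hd, Nat.card_zpowers, Nat.card_zpowers,
        ho, ho', hcT, ← mul_pow]
      exact le_rfl)
  obtain ⟨_, ⟨i, rfl⟩, j, e3⟩ := (PG.mem_sup_zpowers yn).1 (e2.symm ▸ hss)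
  have e4 : y ^ i * x ^ j = x ^ i * y ^ j := by
    calc y ^ i * x ^ j = (s * x * s⁻¹) ^ i * (s * y * s⁻¹) ^ j := by rw [e1]
      _ = s * (x ^ i * y ^ j) * s⁻¹ := by rw [conj_zpow, conj_zpow]; group
      _ = _ := by rw [← e3]; group
  have e5 : y ^ (j - i) = 1 := by
    have : y ^ (j - i) = x ^ (j - i) := by
      calc y ^ (j - i) = (y ^ i)⁻¹ * (x ^ i)⁻¹ * (x ^ i * y ^ j) := by group
        _ = (x ^ i)⁻¹ * (y ^ i)⁻¹ * (y ^ i * x ^ j) := by
          rw [← e4, (c.zpow_zpow i i).inv_inv.eq]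
        _ = _ := by group
    rw [← mem_bot, ← hd]
    exact ⟨this ▸ zpow_mem (mem_zpowers x) _, zpow_mem (mem_zpowers y) _⟩
  have hr : s * (x ^ i)⁻¹ ∈ S := mul_mem hs (inv_mem (zpow_mem (hTS hx) i))
  have hr' : s * (x ^ i)⁻¹ ∉ T := fun h => hs' ((mul_mem_cancel_right (inv_mem (zpow_mem hx i))).1 h)
  have r2 : s * (x ^ i)⁻¹ * (s * (x ^ i)⁻¹) = 1 := by
    calc s * (x ^ i)⁻¹ * (s * (x ^ i)⁻¹) = (s * x ^ i * s⁻¹)⁻¹ * (s * s) * (x ^ i)⁻¹ := by group
      _ = (y ^ i)⁻¹ * (x ^ i * y ^ j) * (x ^ i)⁻¹ := by rw [e3, ← conj_zpow]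
      _ = y ^ (j - i) := by rw [(c.zpow_zpow i j).eq]; group
      _ = 1 := e5
  have r3 : s * (x ^ i)⁻¹ * x * (s * (x ^ i)⁻¹)⁻¹ = y := by rw [hy']; group
  set r := s * (x ^ i)⁻¹
  have r1 : r ≠ 1 := fun e => hr' (e ▸ one_mem T)
  have cS : Nat.card S = 2 * Nat.card T := by
    obtain ⟨k, hk⟩ := card_dvd_of_le hTS
    have := card_lt_of_lt (lt_of_le_of_ne hTS fun e => hs' (e ▸ hs))
    have h0 := card_pos' T
    rw [hk] at hc this ⊢
    have a1 : 1 < k := by nlinarith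
    have a2 : k ≤ 2 := by nlinarith
    obtain rfl : k = 2 := by omega
    ring
  rcases n with _ | n
  · left
    have x2 : x * x = 1 := mul_self_of_orderOf ho
    have a2 : r * x * (r * x) = y * x := by
      rw [← r3, inv_eq_of_mul_eq_one_right r2]; group
    have o4 : orderOf (r * x) = 4 := orderOf_eq_four (by
      rw [a2]
      refine orderOf_eq_two_of ?_ fun e => h ?_
      · rw [mul_assoc, ← mul_assoc x, c.eq, mul_assoc y, x2, mul_one, mul_self_of_orderOf ho']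
      · simp only [pow_zero, pow_one]
        rw [← hy', eq_inv_of_mul_eq_one_left e, inv_eq_of_mul_eq_one_right x2])
    have ha : r * x ∈ S := mul_mem hr (hTS hx)
    have a3 : r * (r * x) * r⁻¹ = (r * x)⁻¹ := by
      rw [← mul_assoc, r2, one_mul, mul_inv_rev r x, inv_eq_of_mul_eq_one_right x2]
    have hb : r ∉ zpowers (r * x) := fun e => by
      have c1 := (commute_of_mem_zpowers e (mem_zpowers _)).eq
      rw [c1, mul_inv_cancel_right] at a3
      have : (r * x) ^ 2 = 1 := by rw [pow_two]; nth_rewrite 1 [a3]; exact inv_mul_cancel _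
      have := orderOf_dvd_of_pow_eq_one this
      rw [o4] at this
      omega
    refine ⟨orderOf (r * x), by omega, Cls.nonempty_dihedral_equiv' ha hr hb a3
      (by rwa [pow_two]) fun w hw hw' => Cls.mul_mem_of_card_le_two_mul (zpowers_le.2 ha)
      (by rw [Nat.card_zpowers, o4, cS, hcT]; rfl) hr hw hb hw'⟩
  · refine Or.inr ⟨n + 2, by omega, by
      rw [cS, hcT, pow_succ' 2, pow_mul]; rfl, ⟨x, hTS hx⟩, ⟨y, hTS hy⟩, ⟨r, hr⟩, by simpa using ho,
      Subtype.ext c.eq, ?_, by simpa using orderOf_eq_two_of r2 r1, Subtype.ext r3⟩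
    rw [eq_bot_iff]
    rintro w ⟨⟨a, ha⟩, ⟨b, hb⟩⟩
    have : (w : G) ∈ zpowers x ⊓ zpowers y :=
      ⟨⟨a, congrArg Subtype.val ha⟩, ⟨b, congrArg Subtype.val hb⟩⟩
    rw [hd] at this
    exact Subtype.ext this

theorem four_cases (hV : IsKleinFour V) {u w : G} (hz : z ∈ V) (hu : u ∈ V) (hw : w ∈ V)
    (z1 : z ≠ 1) (u1 : u ≠ 1) (h : u ≠ z) : w = 1 ∨ w = z ∨ w = u ∨ w = z * u := by
  by_contra hc
  push Not at hc
  exact hc.2.2.2 (congrArg Subtype.val (IsKleinFour.eq_mul_of_ne_all (x := (⟨z, hz⟩ : V))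
    (y := ⟨u, hu⟩) (z := ⟨w, hw⟩) (by simpa using z1) (by simpa using u1) (by simpa using h.symm)
    (by simpa using hc.1) (by simpa using hc.2.1) (by simpa using hc.2.2.1)))

theorem exists_tri3 (hT : IsPGroup 2 T) (hV : IsKleinFour V) (hVT : V ≤ T) (hc : T ≤ C[V])
    (hi : ∀ w ∈ T, w * w = 1 → w ∈ V) (hz : z ∈ V) (z1 : z ≠ 1) {g u : G} (hg : g ∈ N[T])
    (hu : u ∈ V) (h0 : u ≠ z) (h1 : g * z * g⁻¹ = u) (h2 : g * u * g⁻¹ = z * u) :
    ∃ (a : G) (σ : MulAut T), (∀ w : T, (σ w : G) = a * w * a⁻¹) ∧ Tri3 σ ⟨z, hVT hz⟩ := by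
  have sq : ∀ w ∈ V, w * w = 1 := fun w hw =>
    congrArg Subtype.val (IsKleinFour.mul_self (⟨w, hw⟩ : V))
  have cm : u * z = z * u := mem_centralizer_iff.1 (hc (hVT hz)) u hu
  have h3 : g * (z * u) * g⁻¹ = z := by
    calc g * (z * u) * g⁻¹ = g * z * g⁻¹ * (g * u * g⁻¹) := by group
      _ = z := by rw [h1, h2, ← mul_assoc, cm, mul_assoc, sq u hu, mul_one]
  have c1 : g ^ 3 ∈ C1[z] := mem_cent1.2 (mul_inv_eq_iff_eq_mul.1 (by
    calc g ^ 3 * z * (g ^ 3)⁻¹ = g * (g * (g * z * g⁻¹) * g⁻¹) * g⁻¹ := by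
          rw [pow_three]; group
      _ = z := by rw [h1, h2, h3]))
  have c2 : g ^ 3 ∈ C1[u] := mem_cent1.2 (mul_inv_eq_iff_eq_mul.1 (by
    calc g ^ 3 * u * (g ^ 3)⁻¹ = g * (g * (g * u * g⁻¹) * g⁻¹) * g⁻¹ := by
          rw [pow_three]; group
      _ = u := by rw [h2, h3, h1]))
  obtain ⟨b, r, hr, e⟩ := Nat.exists_eq_pow_mul_and_not_dvd (orderOf_pos g).ne' 3 (by norm_num)
  obtain ⟨k, hk⟩ : ∃ k, r * r = 1 + 3 * k := ⟨r * r / 3, by
    have : r % 3 = 1 ∨ r % 3 = 2 := by omega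
    have : r * r % 3 = 1 := by rcases this with h | h <;> rw [Nat.mul_mod, h]
    omega⟩
  have a1 : ∀ w, g ^ 3 ∈ C1[w] → g ^ (r * r) * w * (g ^ (r * r))⁻¹ = g * w * g⁻¹ := fun w hw => by
    rw [hk, pow_add, pow_one, pow_mul, mul_assoc g, mem_cent1.1 (pow_mem hw k)]; group
  let σ := T.normalizerMonoidHom ⟨g ^ (r * r), pow_mem hg _⟩
  have hσ : ∀ w : T, (σ w : G) = g ^ (r * r) * w * (g ^ (r * r))⁻¹ := fun w => rfl
  have s1 : σ ⟨z, hVT hz⟩ = ⟨u, hVT hu⟩ := Subtype.ext (by rw [hσ, a1 z c1, h1])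
  have u1 : u ≠ 1 := fun e => z1 (by simpa [e] using h1)
  refine ⟨_, σ, hσ, hT, ⟨b, ?_⟩, by simpa using z1, Subtype.ext (sq z hz), fun w hw x =>
    Subtype.ext (mem_centralizer_iff.1 (hc x.2) _ (hi w w.2 (congrArg Subtype.val hw))).symm,
    by simpa [s1] using h0, by rw [s1]; exact Subtype.ext (by rw [hσ, a1 u c2, h2]; rfl),
    fun w hw => ?_⟩
  · rw [← map_pow]
    convert map_one T.normalizerMonoidHom
    refine Subtype.ext ?_
    change (g ^ (r * r)) ^ 3 ^ b = 1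
    rw [← pow_mul, ← orderOf_dvd_iff_pow_eq_one, e]
    exact ⟨r, by ring⟩
  · rw [s1]
    rcases four_cases hV hz hu (hi w w.2 (congrArg Subtype.val hw)) z1 u1 h0 with e | e | e | e
    exacts [Or.inl (Subtype.ext e), Or.inr (Or.inl (Subtype.ext e)),
      Or.inr (Or.inr (Or.inl (Subtype.ext e))), Or.inr (Or.inr (Or.inr (Subtype.ext e)))]

theorem mem_cent1_of_sq (hS : IsPiHallOf {2} S ⊤) {m s : G} (hm : m ∈ N[S]) (hs : S ≤ C1[s])
    (h : m * m ∈ C1[s]) : m ∈ C1[s] := by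
  have : Fintype G := Fintype.ofFinite G
  exact PG.mem_of_pow_mem_of_coprime (m := 2) (by rwa [pow_two])
    (hs (PG.pow_relIndex_mem' le_rfl hm)) (Nat.coprime_two_left.2
      (piNat_two_compl.1 (hS.of_le le_normalizer le_top).idx))

theorem homo_of [Fintype G] (hS : IsPiHallOf {2} S ⊤) (hc : ∀ a ∈ S, ∀ b ∈ S, a * b = b * a)
    {a : G} {σ : MulAut S} {z : S} (ha : ∀ w : S, (σ w : G) = a * w * a⁻¹) (H : Tri3 σ z) :
    Homo S σ z := by
  have an : a ∈ N[S] := mem_normalizer_of_conj_le (conj_le_iff_forall.2 fun w hw =>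
    ha ⟨w, hw⟩ ▸ (σ ⟨w, hw⟩).2)
  have lc : ∀ s : S, S ≤ C1[(s : G)] := fun s w hw => mem_cent1.2 (hc _ hw _ s.2)
  have fix : ∀ m ∈ N[S], m * z * m⁻¹ = z → ∀ s : S, m * s * m⁻¹ = s := by
    intro m hm hz
    let μ := S.normalizerMonoidHom ⟨m, hm⟩
    have hμ : ∀ w : S, (μ w : G) = m * w * m⁻¹ := fun w => rfl
    have sq : ∀ s : S, μ (μ s) = s → μ s = s := fun s h => Subtype.ext (by
      rw [hμ, mem_cent1.1 (mem_cent1_of_sq hS hm (lc s) (mem_cent1.2 (mul_inv_eq_iff_eq_mul.1 (by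
        have := congrArg Subtype.val h
        rw [hμ, hμ] at this
        rw [mul_inv_rev]; simpa only [mul_assoc] using this))))]; group)
    have z0 : μ z = z := Subtype.ext hz
    have z1 : μ (σ z) = σ z := by
      rcases H.inv (μ (σ z)) (by rw [← map_mul, H.sq1, map_one]) with e | e | e | e
      · exact absurd (by simpa using e) H.ne1
      · exact absurd (μ.injective (e.trans z0.symm)) H.ne'
      · exact e
      · exact sq _ (by rw [e, map_mul, z0, e, ← mul_assoc, H.sq, one_mul])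
    have v : ∀ w, w * w = 1 → μ w = w := fun w hw => by
      rcases H.inv w hw with rfl | rfl | rfl | rfl <;> simp [z0, z1]
    have : ∀ (k : ℕ) (s : S), s ^ 2 ^ k = 1 → μ s = s := by
      intro k
      induction k with
      | zero => intro s hs; simp_all
      | succ k ih =>
        intro s hs
        have e1 := ih (s * s) (by rw [← pow_two, ← pow_mul, ← pow_succ', hs])
        have c : Commute s⁻¹ (μ s) := Subtype.ext (hc _ (s⁻¹).2 _ (μ s).2)
        have e2 : s⁻¹ * μ s * (s⁻¹ * μ s) = 1 := by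
          rw [← pow_two, c.mul_pow, pow_two, pow_two, ← map_mul, e1]; group
        refine sq s ?_
        calc μ (μ s) = μ (s * (s⁻¹ * μ s)) := by rw [mul_inv_cancel_left]
          _ = s * (s⁻¹ * μ s * (s⁻¹ * μ s)) := by rw [map_mul, v _ e2]; group
          _ = s := by rw [e2, mul_one]
    intro s
    obtain ⟨k, hk⟩ := H.two s
    exact congrArg Subtype.val (this k s hk)
  refine ⟨hS, isMulCommutative_iff_forall.2 hc, H, fun s => isConj_iff.2 ⟨a, (ha s).symm⟩,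
    fun n hn => ?_⟩
  let μ := S.normalizerMonoidHom ⟨n, hn⟩
  have hμ : ∀ w : S, (μ w : G) = n * w * n⁻¹ := fun w => rfl
  rcases H.inv (μ z) (by rw [← map_mul, H.sq, map_one]) with e | e | e | e
  · exact absurd (by simpa using e) H.ne
  · exact Or.inl (fix n hn (congrArg Subtype.val e))
  · have e' := congrArg Subtype.val e
    rw [hμ, ha] at e'
    refine Or.inr (Or.inl fun s => ?_)
    have := fix (a⁻¹ * n) (mul_mem (inv_mem an) hn) (by
      calc a⁻¹ * n * z * (a⁻¹ * n)⁻¹ = a⁻¹ * (n * z * n⁻¹) * a := by group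
        _ = z := by rw [e']; group) s
    rw [ha]
    calc n * s * n⁻¹ = a * (a⁻¹ * n * s * (a⁻¹ * n)⁻¹) * a⁻¹ := by group
      _ = _ := by rw [this]
  · have e' := congrArg Subtype.val (e.trans H.rot.symm)
    rw [hμ, ha, ha] at e'
    refine Or.inr (Or.inr fun s => ?_)
    have := fix (a⁻¹ * (a⁻¹ * n)) (mul_mem (inv_mem an) (mul_mem (inv_mem an) hn)) (by
      calc a⁻¹ * (a⁻¹ * n) * z * (a⁻¹ * (a⁻¹ * n))⁻¹ = a⁻¹ * (a⁻¹ * (n * z * n⁻¹) * a) * a := by
            simp only [mul_inv_rev, inv_inv, mul_assoc]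
        _ = z := by rw [e']; simp only [mul_assoc, inv_mul_cancel_left, inv_mul_cancel, mul_one]) s
    rw [ha, ha]
    calc n * s * n⁻¹ = a * (a * (a⁻¹ * (a⁻¹ * n) * s * (a⁻¹ * (a⁻¹ * n))⁻¹) * a⁻¹) * a⁻¹ := by
          simp only [mul_inv_rev, inv_inv, mul_assoc, mul_inv_cancel_left, mul_inv_cancel, mul_one]
      _ = _ := by rw [this]

theorem rank_two_of_four [IsSimpleGroup G] (hG : ¬ IsMulCommutative G) (hr : PRankLE 2 2 G)
    (hS : IsPiHallOf {2} S ⊤) (hV : IsKleinFour V) (hVS : V ≤ S) (hn : S ≤ N[V])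
    {F : Type*} [Field F] [Fintype F] (hF : Fintype.card F = 16) (P : Sylow 2 (Cfsg.PSU 3 F 4)) :
    ((∃ n : ℕ, 2 ≤ n ∧ Nonempty (S ≃* DihedralGroup n)) ∨ IsWreathed S) ∨
      Nonempty (S ≃* (P : Subgroup (Cfsg.PSU 3 F 4))) := by
  have : Fact (Nat.Prime 2) := ⟨Nat.prime_two⟩
  have : Fintype G := Fintype.ofFinite G
  have hSp := syl_isPGroup Nat.prime_two hS
  have cV : Nat.card V = 4 := hV.card_four
  have sq : ∀ w ∈ V, w * w = 1 := fun w hw =>
    congrArg Subtype.val (IsKleinFour.mul_self (⟨w, hw⟩ : V))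
  have vc : V ≤ C[V] := isMulCommutative_iff_le_cent.1 IsKleinFour.isMulCommutative
  have eV : IsElementaryAbelian 2 V := PG.isElemAb_iff.2
    ⟨isMulCommutative_iff_forall.1 IsKleinFour.isMulCommutative,
      fun w hw => by rw [pow_two, sq w hw]⟩
  obtain ⟨z, hz, hzS, z1, -⟩ := PG.exists_mem_cent_orderOf_p hSp (hSp.to_le hVS) hn
    (ne_bot_iff_one_lt_card.2 (by omega))
  rw [mem_cent_iff_le_cent1] at hzS
  set T := S ⊓ C[V] with hT
  have hTS : T ≤ S := inf_le_left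
  have hVT : V ≤ T := le_inf hVS vc
  have hTn : S ≤ N[T] := le_norm_inf le_normalizer (le_norm_cent hn)
  have hi : ∀ w ∈ T, w * w = 1 → w ∈ V := fun w hw h => by
    have := PG.pRankLE_iff'.1 hr _ (PG.elemAb_sup_zpowers eV (by rwa [pow_two]) hw.2)
    rw [eq_of_le_of_card_ge (le_sup_left : V ≤ V ⊔ zpowers w) (by omega)]
    exact mem_sup_right (mem_zpowers w)
  have hc : Nat.card S ≤ 2 * Nat.card T := by
    have h1 := Nat.le_of_dvd two_pos (PG.relIndex_cent_dvd_of_card_sq hSp hn cV)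
    rw [← card_inf_mul_relIndex C[V] S, inf_comm, mul_comm]
    exact Nat.mul_le_mul_right _ h1
  have hsq : ∀ s ∈ S, s * s ∈ T := fun s hs => by
    by_cases h : s ∈ T
    exacts [mul_mem h h, Cls.mul_mem_of_card_le_two_mul hTS hc hs hs h h]
  have cV2 : ∀ u ∈ V, u ≠ 1 → u ≠ z → ∀ s, s ∈ C1[z] → s ∈ C1[u] → s ∈ C[V] :=
    fun u hu u1 uz s h1 h2 => mem_centralizer_iff.2 fun w hw => by
      rcases four_cases hV hz hu hw z1 u1 uz with rfl | rfl | rfl | rfl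
      · simp
      · exact (mem_cent1.1 h1).symm
      · exact (mem_cent1.1 h2).symm
      · exact mem_cent1.1 (mul_mem (mem_cent1_comm.1 h1) (mem_cent1_comm.1 h2))
  have swap : ∀ s ∈ S, s ∉ T → ∀ u ∈ V, u ≠ 1 → u ≠ z → s * u * s⁻¹ = z * u := by
    intro s hs hs' u hu u1 uz
    rcases four_cases hV hz hu (conj_mem_of_le_norm hn hs hu) z1 u1 uz with e | e | e | e
    · exact absurd (by simpa using e) u1
    · rw [mul_inv_eq_iff_eq_mul, ← mem_cent1.1 (hzS hs), mul_right_inj] at e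
      exact absurd e uz
    · exact absurd ⟨hs, cV2 u hu u1 uz s (hzS hs) (mem_cent1.2 (mul_inv_eq_iff_eq_mul.1 e))⟩ hs'
    · exact e
  obtain ⟨u, hu, u1, uz⟩ : ∃ u ∈ V, u ≠ 1 ∧ u ≠ z := by
    obtain ⟨u, hu, hu'⟩ := SetLike.not_le_iff_exists.1 fun h : V ≤ zpowers z => by
      have := card_le_of_le h
      rw [Nat.card_zpowers, orderOf_eq_two_of (sq z hz) z1] at this
      omega
    exact ⟨u, hu, fun e => hu' (e ▸ one_mem _), fun e => hu' (e ▸ mem_zpowers _)⟩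
  by_cases hTV : T ≤ V
  · left
    by_cases hST : S ≤ T
    · obtain rfl := le_antisymm hVS (hST.trans hTV)
      exact Or.inl ⟨2, le_rfl, IsKleinFour.nonempty_mulEquiv⟩
    obtain ⟨s, hs, hs'⟩ := SetLike.not_le_iff_exists.1 hST
    refine wreath (n := 0) hTS hTn hc (fun a ha b hb => mem_centralizer_iff.1 hb.2 a (hTV ha))
      (by rw [le_antisymm hTV hVT, cV]; rfl) (hVT hu) (orderOf_eq_two_of (sq u hu) u1) hs hs' ?_
    simpa [swap s hs hs' u hu u1 uz] using z1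
  have key : ∀ t ∈ S, IsConj z t → ∃ g, g * t * g⁻¹ = z ∧ cj[g] (S ⊓ C1[t]) ≤ S ∧
      g * z * g⁻¹ ∈ V := by
    intro t ht h
    obtain ⟨g, h1, h2⟩ := exists_extremal hS hzS h
    have t2 : t * t = 1 := by
      obtain ⟨c, rfl⟩ := isConj_iff.1 h
      exact conj_invol (sq z hz) c
    refine ⟨g, h1, h2, hi _ ?_ (conj_invol (sq z hz) g)⟩
    by_cases hST : S ≤ T
    · exact hST (h2 (conj_mem_conj.2 ⟨hVS hz, mem_cent1_comm.1 (hzS ht)⟩))
    obtain ⟨s, hs, hs'⟩ := SetLike.not_le_iff_exists.1 hST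
    obtain ⟨w, hw, hw', w2, wc⟩ := PG.exists_not_mem_centMod hSp hTS hTn hn hTV
    rw [pow_two] at w2
    have cj : ∀ s ∈ S, ∃ v ∈ V, s * w * s⁻¹ = v * w := fun s hs =>
      ⟨⁅s, w⁆, PG.commutator_mem_comm.1 (wc s hs), by group⟩
    have sqv : ∀ v ∈ V, v * w * (v * w) = w * w := fun v hv => by
      rw [mul_assoc, ← mul_assoc w, ← mem_centralizer_iff.1 hw.2 v hv, ← mul_assoc, ← mul_assoc,
        sq v hv, one_mul]
    have wz : w * w = z := by
      by_contra h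
      obtain ⟨v, hv, e⟩ := cj s hs
      have e1 := swap s hs hs' _ w2 (fun e => hw' (hi w hw e)) h
      rw [show s * (w * w) * s⁻¹ = s * w * s⁻¹ * (s * w * s⁻¹) by group, e, sqv v hv] at e1
      exact z1 (by simpa using e1)
    obtain ⟨d, hd, d2⟩ : ∃ d ∈ S ⊓ C1[t], d * d = z := by
      by_cases htT : t ∈ T
      · exact ⟨w, ⟨hTS hw, cent_le_cent1 (hi t htT t2) hw.2⟩, wz⟩
      obtain ⟨v, hv, e⟩ := cj t ht
      by_cases v1 : v = 1
      · rw [v1, one_mul] at e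
        exact ⟨w, ⟨hTS hw, mem_cent1.2 (mul_inv_eq_iff_eq_mul.1 e).symm⟩, wz⟩
      by_cases vz : v = z
      · refine ⟨u * w, ⟨mul_mem (hVS hu) (hTS hw), mem_cent1.2 (mul_inv_eq_iff_eq_mul.1 ?_).symm⟩,
          by rw [sqv u hu, wz]⟩
        calc t * (u * w) * t⁻¹ = t * u * t⁻¹ * (t * w * t⁻¹) := by group
          _ = z * (u * z) * w := by rw [swap t ht htT u hu u1 uz, e, vz]; group
          _ = u * w := by
            rw [mem_cent1.1 (hzS (hVS hu)), ← mul_assoc, sq z hz, one_mul]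
      exfalso
      have e1 : w = z * w := by
        calc w = t * t * w * (t * t)⁻¹ := by rw [t2]; group
          _ = t * (t * w * t⁻¹) * t⁻¹ := by rw [mul_inv_rev]; simp only [mul_assoc]
          _ = t * v * t⁻¹ * (t * w * t⁻¹) := by rw [e]; nth_rewrite 2 [← e]; group
          _ = z * w := by rw [swap t ht htT v hv v1 vz, e, mul_assoc, ← mul_assoc v, sq v hv, one_mul]
      exact z1 (by simpa using e1)
    rw [← d2, show g * (d * d) * g⁻¹ = g * d * g⁻¹ * (g * d * g⁻¹) by group]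
    exact hsq _ (h2 (conj_mem_conj.2 hd))
  have ne : ∀ g t : G, t ≠ z → g * t * g⁻¹ = z → g * z * g⁻¹ ≠ z := fun g t h e e' =>
    h (by simpa using e.trans e'.symm)
  obtain ⟨t0, ht0, t0z, c0⟩ := exists_conj_invol hG hS hzS (sq z hz) z1
  obtain ⟨g0, e0, -, ht⟩ := key t0 ht0 c0
  have tz := ne _ _ t0z e0
  have t1 : g0 * z * g0⁻¹ ≠ 1 := by simpa using z1
  obtain ⟨g, e1, e2, ht'⟩ := key _ (hVS ht) (isConj_iff.2 ⟨g0, rfl⟩)
  have tz' := ne _ _ tz e1
  have t1' : g * z * g⁻¹ ≠ 1 := by simpa using z1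
  set t := g0 * z * g0⁻¹
  have hg : g ∈ N[T] := mem_normalizer_of_conj_le (conj_le_iff_forall.2 fun w hw =>
    ⟨e2 (conj_mem_conj.2 ⟨hTS hw, cent_le_cent1 ht hw.2⟩), cV2 _ ht' t1' tz' _
      (by rw [← e1, ← conj_cent1]; exact conj_mem_conj.2 (cent_le_cent1 ht hw.2))
      (by rw [← conj_cent1]; exact conj_mem_conj.2 (cent_le_cent1 hz hw.2))⟩)
  obtain ⟨a, σ, ha, H⟩ : ∃ (a : G) (σ : MulAut T), (∀ w : T, (σ w : G) = a * w * a⁻¹) ∧
      Tri3 σ ⟨z, hVT hz⟩ := by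
    have X := fun {g u : G} => exists_tri3 (g := g) (u := u) (hSp.to_le hTS) hV hVT inf_le_right
      hi hz z1
    rcases four_cases hV hz ht ht' z1 t1 tz with e | e | e | e
    · exact absurd e t1'
    · exact absurd e tz'
    · by_cases hST : S ≤ T
      · refine absurd (mul_inv_eq_iff_eq_mul.2 (mem_cent1.1 (mem_cent1_of_sq hS
          (le_antisymm hTS hST ▸ hg) hzS (mem_cent1.2 (mul_inv_eq_iff_eq_mul.1 ?_))))) tz'
        calc g * g * z * (g * g)⁻¹ = g * (g * z * g⁻¹) * g⁻¹ := by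
              rw [mul_inv_rev]; simp only [mul_assoc]
          _ = z := by rw [e, e1]
      obtain ⟨s, hs, hs'⟩ := SetLike.not_le_iff_exists.1 hST
      refine X (mul_mem hg (hTn hs)) ht tz ?_ ?_
      · rw [mul_assoc g, mem_cent1.1 (hzS hs), ← e]; group
      · calc g * s * t * (g * s)⁻¹ = g * (s * t * s⁻¹) * g⁻¹ := by group
          _ = g * z * g⁻¹ * (g * t * g⁻¹) := by rw [swap s hs hs' t ht t1 tz]; group
          _ = z * t := by rw [e, e1, mem_cent1.1 (hzS (hVS ht))]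
    · refine X hg ht' tz' rfl ?_
      calc g * (g * z * g⁻¹) * g⁻¹ = g * (z * t) * g⁻¹ := by rw [← e]
        _ = g * z * g⁻¹ * (g * t * g⁻¹) := by group
        _ = _ := by rw [e1, mem_cent1.1 (hzS (hVS ht'))]
  have v1 : ((σ ⟨z, hVT hz⟩ : T) : G) ∈ V := hi _ (σ _).2 (congrArg Subtype.val H.sq1)
  have v2 : ((σ ⟨z, hVT hz⟩ : T) : G) ≠ 1 := fun e => H.ne1 (Subtype.ext e)
  have v3 : ((σ ⟨z, hVT hz⟩ : T) : G) ≠ z := fun e => H.ne' (Subtype.ext e)
  rcases H.higman with ⟨n, x, h1, h2, h3⟩ | ⟨E, h1, x, y, U, h2⟩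
  · have cT := H.card_spn h1 h2
    rw [h3, card_top] at cT
    have cm : ∀ a ∈ T, ∀ b ∈ T, a * b = b * a := fun a ha b hb => congrArg Subtype.val
      (H.spn_comm (x := x) (a := ⟨a, ha⟩) (b := ⟨b, hb⟩) (h3 ▸ mem_top _) (h3 ▸ mem_top _))
    by_cases hST : S ≤ T
    · refine ((homo_of (le_antisymm hST hTS ▸ hS) cm ha H).false hG ?_).elim
      have := card_lt_of_lt (lt_of_le_of_ne hVT fun e => hTV e.ge)
      rw [cT] at this ⊢
      rcases n with _ | n
      · omega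
      · exact Nat.pow_le_pow_right (n := 4) (i := 2) (by norm_num) (by omega)
    obtain ⟨s, hs, hs'⟩ := SetLike.not_le_iff_exists.1 hST
    refine Or.inl (wreath hTS hTn hc cm cT (σ x).2 (by rw [orderOf_coe, σ.orderOf_eq, h1]) hs hs' ?_)
    rw [← coe_pow, ← map_pow, h2, swap s hs hs' _ v1 v2 v3]
    simpa using z1
  · by_cases hST : S ≤ T
    · obtain ⟨e⟩ := H.equiv_sylow h1 U h2 hF P
      exact Or.inr ⟨(MulEquiv.subgroupCongr (le_antisymm hST hTS)).trans e⟩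
    obtain ⟨s, hs, hs'⟩ := SetLike.not_le_iff_exists.1 hST
    refine (H.no_swap E U (T.normalizerMonoidHom ⟨s, hTn hs⟩) ⟨s * s, hsq s hs⟩
      (fun w => Subtype.ext ?_) (Subtype.ext ?_) fun e => ?_).elim
    · change s * (s * w * s⁻¹) * s⁻¹ = s * s * w * (s * s)⁻¹
      rw [mul_inv_rev]; simp only [mul_assoc]
    · exact mul_inv_eq_iff_eq_mul.2 (mem_cent1.1 (hzS hs))
    · have : s * _ * s⁻¹ = _ := congrArg Subtype.val e
      rw [swap s hs hs' _ v1 v2 v3] at this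
      exact z1 (by simpa using this)

theorem rank_two [IsSimpleGroup G] (hG : ¬ IsMulCommutative G) (hr : PRankLE 2 2 G)
    (hS : IsPiHallOf {2} S ⊤) (h0 : S ≠ ⊥)
    {F : Type*} [Field F] [Fintype F] (hF : Fintype.card F = 16) (P : Sylow 2 (Cfsg.PSU 3 F 4)) :
    (∃ n : ℕ, 2 ≤ n ∧ Nonempty (S ≃* DihedralGroup n)) ∨ IsQuasiDihedral S ∨ IsWreathed S ∨
      Nonempty (S ≃* (P : Subgroup (Cfsg.PSU 3 F 4))) := by
  have : Fact (Nat.Prime 2) := ⟨Nat.prime_two⟩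
  have hSp := syl_isPGroup Nat.prime_two hS
  by_cases hn : ∀ A : Subgroup G, A ≤ S → S ≤ N[A] → IsMulCommutative A → IsCyclic A
  swap
  · push Not at hn
    obtain ⟨A, h1, h2, h3, h4⟩ := hn
    have e := PG.elemAb_omegaOne (p := 2) h3
    have c : Nat.card (omegaOne 2 A) = 4 := le_antisymm (PG.pRankLE_iff'.1 hr _ e)
      (PG.sq_le_card_omegaOne_of_comm (hSp.to_le h1) h3 h4)
    have := rank_two_of_four hG hr hS (V := omegaOne 2 A) ⟨c, PG.exponent_eq_prime Nat.prime_two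
      (fun x hx => PG.elemAb_pow e hx) (ne_bot_iff_one_lt_card.2 (by omega))⟩
      ((PG.omegaOne_le 2 A).trans h1) (PG.le_norm_omegaOne h2) hF P
    rcases this with (h | h) | h
    exacts [Or.inl h, Or.inr (Or.inr (Or.inl h)), Or.inr (Or.inr (Or.inr h))]
  obtain ⟨z, hz, hzS, z1, z2⟩ := PG.exists_mem_cent_orderOf_p hSp hSp le_normalizer h0
  obtain ⟨t, ht, tz, c⟩ := exists_conj_invol hG hS (mem_cent_iff_le_cent1.1 hzS)
    (by rwa [← pow_two]) z1
  obtain ⟨g, rfl⟩ := isConj_iff.1 c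
  have t1 : g * z * g⁻¹ ≠ 1 := by simpa using z1
  have t2 : (g * z * g⁻¹) ^ 2 = 1 := by rw [conj_pow, z2]; simp
  set t := g * z * g⁻¹
  obtain ⟨a, ha, n, ho, hc, h1, h2⟩ := Cls.two_group_cyclic_normal hSp hn fun h => by
    have := PG.eq_of_isCyclic_of_card_eq Nat.prime_two h (zpowers_le.2 hz) (zpowers_le.2 ht)
      (PG.card_zpowers_eq_prime Nat.prime_two z2 z1) (PG.card_zpowers_eq_prime Nat.prime_two t2 t1)
    rcases Cls.eq_one_or_eq_of_sq (n := 0) (PG.orderOf_eq_prime' Nat.prime_two z2 z1)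
      (this ▸ mem_zpowers t) t2 with e | e
    exacts [t1 e, tz (by simpa using e)]
  obtain ⟨b, hb, hb', b1, b2⟩ : ∃ b ∈ S, b ∉ zpowers a ∧ b ≠ 1 ∧ b ^ 2 = 1 := by
    by_cases e : z ∈ zpowers a
    · refine ⟨t, ht, fun e' => tz ?_, t1, t2⟩
      rw [(Cls.eq_one_or_eq_of_sq ho e z2).resolve_left z1,
        (Cls.eq_one_or_eq_of_sq ho e' t2).resolve_left t1]
    · exact ⟨z, hz, e, z1, z2⟩
  rcases h2 b hb hb' with e | ⟨e1, e⟩
  · refine Or.inl ⟨orderOf a, ?_, Cls.nonempty_dihedral_equiv' ha hb hb' e b2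
      fun c hc hc' => h1 b hb c hc hb' hc'⟩
    rw [ho]
    exact Nat.le_self_pow (by omega) 2
  · exact Or.inr (Or.inl ⟨n + 2, by omega, hc, ⟨a, ha⟩, ⟨b, hb⟩, by simpa using ho,
      by simpa using PG.orderOf_eq_prime' Nat.prime_two b2 b1, Subtype.ext e⟩)

end Cfsg.Agent.BS
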