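import Cfsg.Agent.BS.Invol
import Cfsg.Agent.Cls.TwoGroups

/-!
# Brauer–Suzuki: generalised quaternion Sylow 2-subgroups of order at least 16
-/

set_option autoImplicit false
set_option linter.unusedSectionVars false

namespace Cfsg.Agent.BS

open Cfsg Cfsg.Agent.Char Cfsg.Agent.GT Subgroup
open scoped ComplexConjugate

universe u v

section
variable {G : Type u} [Group G] [Finite G]

theorem mem_zpowers_of_orderOf_dvd {a w w' : G} (hw : w ∈ zpowers a) (hw' : w' ∈ zpowers a)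
    (h : orderOf w' ∣ orderOf w) : w' ∈ zpowers w := by
  obtain ⟨i, rfl⟩ := PG.exists_nat_pow_of_mem_zpowers hw
  obtain ⟨j, rfl⟩ := PG.exists_nat_pow_of_mem_zpowers hw'
  have hN := orderOf_pos a
  have h1 : orderOf a ∣ j * (orderOf a / (orderOf a).gcd i) := by
    rw [orderOf_dvd_iff_pow_eq_one, pow_mul, ← orderOf_pow a, ← orderOf_dvd_iff_pow_eq_one]
    exact h
  obtain ⟨m, hm⟩ := Nat.gcd_dvd_left (orderOf a) i
  have hd := Nat.gcd_pos_of_pos_left i hN
  have h2 : orderOf a / (orderOf a).gcd i = m := by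
    nth_rewrite 1 [hm]; exact Nat.mul_div_cancel_left _ hd
  rw [h2] at h1
  nth_rewrite 1 [hm] at h1
  have hm0 : 0 < m := Nat.pos_of_ne_zero (by rintro rfl; omega)
  obtain ⟨k, rfl⟩ := Nat.dvd_of_mul_dvd_mul_right hm0 h1
  rw [pow_mul]
  refine pow_mem ?_ k
  refine ⟨Nat.gcdB (orderOf a) i, ?_⟩
  simp only
  rw [← zpow_natCast a ((orderOf a).gcd i), Nat.gcd_eq_gcd_ab, zpow_add, zpow_mul, zpow_mul,
    zpow_natCast, zpow_natCast, pow_orderOf_eq_one, one_zpow, one_mul]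

theorem RankOne.pRankLE (h : RankOne G) (H : Subgroup G) : PRankLE 2 1 H := by
  rw [PG.pRankLE_iff]
  intro E _ hE
  by_cases hb : E = ⊥
  · simp [hb]
  obtain ⟨a, ha, h1⟩ := (bot_or_exists_ne_one E).resolve_left hb
  have ha2 : orderOf a = 2 := orderOf_eq_prime (hE.2 a ha) h1
  have : E ≤ zpowers a := by
    intro b hb
    by_cases hb1 : b = 1
    · rw [hb1]; exact one_mem _
    · rw [h b a (orderOf_eq_prime (hE.2 b hb) hb1) ha2
        (congrArg Subtype.val (hE.1.1.1 ⟨b, hb⟩ ⟨a, ha⟩))]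
      exact mem_zpowers a
  simpa [Nat.card_zpowers, ha2] using card_le_of_le this

theorem orderOf_eq_four {b : G} (h : orderOf (b * b) = 2) : orderOf b = 4 := by
  have : Fact (Nat.Prime 2) := ⟨Nat.prime_two⟩
  refine orderOf_eq_prime_pow (p := 2) (n := 1) ?_ ?_
  · rw [pow_one, pow_two]; exact ne_one_of_orderOf_two h
  · rw [show 2 ^ (1 + 1) = 2 * 2 by norm_num, pow_mul, pow_two b, ← h, pow_orderOf_eq_one]

theorem RankOne.quat (h : RankOne G) {P : Subgroup G} (hP : IsPGroup 2 P) (hc : ¬ IsCyclic P) :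
    ∃ a ∈ P, ∃ n : ℕ, orderOf a = 2 ^ (n + 2) ∧ Nat.card P = 2 ^ (n + 3) ∧
      ∀ b ∈ P, b ∉ zpowers a → b * a * b⁻¹ = a⁻¹ ∧ orderOf b = 4 := by
  have : Fact (Nat.Prime 2) := ⟨Nat.prime_two⟩
  obtain ⟨a, ha, n, ho, hcard, h1, h2⟩ := Cls.two_group_cyclic_normal hP
    (fun A hA _ hc => PG.isCyclic_of_comm_of_pRankLE_one (hP.to_le hA) hc (h.pRankLE A)) hc
  have hzo : orderOf (a ^ 2 ^ (n + 1)) = 2 := Cls.orderOf_pow_two_pow ho
  have key : ∀ b ∈ P, b ∉ zpowers a → b * b = a ^ 2 ^ (n + 1) := by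
    intro b hb hb'
    have hb2 : b * b ∈ zpowers a := h1 b hb b hb hb' hb'
    obtain ⟨m, hm⟩ := PG.exists_nat_pow_of_mem_zpowers hb2
    have hfix : b * a ^ m * b⁻¹ = a ^ m := by rw [← hm]; group
    have hn : b * a * b⁻¹ ∈ zpowers a := by
      rcases h2 b hb hb' with h4 | ⟨-, h4⟩
      · rw [h4]; exact inv_mem (mem_zpowers a)
      · rw [h4]; exact pow_mem (mem_zpowers a) _
    have h5 : (b * b) ^ 2 = 1 := by
      rcases h2 b hb hb' with h4 | ⟨hn1, h4⟩
      · rw [← conj_pow, h4, inv_pow] at hfix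
        rw [hm, sq]
        nth_rewrite 1 [← hfix]
        exact inv_mul_cancel _
      · rw [← conj_pow, h4, ← pow_mul, pow_eq_pow_iff_modEq, ho] at hfix
        rw [hm, ← pow_mul, ← orderOf_dvd_iff_pow_eq_one, ho]
        obtain ⟨n, rfl⟩ : ∃ n', n = n' + 1 := ⟨n - 1, by omega⟩
        obtain ⟨r, hr⟩ : ∃ r, 2 ^ (n + 1) = r + 1 := ⟨2 ^ (n + 1) - 1, by
          have : 1 ≤ 2 ^ (n + 1) := Nat.one_le_two_pow
          omega⟩
        have hro : Odd r := by
          have : Even (r + 1) := by rw [← hr]; exact (Nat.even_pow' (by omega)).2 even_two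
          rwa [Nat.even_add_one, Nat.not_even_iff_odd] at this
        have e : (2 ^ (n + 1 + 1) - 1) * m = m + r * (m * 2) := by
          rw [pow_succ, hr, show (r + 1) * 2 - 1 = 1 + r * 2 by omega]; ring
        rw [e] at hfix
        have := (Nat.modEq_iff_dvd' (by omega)).1 hfix.symm
        rw [Nat.add_sub_cancel_left] at this
        exact (Nat.Coprime.pow_left _ (Nat.coprime_two_left.2 hro)).dvd_of_dvd_mul_left this
    rcases Cls.eq_one_or_eq_of_sq ho hb2 h5 with h6 | h6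
    · exfalso
      have hb1 : b ≠ 1 := fun e => hb' (e ▸ one_mem _)
      have e1 : b * a ^ 2 ^ (n + 1) * b⁻¹ = a ^ 2 ^ (n + 1) :=
        h _ _ (by rw [GT.orderOf_conj, hzo]) hzo (commute_of_mem_zpowers
          (by rw [← conj_pow]; exact pow_mem hn _) (pow_mem (mem_zpowers a) _))
      exact hb' (h _ _ (orderOf_eq_two_of h6 hb1) hzo (mul_inv_eq_iff_eq_mul.1 e1) ▸
        pow_mem (mem_zpowers a) _)
    · exact h6
  refine ⟨a, ha, n, ho, hcard, fun b hb hb' => ⟨?_, orderOf_eq_four (by rw [key b hb hb', hzo])⟩⟩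
  have e := key (a * b) (mul_mem ha hb) fun h' => hb' ((mul_mem_cancel_left (mem_zpowers a)).1 h')
  rw [← key b hb hb'] at e
  calc b * a * b⁻¹ = a⁻¹ * (a * b * (a * b)) * (b * b)⁻¹ := by group
    _ = a⁻¹ := by rw [e]; group

theorem exists_lam {C : Type u} [Group C] [Finite C] (x : C) {n : ℕ} (hx : orderOf x = 2 ^ (n + 2))
    (hP : ∀ Q : Subgroup C, IsPGroup 2 Q → x ∈ Q → Q ≤ zpowers x) :
    ∃ l : C →* ℂˣ, l x ^ 2 = -1 ∧ (∀ c, l c ^ 4 = 1) ∧
      ∀ c, ∃ (d : C) (j : ℕ), d * constt {2} c * d⁻¹ = x ^ j ∧ l c = l x ^ j := by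
  have : Fact (Nat.Prime 2) := ⟨Nat.prime_two⟩
  have hxp : IsPGroup 2 (zpowers x) := PG.isPGroup_of_card_eq_pow (by rw [Nat.card_zpowers, hx])
  obtain ⟨P, hxP⟩ := hxp.exists_le_sylow
  have hPx : (P : Subgroup C) = zpowers x :=
    le_antisymm (hP _ P.2 (hxP (mem_zpowers x))) hxP
  have hxP' : x ∈ (P : Subgroup C) := hxP (mem_zpowers x)
  have h2 : (Nat.card C).minFac = 2 := (Nat.minFac_eq_two_iff _).2
    (Dvd.dvd.trans (by rw [hx]; exact dvd_pow_self 2 (by omega)) (orderOf_dvd_natCard x))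
  have hc : IsCyclic P := by rw [hPx]; infer_instance
  have hN := IsCyclic.normalizer_le_centralizer h2 hc
  obtain ⟨I, hI⟩ : ∃ I : ℂˣ, I ^ 2 = -1 := ⟨Units.mk0 Complex.I Complex.I_ne_zero, by
    ext; simp⟩
  have hI4 : I ^ 4 = 1 := by rw [show 4 = 2 * 2 by norm_num, pow_mul, hI]; simp
  have hg : ∀ y : P, y ∈ zpowers (⟨x, hxP'⟩ : P) := by
    rintro ⟨y, hy⟩
    obtain ⟨k, rfl⟩ : y ∈ zpowers x := hPx ▸ hy
    exact ⟨k, Subtype.ext (by simp)⟩
  have hg' : orderOf I ∣ orderOf (⟨x, hxP'⟩ : P) := by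
    rw [← orderOf_coe, hx]
    exact (orderOf_dvd_of_pow_eq_one hI4).trans ⟨2 ^ n, by ring⟩
  obtain ⟨μ, hμ⟩ : ∃ μ : P →* ℂˣ, μ ⟨x, hxP'⟩ = I :=
    ⟨_, monoidHomOfForallMemZpowers_apply_gen hg hg'⟩
  have h4 : ∀ c, (μ.comp (MonoidHom.transferSylow P hN)) c ^ 4 = 1 := by
    intro c
    obtain ⟨k, hk⟩ := hg (MonoidHom.transferSylow P hN c)
    rw [MonoidHom.comp_apply, ← hk]
    simp only [map_zpow, hμ]
    rw [← zpow_natCast, ← zpow_mul, mul_comm, zpow_mul, zpow_natCast, hI4, one_zpow]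
  refine ⟨μ.comp (MonoidHom.transferSylow P hN), ?_, h4, fun c => ?_⟩
  · have : MonoidHom.transferSylow P hN x = ⟨x, hxP'⟩ ^ (P : Subgroup C).index := by
      rw [MonoidHom.transferSylow_eq_pow P hN x hxP']; rfl
    rw [MonoidHom.comp_apply, this, map_pow, hμ, ← pow_mul, mul_comm, pow_mul, hI]
    exact Odd.neg_one_pow (Nat.odd_iff.2 (Nat.two_dvd_ne_zero.1 P.not_dvd_index))
  · generalize μ.comp (MonoidHom.transferSylow P hN) = l at h4
    obtain ⟨d, -, hd⟩ := syl_exists_conj_le Nat.prime_two (syl_top_of_sylow Nat.prime_two P)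
      ((isPGroup_zpowers_iff Nat.prime_two).2 (piNat_constt {2} c)) le_top
    rw [conj_zpowers, zpowers_le, hPx] at hd
    obtain ⟨j, hj⟩ := PG.exists_nat_pow_of_mem_zpowers hd
    refine ⟨d, j, hj, ?_⟩
    have : Fintype C := Fintype.ofFinite C
    have h1 : l (constt {2}ᶜ c) = 1 := by
      rw [← orderOf_eq_one_iff]
      exact Nat.eq_one_of_dvd_coprimes
        ((Nat.coprime_two_right.2 (piNat_two_compl.1 (piNat_constt {2}ᶜ c))).pow_right 2)
        (orderOf_map_dvd l _) (orderOf_dvd_of_pow_eq_one (h4 _))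
    rw [← map_pow, ← hj, map_mul, map_mul, map_inv, mul_inv_cancel_comm]
    nth_rewrite 1 [← constt_mul_constt_compl {2} c]
    rw [map_mul, h1, mul_one]

theorem conj_eq_or_inv {x g : G} (hx : PiNat {2} (orderOf x))
    (hS : ∀ Q : Subgroup G, IsPGroup 2 Q → x ∈ Q → ∀ g ∈ Q, g ∈ zpowers x ∨ g * x * g⁻¹ = x⁻¹)
    {u : G} (hu : u ∈ zpowers x) (hg : g * u * g⁻¹ ∈ zpowers u) :
    g * u * g⁻¹ = u ∨ g * u * g⁻¹ = u⁻¹ := by
  have : Fact (Nat.Prime 2) := ⟨Nat.prime_two⟩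
  have : Fintype G := Fintype.ofFinite G
  have hgN := PG.mem_norm_zpowers_of_conj_mem hg
  have hup : IsPGroup 2 (zpowers u) :=
    (isPGroup_zpowers_iff Nat.prime_two).2 (PiNat.orderOf_of_mem_zpowers hx hu)
  have h1 : constt {2}ᶜ g * u = u * constt {2}ᶜ g := by
    have := PG.le_cent_of_isCyclic_of_coprime (A := zpowers (constt {2}ᶜ g)) inferInstance hup
      (zpowers_le.2 (constt_mem _ hgN)) (by
        rw [Nat.card_zpowers]
        exact Nat.coprime_two_right.2 (piNat_two_compl.1 (piNat_constt _ _))) (by simp)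
    exact (this (mem_zpowers _) u (mem_zpowers u)).symm
  have hxN : zpowers x ≤ N[zpowers u] := le_norm_of_cent fun a ha b hb =>
    (commute_of_mem_zpowers (zpowers_le.2 hu hb) ha).eq
  obtain ⟨S, hS1, hS2⟩ := exists_syl_ge Nat.prime_two ((isPGroup_zpowers_iff Nat.prime_two).2 hx) hxN
  obtain ⟨m, hm, hd⟩ := syl_exists_conj_le Nat.prime_two hS1
    ((isPGroup_zpowers_iff Nat.prime_two).2 (piNat_constt {2} g)) (zpowers_le.2 (constt_mem _ hgN))
  rw [conj_zpowers, zpowers_le] at hd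
  have hw : m * u * m⁻¹ ∈ zpowers x := zpowers_le.2 hu (conj_mem_of_mem_norm hm (mem_zpowers u))
  have e : g * u * g⁻¹ = m⁻¹ * ((m * constt {2} g * m⁻¹) * (m * u * m⁻¹) *
      (m * constt {2} g * m⁻¹)⁻¹) * m := by
    calc g * u * g⁻¹ = constt {2} g * (constt {2}ᶜ g * u) * (constt {2} g * constt {2}ᶜ g)⁻¹ := by
          rw [← mul_assoc, constt_mul_constt_compl]
      _ = _ := by rw [h1]; group
  rcases hS S (syl_isPGroup Nat.prime_two hS1) (hS2 (mem_zpowers x)) _ hd with h2 | h2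
  · left
    rw [e, (commute_of_mem_zpowers h2 hw).eq]; group
  · right
    obtain ⟨k, hk⟩ := hw
    simp only at hk
    rw [e, ← hk, ← conj_zpow, h2, inv_zpow, hk]; group

end

variable {G : Type u} [Group G] [Fintype G]

theorem indFun_apply_two (C : Subgroup G) {φ : C → ℂ} (hφ : IsClassFunction C φ) {y : G}
    (hy : y ∉ C) (a : C) (ha : y⁻¹ * a * y ∈ C)
    (h : ∀ (g : G) (hg : g⁻¹ * a * g ∈ C), φ ⟨_, hg⟩ ≠ 0 → g ∈ C ∨ y⁻¹ * g ∈ C) :
    indFun C φ a = φ a + φ ⟨_, ha⟩ := by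
  classical
  have h0 := card_ne_zero_complex C
  have e : ∀ g : G, extendByZero C φ (g⁻¹ * a * g) =
      (if g ∈ C then φ a else 0) + if y⁻¹ * g ∈ C then φ ⟨_, ha⟩ else 0 := by
    intro g
    by_cases h1 : g ∈ C
    · have h2 : y⁻¹ * g ∉ C := fun h2 => hy (by simpa using mul_mem h1 (inv_mem h2))
      rw [if_pos h1, if_neg h2, add_zero, ← hφ.conj' a ⟨g, h1⟩, ← extendByZero_coe C φ]; rfl
    · rw [if_neg h1, zero_add]
      split_ifs with h2
      · rw [← hφ.conj' ⟨_, ha⟩ ⟨_, h2⟩, ← extendByZero_coe C φ]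
        congr 1
        simp only [coe_mul, coe_inv]; group
      · by_cases h3 : g⁻¹ * a * g ∈ C
        · rw [extendByZero_of_mem _ _ h3]
          by_contra h4
          rcases h g h3 h4 with h5 | h5
          exacts [h1 h5, h2 h5]
        · exact extendByZero_of_not_mem _ _ h3
  have s : ∀ c : ℂ, ∑ g : G, (if g ∈ C then c else 0) = Nat.card C * c := fun c => by
    rw [← sum_subgroup_eq_sum_ite C (fun _ => c)]; simp
  have s' : ∑ g : G, (if y⁻¹ * g ∈ C then φ ⟨_, ha⟩ else 0) = Nat.card C * φ ⟨_, ha⟩ := by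
    rw [← s]
    exact Fintype.sum_equiv (Equiv.mulLeft y⁻¹) _ _ fun g => rfl
  simp only [indFun, e, Finset.sum_add_distrib, s, s']
  field_simp

theorem kerZ_big (h : RankOne G) {x y z : G} {n : ℕ} (hx : orderOf x = 2 ^ (n + 3))
    (hy : y * x * y⁻¹ = x⁻¹)
    (hS : ∀ Q : Subgroup G, IsPGroup 2 Q → x ∈ Q → ∀ g ∈ Q, g ∈ zpowers x ∨ g * x * g⁻¹ = x⁻¹)
    (hz : orderOf z = 2) : KerZ z := by
  classical
  have hx2 : PiNat {2} (orderOf x) := by rw [hx]; exact piNat_single_pow Nat.prime_two _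
  have hne : x ^ 2 ≠ (x ^ 2)⁻¹ := by
    intro e
    have : x ^ 4 = 1 := by rw [show 4 = 2 + 2 by norm_num, pow_add]; nth_rewrite 1 [e]; simp
    rw [← orderOf_dvd_iff_pow_eq_one, hx] at this
    have := Nat.le_of_dvd (by norm_num) this
    have h8 : 2 ^ 3 ≤ 2 ^ (n + 3) := Nat.pow_le_pow_right (by norm_num) (by omega)
    omega
  have hinv : ∀ g : G, g * x * g⁻¹ = x⁻¹ → g * x ^ 2 * g⁻¹ = (x ^ 2)⁻¹ := fun g hg => by
    rw [← conj_pow, hg, inv_pow]
  obtain ⟨C, hC⟩ : ∃ C : Subgroup G, ∀ g, g ∈ C ↔ g * x ^ 2 * g⁻¹ = x ^ 2 :=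
    ⟨C1[x ^ 2], fun g => by rw [mem_cent1, mul_inv_eq_iff_eq_mul]⟩
  have hxC : x ∈ C := (hC x).2 (by group)
  obtain ⟨l, hl2, hl4, hl⟩ := exists_lam (⟨x, hxC⟩ : C) (n := n + 1) (by rw [← orderOf_coe, hx])
    (fun Q hQ hxQ g hg => by
      rcases hS (Q.map C.subtype) (hQ.map _) ⟨_, hxQ, rfl⟩ g ⟨g, hg, rfl⟩ with ⟨k, hk⟩ | h1
      · exact ⟨k, Subtype.ext (by simpa using hk)⟩
      · exact absurd (((hC g).1 g.2).symm.trans (hinv g h1)) hne)
  have hyC : y ∉ C := fun h1 => hne (((hC y).1 h1).symm.trans (hinv y hy))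
  have hy' : y⁻¹ * x * y = x⁻¹ := by
    calc y⁻¹ * x * y = (y⁻¹ * (x⁻¹) * y)⁻¹ := by group
      _ = (y⁻¹ * (y * x * y⁻¹) * y)⁻¹ := by rw [hy]
      _ = _ := by group
  have hy2 : y⁻¹ * x ^ 2 * y = (x ^ 2)⁻¹ := by simpa using hinv y⁻¹ (by simpa using hy')
  have hyn : ∀ c ∈ C, y⁻¹ * c * y ∈ C := fun c hc => (hC _).2 (by
    calc y⁻¹ * c * y * x ^ 2 * (y⁻¹ * c * y)⁻¹
        = y⁻¹ * (c * (y * x ^ 2 * y⁻¹) * c⁻¹) * y := by group
      _ = y⁻¹ * (c * x ^ 2 * c⁻¹)⁻¹ * y := by rw [hinv y hy]; group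
      _ = (y⁻¹ * x ^ 2 * y)⁻¹ := by rw [(hC c).1 hc]; group
      _ = _ := by rw [hy2, inv_inv])
  -- `l` is inverted by `y`
  have hly : ∀ c : C, l ⟨_, hyn c c.2⟩ = (l c)⁻¹ := by
    obtain ⟨σ, hσ⟩ : ∃ σ : C →* C, ∀ c : C, σ c = ⟨_, hyn c c.2⟩ :=
      ⟨MonoidHom.mk' (fun c => ⟨_, hyn c c.2⟩) (fun a b => Subtype.ext (by
        simp only [coe_mul]; group)), fun _ => rfl⟩
    intro c
    obtain ⟨d, j, hd, hj⟩ := hl c
    have h1 : l (σ (constt {2}ᶜ c)) = 1 := by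
      rw [← orderOf_eq_one_iff]
      exact Nat.eq_one_of_dvd_coprimes
        ((Nat.coprime_two_right.2 (piNat_two_compl.1 (piNat_constt {2}ᶜ c))).pow_right 2)
        ((orderOf_map_dvd l _).trans (orderOf_map_dvd σ _)) (orderOf_dvd_of_pow_eq_one (hl4 _))
    have h2 : σ ⟨x, hxC⟩ = ⟨x, hxC⟩⁻¹ := by rw [hσ]; exact Subtype.ext hy'
    have h3 : l (σ (constt {2} c)) = (l ⟨x, hxC⟩ ^ j)⁻¹ := by
      rw [← inv_pow, ← map_inv, ← h2, ← map_pow, ← map_pow, ← hd]
      simp only [map_mul, map_inv, mul_inv_cancel_comm]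
    rw [← hσ, hj, ← h3]
    nth_rewrite 1 [← constt_mul_constt_compl {2} c]
    rw [map_mul, map_mul, h1, mul_one]
  -- elements outside the kernel
  have hl1 : ∀ j : ℕ, 4 ∣ j → l ⟨x, hxC⟩ ^ j = 1 := by
    rintro _ ⟨k, rfl⟩; rw [pow_mul, hl4, one_pow]
  have hA : ∀ c : C, l c ≠ 1 → x ^ 2 ∈ zpowers (c : G) := by
    intro c hc
    obtain ⟨d, j, hd, hj⟩ := hl c
    have hj4 : ¬ 4 ∣ j := fun h4 => hc (hj.trans (hl1 j h4))
    have h1 : x ^ 2 ∈ zpowers (x ^ j) := by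
      rcases Nat.even_or_odd j with ⟨k, rfl⟩ | hjo
      · rw [← two_mul, pow_mul]
        refine mem_zpowers_pow_odd (PiNat.orderOf_of_mem_zpowers hx2 (pow_mem (mem_zpowers x) 2)) ?_
        rw [Nat.odd_iff]; omega
      · exact pow_mem (mem_zpowers_pow_odd hx2 hjo) 2
    have h2 : x ^ j = d * (constt {2} c : C) * (d : G)⁻¹ := by
      simpa using (congrArg Subtype.val hd).symm
    rw [h2, ← conj_zpowers, ← (hC d).1 d.2, conj_mem_conj] at h1
    refine zpowers_le.2 ?_ h1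
    obtain ⟨k, hk⟩ := constt_mem_zpowers {2} c
    exact ⟨k, by simpa using congrArg Subtype.val hk⟩
  have hker : ∀ c : C, c ^ 2 = 1 ∨ Odd (orderOf c) → l c = 1 := by
    intro c hc
    by_contra hne'
    have h1 := orderOf_dvd_of_mem_zpowers (hA c hne')
    rw [orderOf_pow' _ (by norm_num), hx, Nat.gcd_eq_right (dvd_pow_self 2 (by omega)),
      pow_succ, Nat.mul_div_cancel _ two_pos, orderOf_coe] at h1
    have h4 : 4 ∣ orderOf c := Dvd.dvd.trans ⟨2 ^ n, by ring⟩ h1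
    rcases hc with hc | hc
    · exact absurd (h4.trans (orderOf_dvd_of_pow_eq_one hc)) (by norm_num)
    · rw [Nat.odd_iff] at hc; omega
  obtain ⟨φ, hφ⟩ : ∃ φ : C → ℂ, φ = (fun _ => 1) - fun c => (l c : ℂ) := ⟨_, rfl⟩
  have hφv : IsGeneralizedCharacter C φ := hφ ▸ virt_one.sub (isIrrCharacter_unitsHom l).virt
  have hφ0 : ∀ c, φ c ≠ 0 → l c ≠ 1 := fun c hc e => hc (by simp [hφ, e])
  have hres : ∀ c : C, l c ≠ 1 → indFun C φ c = φ c + conj (φ c) := by
    intro c hc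
    rw [indFun_apply_two C hφv.isClassFunction hyC c (hyn c c.2)]
    · congr 1
      simp [hφ, hly, conj_unitsHom]
    · intro g hg h1
      have h2 := hA _ (hφ0 _ h1)
      simp only at h2
      have h3 : g * x ^ 2 * g⁻¹ ∈ zpowers (c : G) := by
        obtain ⟨k, hk⟩ := h2
        refine ⟨k, ?_⟩
        simp only at hk ⊢
        rw [← hk, ← conj_zpow]; group
      rcases conj_eq_or_inv hx2 hS (pow_mem (mem_zpowers x) 2)
        (mem_zpowers_of_orderOf_dvd (hA c hc) h3 (GT.orderOf_conj _ _).dvd) with h4 | h4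
      · exact Or.inl ((hC g).2 h4)
      · refine Or.inr ((hC _).2 ?_)
        calc y⁻¹ * g * x ^ 2 * (y⁻¹ * g)⁻¹ = y⁻¹ * (g * x ^ 2 * g⁻¹) * y := by group
          _ = (y⁻¹ * x ^ 2 * y)⁻¹ := by rw [h4]; group
          _ = _ := by rw [hy2, inv_inv]
  have hl_ne : (fun c => (l c : ℂ)) ≠ fun _ => 1 := fun e => by
    have := congrFun e ⟨x, hxC⟩
    simp only [Units.val_eq_one] at this
    rw [this] at hl2
    have := congrArg Units.val hl2
    norm_num at this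
  have hl_ne' : (fun c => (l c : ℂ)) ≠ conjFun fun c => (l c : ℂ) := fun e => by
    have h1 := congrFun e ⟨x, hxC⟩
    have h2 := unitsHom_mul_conj l ⟨x, hxC⟩
    simp only [conjFun_apply] at h1
    rw [← h1, ← pow_two, ← Units.val_pow_eq_pow_val, hl2] at h2
    norm_num at h2
  have hI := isIrrCharacter_unitsHom l
  have c1 := hI.ci_of_ne isIrrCharacter_one hl_ne
  have c2 := ci_eq_zero_symm c1
  have c3 := hI.ci_of_ne hI.conjFun hl_ne'
  have c4 : ⟪fun _ => 1, conjFun fun c => (l c : ℂ)⟫ = 0 := by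
    rw [ci_conjFun_right, conjFun_one, c1]
  have n3 : ⟪indFun C φ, indFun C φ⟫ = 3 := by
    rw [ci_indFun_left _ _ (isClassFunction_indFun C φ)]
    have : ⟪φ, fun c : C => indFun C φ c⟫ = ⟪φ, φ + conjFun φ⟫ := by
      simp only [ci_def]
      congr 1
      refine Finset.sum_congr rfl fun c _ => ?_
      by_cases hc : φ c = 0
      · simp [hc]
      · rw [hres c (hφ0 c hc)]; rfl
    rw [this, hφ, conjFun_sub, conjFun_one]
    simp only [ci_add_right, ci_sub_left, ci_sub_right, c1, c2, c3, c4, ci_one_one, hI.ci_self]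
    norm_num
  have n1 : ⟪indFun C φ, fun _ => 1⟫ = 1 := by
    rw [ci_indFun_left _ _ (isClassFunction_const 1), hφ, ci_sub_left, c1, ci_one_one, sub_zero]
  obtain ⟨u, p, hu, hp, -, hu1, -, e⟩ := exists_of_nsq_three hφv.indFun n3 n1
  have hv : ∀ g : G, g ^ 2 = 1 ∨ Odd (orderOf g) → p g = 1 + u g := by
    intro g hg
    have : indFun C φ g = 0 := indFun_eq_zero_of_forall _ fun a ha => by
      have : l ⟨_, ha⟩ = 1 := hker _ (by
        rcases hg with hg | hg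
        · left
          apply Subtype.ext
          simp only [SubmonoidClass.mk_pow, OneMemClass.coe_one]
          calc (a⁻¹ * g * a) ^ 2 = a⁻¹ * g ^ 2 * a := by simp only [pow_two]; group
            _ = 1 := by rw [hg]; group
        · right
          rw [← orderOf_coe]
          have := GT.orderOf_conj a⁻¹ g
          rw [inv_inv] at this
          rwa [← this] at hg)
      simp [hφ, this]
    rw [e] at this
    simp only [Pi.sub_apply, Pi.add_apply] at this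
    linear_combination -this
  exact kerZ_of_sirr hu hu1 (three_term h hz hu hp (fun g hg => hv g (Or.inr hg))
    (by rw [hv z (Or.inl (by rw [← hz, pow_orderOf_eq_one]))]))

end Cfsg.Agent.BS
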