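import Cfsg.Agent.BS.Idem

/-!
# The principal 2-block by ordinary characters: section orthogonality and the values on
involution sections
-/

set_option autoImplicit false
set_option linter.unusedSectionVars false

namespace Cfsg.Agent.BS

open Cfsg Cfsg.Agent.Char Cfsg.Agent.GT IsLocalRing
open scoped ComplexConjugate

universe u v

theorem exists_V2 : ∃ V : ValuationSubring ℂ, (∀ x, IsIntegral ℤ x → x ∈ V) ∧
    (2 : ℂ) ∈ V.nonunits := by
  let A : Subring ℂ := (integralClosure ℤ ℂ).toSubring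
  have hI : (Ideal.span {(2 : A)}) ≠ ⊤ := by
    intro h
    have h1 : (1 : A) ∈ Ideal.span {(2 : A)} := h ▸ Submodule.mem_top
    obtain ⟨y, hy⟩ := Ideal.mem_span_singleton'.1 h1
    have hy' : ((1 : ℤ) : ℂ) = ((2 : ℤ) : ℂ) * (y : ℂ) := by
      have := congrArg (fun z : A => (z : ℂ)) hy
      simp only [Subring.coe_mul, Subring.coe_one] at this
      have h2 : ((2 : A) : ℂ) = 2 := rfl
      rw [h2] at this
      push_cast
      rw [← this]; ring
    have := int_dvd_of_isIntegral (ω := (y : ℂ)) y.2 (by norm_num) hy'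
    omega
  obtain ⟨V, h1, h2⟩ := Ideal.image_subset_nonunits_valuationSubring _ hI
  exact ⟨V, fun x hx => h1 hx, h2 ⟨2, Ideal.mem_span_singleton_self _, rfl⟩⟩

/-- A valuation ring of the complex numbers over the prime two. -/
noncomputable def V2 : ValuationSubring ℂ := exists_V2.choose

theorem mem_V2 {x : ℂ} (h : IsIntegral ℤ x) : x ∈ V2 := exists_V2.choose_spec.1 x h

theorem two_mem_V2 : (2 : ℂ) ∈ V2.nonunits := exists_V2.choose_spec.2

theorem V2_two_ne : (2 : V2) ≠ 0 := by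
  intro h
  have : ((2 : V2) : ℂ) = 0 := by rw [h]; rfl
  exact two_ne_zero (α := ℂ) this

theorem V2_residue_two : residue V2 2 = 0 :=
  (residue_eq_zero_iff _).2 (V2.coe_mem_nonunits_iff.1 two_mem_V2)

theorem inv_odd_mem_V2 {n : ℕ} (hn : Odd n) : (n : ℂ)⁻¹ ∈ V2 := by
  by_contra h
  have h1 : (n : ℂ) ∈ V2.nonunits := V2.mem_nonunits_iff_or.2 (Or.inr h)
  obtain ⟨k, rfl⟩ := hn
  have h2 : ((2 * k + 1 : ℕ) : V2) ∈ maximalIdeal V2 := V2.coe_mem_nonunits_iff.1 (by
    rw [SubringClass.coe_natCast]; exact h1)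
  have h3 := (residue_eq_zero_iff _).2 h2
  have h4 : ((2 * k + 1 : ℕ) : V2) = 2 * k + 1 := by push_cast; ring
  rw [h4, map_add, map_mul, V2_residue_two, map_one] at h3
  simp at h3

theorem residue_eq_zero_of_two_mul {x : V2} {r : ℂ} (hr : r ∈ V2) (h : (x : ℂ) = 2 * r) :
    residue V2 x = 0 := by
  have : x = 2 * ⟨r, hr⟩ := Subtype.ext h
  rw [this, map_mul, V2_residue_two, zero_mul]

theorem sum_invol {α : Type u} [Fintype α] [DecidableEq α] {M : Type v} [AddCommMonoid M]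
    (s : Finset α) (τ : α → α) (h1 : ∀ a ∈ s, τ a ∈ s) (h2 : ∀ a ∈ s, τ (τ a) = a) (f : α → M)
    (hf : ∀ a ∈ s, f (τ a) = f a) :
    ∃ T ⊆ s, ∑ a ∈ s, f a = ∑ a ∈ s.filter (fun a => τ a = a), f a + 2 • ∑ a ∈ T, f a := by
  let e := Fintype.equivFin α
  refine ⟨s.filter (fun a => e a < e (τ a)), Finset.filter_subset _ _, ?_⟩
  have h3 : ∑ a ∈ s.filter (fun a => e (τ a) < e a), f a =
      ∑ a ∈ s.filter (fun a => e a < e (τ a)), f a := by
    refine Finset.sum_bij' (fun a _ => τ a) (fun a _ => τ a) ?_ ?_ ?_ ?_ ?_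
    · intro a ha
      rw [Finset.mem_filter] at ha ⊢
      exact ⟨h1 a ha.1, by rw [h2 a ha.1]; exact ha.2⟩
    · intro a ha
      rw [Finset.mem_filter] at ha ⊢
      exact ⟨h1 a ha.1, by rw [h2 a ha.1]; exact ha.2⟩
    · intro a ha; exact h2 a (Finset.mem_filter.1 ha).1
    · intro a ha; exact h2 a (Finset.mem_filter.1 ha).1
    · intro a ha; exact (hf a (Finset.mem_filter.1 ha).1).symm
  rw [two_smul]
  nth_rewrite 1 [← h3]
  simp only [Finset.sum_filter, ← Finset.sum_add_distrib]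
  refine Finset.sum_congr rfl fun a _ => ?_
  rcases lt_trichotomy (e a) (e (τ a)) with h | h | h
  · have : τ a ≠ a := fun h' => by rw [h'] at h; exact lt_irrefl _ h
    simp [this, h, h.not_gt]
  · have : τ a = a := (e.injective h).symm
    simp [this]
  · have : τ a ≠ a := fun h' => by rw [h'] at h; exact lt_irrefl _ h
    simp [this, h, h.not_gt]

section Block

variable {G : Type u} [Group G] [Fintype G]

theorem orderOf_conj' (g x : G) : orderOf (x * g * x⁻¹) = orderOf g := by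
  simpa using (MulAut.conj x).orderOf_eq g

/-- Indicator of the elements of odd order. -/
noncomputable def oddInd (g : G) : ℂ := if Odd (orderOf g) then 1 else 0

theorem oddInd_class : IsClassFunction G oddInd := by
  intro g h; simp only [oddInd, orderOf_conj']

theorem oddInd_int (g : G) : IsIntegral ℤ (oddInd g) := by
  unfold oddInd; split_ifs
  · exact isIntegral_one
  · exact isIntegral_zero

theorem odd_orderOf_pow {g : G} {k : ℕ} (hk : k.Coprime (Nat.card G)) :
    orderOf (g ^ k) = orderOf g :=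
  Nat.Coprime.orderOf_pow (Nat.Coprime.coprime_dvd_left (orderOf_dvd_natCard g) hk.symm)

/-- The central character of the sum of the elements of odd order. -/
noncomputable def omega (χ : G → ℂ) : ℂ := (∑ g, oddInd g * χ g) / χ 1

theorem omega_int {χ : G → ℂ} (hχ : IsIrrCharacter G χ) : ∃ n : ℤ, omega χ = n := by
  refine exists_int_of_forall_ringEquiv (hχ.isIntegral_central oddInd_class oddInd_int) fun σ => ?_
  obtain ⟨k, hk, hσ⟩ := exists_pow_of_ringHom (σ : ℂ →+* ℂ) (Nat.card_pos (α := G))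
  have e2 : ∀ g, σ (χ g) = χ (g ^ k) := by
    intro g
    refine hχ.isCharacter.ringHom_apply (σ : ℂ →+* ℂ) fun z hz => hσ z ?_
    obtain ⟨c, hc⟩ := orderOf_dvd_natCard g
    rw [hc, pow_mul, hz, one_pow]
  unfold omega
  rw [map_div₀, map_sum, e2, one_pow]
  congr 1
  refine Fintype.sum_equiv (powCoprime hk.symm) _ _ fun g => ?_
  rw [map_mul, e2, powCoprime_apply]
  congr 1
  unfold oddInd
  rw [odd_orderOf_pow hk]
  split_ifs <;> simp

theorem sum_oddInd_mul {χ : G → ℂ} (hχ : IsIrrCharacter G χ) (h : G) :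
    ∑ g, oddInd g * χ (g * h) = omega χ * χ h := by
  have := hχ.sum_class_mul oddInd_class h
  have h1 := hχ.apply_one_ne_zero
  unfold omega
  field_simp
  linear_combination this

open Classical in
/-- The principal 2-block. -/
noncomputable def B0 (G : Type u) [Group G] [Fintype G] : Finset (G → ℂ) :=
  (Irr G).filter fun χ => ∃ n : ℤ, Odd n ∧ omega χ = n

theorem mem_B0 {χ : G → ℂ} : χ ∈ B0 G ↔ IsIrrCharacter G χ ∧ ∃ n : ℤ, Odd n ∧ omega χ = n := by
  classical
  rw [B0, Finset.mem_filter, mem_Irr]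

theorem B0_irr {χ : G → ℂ} (h : χ ∈ B0 G) : IsIrrCharacter G χ := (mem_B0.1 h).1

theorem odd_card_odd : Odd (Finset.univ.filter fun g : G => Odd (orderOf g)).card := by
  classical
  obtain ⟨T, -, hT⟩ := sum_invol (Finset.univ.filter fun g : G => Odd (orderOf g)) (fun g => g⁻¹)
    (by simp) (by simp) (fun _ => (1 : ℕ)) (by simp)
  have : (Finset.univ.filter fun g : G => Odd (orderOf g)).filter (fun g => g⁻¹ = g) = {1} := by
    ext g
    simp only [Finset.mem_filter, Finset.mem_univ, true_and, Finset.mem_singleton]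
    constructor
    · rintro ⟨h1, h2⟩
      have h3 : g ^ 2 = 1 := by rw [pow_two]; nth_rewrite 1 [← h2]; group
      have h4 := orderOf_dvd_of_pow_eq_one h3
      rcases (Nat.dvd_prime Nat.prime_two).1 h4 with h | h
      · exact orderOf_eq_one_iff.1 h
      · rw [h] at h1; exact absurd h1 (by decide)
    · rintro rfl; simp
  rw [this] at hT
  simp only [Finset.sum_const, smul_eq_mul, mul_one, Finset.card_singleton] at hT
  rw [hT]
  exact ⟨_, add_comm _ _⟩

theorem one_mem_B0 : (fun _ => 1 : G → ℂ) ∈ B0 G := by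
  classical
  refine mem_B0.2 ⟨isIrrCharacter_one, _, (Int.odd_coe_nat _).2 (odd_card_odd (G := G)), ?_⟩
  simp [omega, oddInd]

/-- The coefficients of the principal block idempotent. -/
noncomputable def kB (g : G) : ℂ := (Nat.card G : ℂ)⁻¹ * ∑ χ ∈ B0 G, χ 1 * χ g

theorem kB_class : IsClassFunction G kB := by
  intro g h
  unfold kB
  congr 1
  exact Finset.sum_congr rfl fun χ hχ => by rw [(B0_irr hχ).isClassFunction g h]

open Classical in
/-- The coefficients of the powers of the sum of the elements of odd order. -/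
noncomputable def nPow : ℕ → G → ℤ
  | 0, h => if h = 1 then 1 else 0
  | N + 1, h => ∑ g : G, if Odd (orderOf g) then nPow N (g * h) else 0

theorem nPow_eq (N : ℕ) (h : G) :
    (nPow N h : ℂ) = (Nat.card G : ℂ)⁻¹ * ∑ χ ∈ Irr G, χ 1 * omega χ ^ N * χ h := by
  classical
  induction N generalizing h with
  | zero =>
    simp only [nPow, pow_zero, mul_one]
    rw [sum_irr_degree_mul]
    have := card_ne_zero_complex G
    split_ifs <;> simp [this]
  | succ N ih =>
    have : (nPow (N + 1) h : ℂ) = ∑ g : G, oddInd g * (nPow N (g * h) : ℂ) := by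
      simp only [nPow, oddInd]
      push_cast
      refine Finset.sum_congr rfl fun g _ => ?_
      split_ifs <;> simp
    rw [this]
    simp only [ih, Finset.mul_sum]
    rw [Finset.sum_comm]
    refine Finset.sum_congr rfl fun χ hχ => ?_
    have e := sum_oddInd_mul (mem_Irr.1 hχ) h
    calc ∑ g : G, oddInd g * ((Nat.card G : ℂ)⁻¹ * (χ 1 * omega χ ^ N * χ (g * h)))
        = (Nat.card G : ℂ)⁻¹ * (χ 1 * omega χ ^ N) * ∑ g : G, oddInd g * χ (g * h) := by
          rw [Finset.mul_sum]; exact Finset.sum_congr rfl fun g _ => by ring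
      _ = _ := by rw [e]; ring

theorem nPow_conj (N : ℕ) (g h : G) : nPow N (h * g * h⁻¹) = nPow N g := by
  have : (nPow N (h * g * h⁻¹) : ℂ) = nPow N g := by
    rw [nPow_eq, nPow_eq]
    congr 1
    exact Finset.sum_congr rfl fun χ hχ => by rw [(mem_Irr.1 hχ).isClassFunction g h]
  exact_mod_cast this

theorem kB_sub_nPow : ∃ N : ℕ, ∀ h : G, ∃ r ∈ V2, kB h = nPow (N + 1) h + 2 * r := by
  classical
  obtain ⟨a, m, hm, ha⟩ := Nat.exists_eq_two_pow_mul_odd (Nat.card_pos (α := G)).ne'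
  have hpos : 0 < 2 ^ (a + 1) := by positivity
  refine ⟨2 ^ (a + 1) - 1, fun h => ?_⟩
  rw [Nat.sub_add_cancel hpos]
  have hc : ∀ χ : G → ℂ, χ ∈ Irr G → ∃ c : ℤ,
      (if χ ∈ B0 G then (1 : ℂ) else 0) - omega χ ^ 2 ^ (a + 1) = 2 ^ (a + 1) * c := by
    intro χ hχ
    obtain ⟨n, hn⟩ := omega_int (mem_Irr.1 hχ)
    rcases Int.even_or_odd n with he | ho
    · have : χ ∉ B0 G := by
        intro hB
        obtain ⟨n', h1, h2⟩ := (mem_B0.1 hB).2
        have : n' = n := by exact_mod_cast h2.symm.trans hn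
        exact Int.not_odd_iff_even.2 he (this ▸ h1)
      obtain ⟨k, rfl⟩ := he
      obtain ⟨d, hd⟩ := Nat.exists_eq_add_of_le (Nat.lt_two_pow_self (n := a + 1)).le
      refine ⟨-(2 ^ d * k ^ 2 ^ (a + 1)), ?_⟩
      rw [if_neg this, hn, ← two_mul]
      push_cast
      rw [mul_pow]
      nth_rewrite 1 [hd]
      rw [pow_add]; ring
    · have hB : χ ∈ B0 G := mem_B0.2 ⟨mem_Irr.1 hχ, n, ho, hn⟩
      have hcop : IsCoprime n ((2 ^ (a + 2) : ℕ) : ℤ) := by
        push_cast
        exact IsCoprime.pow_right (Int.isCoprime_two_right.2 ho)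
      obtain ⟨c, hc⟩ := int_pow_totient hcop
      rw [Nat.totient_prime_pow Nat.prime_two (by omega)] at hc
      refine ⟨2 * c, ?_⟩
      rw [if_pos hB, hn]
      have := congrArg (fun z : ℤ => (z : ℂ)) hc
      simp only [Nat.add_one_sub_one, mul_one] at this
      push_cast at this ⊢
      rw [this]; ring
  choose! c hc using hc
  refine ⟨(m : ℂ)⁻¹ * ∑ χ ∈ Irr G, χ 1 * c χ * χ h, ?_, ?_⟩
  · refine V2.mul_mem _ _ (inv_odd_mem_V2 hm) (mem_V2 (IsIntegral.sum _ fun χ hχ => ?_))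
    have := (mem_Irr.1 hχ).isCharacter
    exact ((this.isIntegral 1).mul (Char.isIntegral_intCast _)).mul (this.isIntegral h)
  · have e1 : kB h = (Nat.card G : ℂ)⁻¹ *
        ∑ χ ∈ Irr G, χ 1 * (if χ ∈ B0 G then (1 : ℂ) else 0) * χ h := by
      unfold kB
      congr 1
      have : B0 G = (Irr G).filter (· ∈ B0 G) := by
        ext χ; simp only [Finset.mem_filter]
        exact ⟨fun h => ⟨mem_Irr.2 (B0_irr h), h⟩, fun h => h.2⟩
      nth_rewrite 1 [this]
      rw [Finset.sum_filter]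
      exact Finset.sum_congr rfl fun χ _ => by split_ifs <;> simp
    have hm0 : (m : ℂ) ≠ 0 := by exact_mod_cast hm.pos.ne'
    have e2 : (2 : ℂ) * ((m : ℂ)⁻¹ * ∑ χ ∈ Irr G, χ 1 * c χ * χ h) =
        (Nat.card G : ℂ)⁻¹ * ∑ χ ∈ Irr G, χ 1 * (2 ^ (a + 1) * c χ) * χ h := by
      rw [ha]
      simp only [Finset.mul_sum]
      refine Finset.sum_congr rfl fun χ _ => ?_
      push_cast
      field_simp
      ring
    rw [e1, e2, nPow_eq, ← mul_add, ← Finset.sum_add_distrib]
    congr 1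
    refine Finset.sum_congr rfl fun χ hχ => ?_
    rw [← hc χ hχ]; ring

theorem kB_mem (h : G) : kB h ∈ V2 := by
  obtain ⟨N, hN⟩ := kB_sub_nPow (G := G)
  obtain ⟨r, hr, e⟩ := hN h
  rw [e]
  exact V2.add_mem _ _ (mem_V2 (Char.isIntegral_intCast _))
    (V2.mul_mem _ _ (mem_V2 (Char.isIntegral_natCast 2)) hr)

theorem conv_irr {χ ψ : G → ℂ} (hχ : IsIrrCharacter G χ) (hψ : IsIrrCharacter G ψ) (h : G) :
    χ 1 * ∑ c, ψ c * χ (c⁻¹ * h) = Nat.card G * ⟪ψ, χ⟫ * χ h := by
  have hcl : IsClassFunction G (fun g => ψ g⁻¹) := by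
    intro a b
    have := hψ.isClassFunction a⁻¹ b
    simp only [mul_inv_rev, inv_inv]
    rw [← this, mul_assoc]
  have e := hχ.sum_class_mul hcl h
  have e1 : ∑ c, ψ c * χ (c⁻¹ * h) = ∑ g, ψ g⁻¹ * χ (g * h) :=
    Fintype.sum_equiv (Equiv.inv G) _ _ fun c => by simp
  have e2 : ∑ g, ψ g⁻¹ * χ g = ∑ g, ψ g * χ g⁻¹ :=
    Fintype.sum_equiv (Equiv.inv G) _ _ fun c => by simp
  rw [e1, e, e2, ci_eq_sum_inv _ hχ.isCharacter]
  have := card_ne_zero_complex G
  field_simp

theorem conv_kB_irr {χ : G → ℂ} (hχ : χ ∈ B0 G) (h : G) :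
    ∑ c, kB c * χ (c⁻¹ * h) = χ h := by
  classical
  have h1 := (B0_irr hχ).apply_one_ne_zero
  have h0 := card_ne_zero_complex G
  apply mul_left_cancel₀ h1
  calc χ 1 * ∑ c, kB c * χ (c⁻¹ * h)
      = (Nat.card G : ℂ)⁻¹ * ∑ ψ ∈ B0 G, ψ 1 * (χ 1 * ∑ c, ψ c * χ (c⁻¹ * h)) := by
        simp only [kB, Finset.mul_sum, Finset.sum_mul]
        rw [Finset.sum_comm]
        exact Finset.sum_congr rfl fun _ _ => Finset.sum_congr rfl fun _ _ => by ring
    _ = (Nat.card G : ℂ)⁻¹ * ∑ ψ ∈ B0 G, if ψ = χ then χ 1 * (Nat.card G * χ h) else 0 := by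
        congr 1
        refine Finset.sum_congr rfl fun ψ hψ => ?_
        rw [conv_irr (B0_irr hχ) (B0_irr hψ), (B0_irr hψ).ci_eq_ite (B0_irr hχ)]
        split_ifs with e
        · rw [e]; ring
        · ring
    _ = χ 1 * χ h := by
        rw [Finset.sum_ite_eq', if_pos hχ]; field_simp

theorem conv_kB_kB (h : G) : ∑ c, kB c * kB (c⁻¹ * h) = kB h := by
  calc ∑ c, kB c * kB (c⁻¹ * h)
      = (Nat.card G : ℂ)⁻¹ * ∑ χ ∈ B0 G, χ 1 * ∑ c, kB c * χ (c⁻¹ * h) := by
        conv_lhs => enter [2, c]; rw [kB.eq_1 (c⁻¹ * h)]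
        simp only [Finset.mul_sum]
        rw [Finset.sum_comm]
        exact Finset.sum_congr rfl fun _ _ => Finset.sum_congr rfl fun _ _ => by ring
    _ = kB h := by
        conv_rhs => rw [kB]
        congr 1
        exact Finset.sum_congr rfl fun χ hχ => by rw [conv_kB_irr hχ]

theorem sum_kB_conj (u y : G) :
    ∑ a, kB (u * a * y * a⁻¹) = ∑ χ ∈ B0 G, χ u * χ y := by
  have h0 := card_ne_zero_complex G
  simp only [kB, Finset.mul_sum]
  rw [Finset.sum_comm]
  refine Finset.sum_congr rfl fun χ hχ => ?_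
  have e := (B0_irr hχ).sum_conj_mul y u
  have e1 : ∀ a : G, χ (u * a * y * a⁻¹) = χ (a * y * a⁻¹ * u) := by
    intro a
    rw [← (B0_irr hχ).isClassFunction.mul_comm u]; congr 1; group
  simp only [e1, ← Finset.mul_sum]
  rw [e]; field_simp

theorem isConj_constt_of_pow {x y : G} {j : ℕ} (hj : Odd j) (h : IsConj (x ^ j) (y ^ j)) :
    IsConj (constt {2} x) (constt {2} y) := by
  obtain ⟨c, hc⟩ := isConj_iff.1 h
  have e : c * (constt {2} x) ^ j * c⁻¹ = (constt {2} y) ^ j := by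
    rw [← constt_pow, ← constt_pow, ← constt_conj, hc]
  have h2 : ∀ g : G, j.Coprime (orderOf (constt {2} g)) := by
    intro g
    obtain ⟨k, hk⟩ := (piNat_single_iff Nat.prime_two (orderOf_pos _).ne').1 (piNat_constt {2} g)
    rw [hk]
    exact Nat.Coprime.pow_right _ (Nat.coprime_two_right.2 hj)
  have hcop : j.Coprime (orderOf (constt {2} x, constt {2} y)) := by
    rw [Prod.orderOf]
    exact Nat.Coprime.coprime_dvd_right (Nat.lcm_dvd_mul _ _) (Nat.Coprime.mul_right (h2 x) (h2 y))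
  obtain ⟨m, hm⟩ := exists_pow_eq_self_of_coprime hcop
  have h1 : ((constt {2} x) ^ j) ^ m = constt {2} x := congrArg Prod.fst hm
  have h3 : ((constt {2} y) ^ j) ^ m = constt {2} y := congrArg Prod.snd hm
  refine isConj_iff.2 ⟨c, ?_⟩
  rw [← h3, ← e, conj_pow, h1]

/-- Section orthogonality for the principal 2-block. -/
theorem sum_B0_eq_zero {x y : G} (h : ¬ IsConj (constt {2} x) (constt {2} y)) :
    ∑ χ ∈ B0 G, χ x⁻¹ * χ y = 0 := by
  have key := sum_conj_eq_zero (R := V2) V2_two_ne V2_residue_two x y (fun _ => False)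
    (fun _ => Iff.rfl) ?_ (fun g => ⟨kB g, kB_mem g⟩) ?_ ?_ (fun _ _ h => h.elim)
  · rw [← sum_kB_conj]
    have := congrArg (fun z : V2 => (z : ℂ)) key
    simpa using this
  · intro a _ j hj e
    refine h (isConj_constt_of_pow hj (isConj_iff.2 ⟨a⁻¹, ?_⟩))
    rw [inv_inv, mul_assoc, inv_mul_eq_iff_eq_mul]
    exact mul_inv_eq_iff_eq_mul.1 e
  · intro g
    apply Subtype.ext
    simpa using conv_kB_kB g
  · intro g
    exact Subtype.ext (kB_class g x)

theorem eq_zero_of_sum_B0 (c : (G → ℂ) → ℂ) (h : ∀ y, ∑ χ ∈ B0 G, c χ * χ y = 0)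
    {χ : G → ℂ} (hχ : χ ∈ B0 G) : c χ = 0 := by
  classical
  have e : ∑ ψ ∈ B0 G, c ψ • ψ = 0 := by
    ext y; simpa [Finset.sum_apply] using h y
  have := ci_sum_smul_orthonormal (B0 G) id
    (fun a ha b hb => (B0_irr ha).ci_eq_ite (B0_irr hb)) c hχ
  simp only [id] at this
  rw [← this, e, ci_zero_left]

/-- Multiplication by a function of the 2-part preserves the span of the principal block. -/
theorem ci_mul_eq_zero_of_not_mem {F : G → ℂ}
    (hF : ∀ x y, IsConj (constt {2} x) (constt {2} y) → F x = F y) {χ ψ : G → ℂ}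
    (hχ : χ ∈ B0 G) (hψ : IsIrrCharacter G ψ) (hψ' : ψ ∉ B0 G) : ⟪F * χ, ψ⟫ = 0 := by
  classical
  have h0 := card_ne_zero_complex G
  have key : ∀ α : G → ℂ, ∀ y, ∑ θ ∈ B0 G, ⟪α, θ⟫ * θ y =
      (Nat.card G : ℂ)⁻¹ * ∑ x, α x * ∑ θ ∈ B0 G, θ x⁻¹ * θ y := by
    intro α y
    simp only [Finset.mul_sum]
    rw [Finset.sum_comm]
    refine Finset.sum_congr rfl fun θ hθ => ?_
    rw [ci_eq_sum_inv _ (B0_irr hθ).isCharacter, Finset.mul_sum, Finset.sum_mul]
    exact Finset.sum_congr rfl fun _ _ => by ring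
  have e1 : ∀ y, ∑ θ ∈ B0 G, ⟪χ, θ⟫ * θ y = χ y := by
    intro y
    rw [Finset.sum_eq_single χ]
    · rw [(B0_irr hχ).ci_self, one_mul]
    · intro θ hθ hne
      rw [(B0_irr hχ).ci_of_ne (B0_irr hθ) hne.symm, zero_mul]
    · intro h; exact absurd hχ h
  have e2 : F * χ = ∑ θ ∈ B0 G, ⟪F * χ, θ⟫ • θ := by
    ext y
    simp only [Finset.sum_apply, Pi.smul_apply, smul_eq_mul, Pi.mul_apply]
    rw [key, ← e1 y, key, mul_left_comm]
    congr 1
    rw [Finset.mul_sum]
    refine Finset.sum_congr rfl fun x _ => ?_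
    by_cases hxy : IsConj (constt {2} x) (constt {2} y)
    · rw [Pi.mul_apply, hF x y hxy]; ring
    · rw [sum_B0_eq_zero hxy]; ring
  rw [e2, ci_sum_left]
  refine Finset.sum_eq_zero fun θ hθ => ?_
  rw [ci_smul_left, (B0_irr hθ).ci_of_ne hψ (by rintro rfl; exact hψ' hθ), mul_zero]

end Block

end Cfsg.Agent.BS
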