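import Cfsg.Agent.BS.Block
import Cfsg.Agent.GT.Transfer

/-!
# Characters of the principal 2-block on the section of an involution
-/

set_option autoImplicit false
set_option linter.unusedSectionVars false

namespace Cfsg.Agent.BS

open Cfsg Cfsg.Agent.Char Cfsg.Agent.GT IsLocalRing
open scoped ComplexConjugate

universe u v

variable {G : Type u} [Group G] [Fintype G]

theorem odd_orderOf_mul {O : Subgroup G} (hodd : Odd (Nat.card O)) {g o : G}
    (hn : ∀ a ∈ O, g⁻¹ * a * g ∈ O) (ho : o ∈ O) (hg : Odd (orderOf g)) :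
    Odd (orderOf (g * o)) := by
  have h1 : ∀ k : ℕ, ∃ o' ∈ O, (g * o) ^ k = g ^ k * o' := by
    intro k
    induction k with
    | zero => exact ⟨1, O.one_mem, by simp⟩
    | succ k ih =>
      obtain ⟨o', ho', e⟩ := ih
      exact ⟨g⁻¹ * o' * g * o, O.mul_mem (hn o' ho') ho, by rw [pow_succ, e]; group⟩
  obtain ⟨o', ho', e⟩ := h1 (orderOf g)
  rw [pow_orderOf_eq_one, one_mul] at e
  have h2 : (g * o) ^ (orderOf g * Nat.card O) = 1 := by
    rw [pow_mul, e]
    exact orderOf_dvd_iff_pow_eq_one.1 (O.orderOf_dvd_natCard ho')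
  exact Odd.of_dvd_nat (hg.mul hodd) (orderOf_dvd_of_pow_eq_one h2)

theorem piNat_two_compl {n : ℕ} : PiNat {2}ᶜ n ↔ Odd n := by
  rw [piNat_single_compl_iff Nat.prime_two, ← even_iff_two_dvd, Nat.not_even_iff_odd]

theorem constt_two_mul' {t w : G} (ht : PiNat {2} (orderOf t)) (hc : w * t = t * w)
    (hw : Odd (orderOf w)) : constt {2} (t * w) = t :=
  constt_eq_of_mul hc.symm ht (piNat_two_compl.2 hw) rfl

theorem constt_two_mul {t w : G} (ht : orderOf t = 2) (hc : w * t = t * w)
    (hw : Odd (orderOf w)) : constt {2} (t * w) = t :=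
  constt_two_mul' (by rw [ht]; exact piNat_single_self Nat.prime_two) hc hw

theorem exists_pow_two_pow {t : G} (ht : PiNat {2} (orderOf t)) : ∃ k : ℕ, t ^ 2 ^ k = 1 := by
  obtain ⟨k, hk⟩ := (piNat_single_iff Nat.prime_two (orderOf_pos t).ne').1 ht
  exact ⟨k, by rw [← hk, pow_orderOf_eq_one]⟩

theorem mem_zpowers_pow_odd {t : G} (ht : PiNat {2} (orderOf t)) {j : ℕ} (hj : Odd j) :
    t ∈ Subgroup.zpowers (t ^ j) := by
  obtain ⟨k, hk⟩ := (piNat_single_iff Nat.prime_two (orderOf_pos t).ne').1 ht
  rw [mem_zpowers_pow_iff, hk]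
  exact (Nat.Coprime.pow_right k (Nat.coprime_two_right.2 hj))

open Classical in
theorem sum_conj_two (k : ℕ) : ∀ (t : G), t ^ 2 ^ k = 1 → ∀ f : G → ℤ,
    (∀ g, f (t * g * t⁻¹) = f g) →
    ∃ m : ℤ, ∑ g, f g = ∑ g ∈ Finset.univ.filter (fun g => g * t = t * g), f g + 2 * m := by
  induction k with
  | zero =>
    intro t ht f _
    rw [pow_zero, pow_one] at ht
    exact ⟨0, by simp [ht]⟩
  | succ k ih =>
    intro t ht f hf
    obtain ⟨m, hm⟩ := ih (t * t) (by rw [← pow_two, ← pow_mul, ← pow_succ', ht]) f (fun g => by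
      rw [← hf g, ← hf (t * g * t⁻¹)]; congr 1; group)
    obtain ⟨T, -, hT⟩ := sum_invol (Finset.univ.filter (fun g => g * (t * t) = t * t * g))
      (fun g => t * g * t⁻¹) (fun a ha => by
        simp only [Finset.mem_filter, Finset.mem_univ, true_and] at ha ⊢
        calc t * a * t⁻¹ * (t * t) = t * (a * (t * t)) * t⁻¹ := by group
          _ = _ := by rw [ha]; group)
      (fun a ha => by
        simp only [Finset.mem_filter, Finset.mem_univ, true_and] at ha ⊢
        calc t * (t * a * t⁻¹) * t⁻¹ = (t * t * a) * (t * t)⁻¹ := by group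
          _ = _ := by rw [← ha]; group) f (fun a _ => hf a)
    refine ⟨m + ∑ g ∈ T, f g, ?_⟩
    have e : (Finset.univ.filter (fun g => g * (t * t) = t * t * g)).filter
        (fun a => t * a * t⁻¹ = a) = Finset.univ.filter (fun g => g * t = t * g) := by
      ext g
      simp only [Finset.mem_filter, Finset.mem_univ, true_and, mul_inv_eq_iff_eq_mul]
      constructor
      · exact fun h => h.2.symm
      · intro h
        exact ⟨by rw [← mul_assoc, h, mul_assoc, h, mul_assoc], h.symm⟩
    rw [hm, hT, e, two_smul]; ring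

/-- The average over left multiplication by a subgroup. -/
noncomputable def avg (O : Subgroup G) (φ : G → ℂ) (h : G) : ℂ :=
  (Nat.card O : ℂ)⁻¹ * ∑ o : G, (by classical exact if o ∈ O then φ (o * h) else 0)

theorem avg_const (O : Subgroup G) (c : ℂ) (h : G) : avg O (fun _ => c) h = c := by
  classical
  unfold avg
  have : ∑ o : G, (if o ∈ O then c else 0) = (Nat.card O : ℂ) * c := by
    rw [← sum_subgroup_eq_sum_ite O (fun _ => c)]
    simp
  have h0 := card_ne_zero_complex O
  convert_to (Nat.card O : ℂ)⁻¹ * ∑ o : G, (if o ∈ O then c else 0) = c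
  rw [this]; field_simp

theorem avg_mul_left (O : Subgroup G) (φ : G → ℂ) {v : G} (hv : v ∈ O) (h : G) :
    avg O φ (v * h) = avg O φ h := by
  classical
  unfold avg
  congr 1
  refine Fintype.sum_equiv (Equiv.mulRight v) _ _ fun o => ?_
  simp only [Equiv.coe_mulRight, O.mul_mem_cancel_right hv, mul_assoc]

theorem avg_avg (O : Subgroup G) (φ : G → ℂ) (h : G) : avg O (avg O φ) h = avg O φ h := by
  classical
  rw [← avg_const O (avg O φ h) h]
  conv_lhs => rw [avg]
  conv_rhs => rw [avg]
  congr 1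
  refine Finset.sum_congr rfl fun o _ => ?_
  split_ifs with ho
  · exact avg_mul_left O φ ho h
  · rfl

theorem conv_avg (O : Subgroup G) (φ ψ : G → ℂ) (h : G) :
    ∑ c, avg O φ c * ψ (c⁻¹ * h) = avg O (fun g => ∑ c, φ c * ψ (c⁻¹ * g)) h := by
  classical
  simp only [avg, Finset.mul_sum, Finset.sum_mul]
  rw [Finset.sum_comm]
  refine Finset.sum_congr rfl fun o _ => ?_
  split_ifs with ho
  · rw [Finset.mul_sum]
    refine Fintype.sum_equiv (Equiv.mulLeft o) _ _ fun c => ?_
    simp only [Equiv.coe_mulLeft]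
    rw [mul_assoc]
    congr 3; group
  · simp

theorem conv_comm_class {k : G → ℂ} (hk : IsClassFunction G k) (ψ : G → ℂ) (h : G) :
    ∑ c, k c * ψ (c⁻¹ * h) = ∑ c, ψ c * k (c⁻¹ * h) := by
  refine Fintype.sum_equiv ((Equiv.inv G).trans (Equiv.mulRight h)) _ _ fun c => ?_
  simp only [Equiv.trans_apply, Equiv.inv_apply, Equiv.coe_mulRight]
  rw [mul_comm, ← hk c h⁻¹]
  congr 2; group

theorem avg_mem (O : Subgroup G) (hodd : Odd (Nat.card O)) {φ : G → ℂ} (h : G)
    (hφ : ∀ o ∈ O, φ (o * h) ∈ V2) : avg O φ h ∈ V2 := by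
  classical
  refine V2.mul_mem _ _ (inv_odd_mem_V2 hodd) (sum_mem fun o _ => ?_)
  split_ifs with ho
  · exact hφ o ho
  · exact V2.zero_mem

theorem avg_sub (O : Subgroup G) (φ ψ : G → ℂ) (h : G) :
    avg O (fun g => φ g - ψ g) h = avg O φ h - avg O ψ h := by
  classical
  simp only [avg]
  rw [← mul_sub, ← Finset.sum_sub_distrib]
  congr 1
  exact Finset.sum_congr rfl fun o _ => by split_ifs <;> simp

theorem avg_mul (O : Subgroup G) (c : ℂ) (φ : G → ℂ) (h : G) :
    avg O (fun g => c * φ g) h = c * avg O φ h := by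
  classical
  simp only [avg]
  rw [mul_left_comm, Finset.mul_sum _ _ c]
  congr 1
  exact Finset.sum_congr rfl fun o _ => by split_ifs <;> simp

theorem avg_congr (O : Subgroup G) {φ ψ : G → ℂ} {h h' : G}
    (e : ∀ o ∈ O, φ (o * h) = ψ (o * h')) : avg O φ h = avg O ψ h' := by
  classical
  simp only [avg]
  congr 1
  refine Finset.sum_congr rfl fun o _ => ?_
  split_ifs with ho
  · exact e o ho
  · rfl

theorem avg_sum (O : Subgroup G) {ι : Type*} (s : Finset ι) (φ : ι → G → ℂ) (h : G) :
    avg O (fun g => ∑ i ∈ s, φ i g) h = ∑ i ∈ s, avg O (φ i) h := by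
  classical
  simp only [avg]
  rw [← Finset.mul_sum, Finset.sum_comm]
  congr 1
  exact Finset.sum_congr rfl fun o _ => by split_ifs <;> simp

open Classical in
theorem nPow_cent {t : G} (ht : PiNat {2} (orderOf t)) (N : ℕ) {c : G} (hc : c * t = t * c) :
    ∃ k : ℤ, nPow (N + 1) c = ∑ g ∈ Finset.univ.filter (fun g => g * t = t * g),
      (if Odd (orderOf g) then nPow N (g * c) else 0) + 2 * k := by
  obtain ⟨k, hk⟩ := exists_pow_two_pow ht
  obtain ⟨m, hm⟩ := sum_conj_two k t hk (fun g => if Odd (orderOf g) then nPow N (g * c) else 0)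
    (fun a => by
      rw [orderOf_conj', ← nPow_conj N (a * c) t]
      have : t⁻¹ * c = c * t⁻¹ := ((show Commute c t from hc).inv_right).symm.eq
      simp only [mul_assoc, this])
  exact ⟨m, by rw [nPow, hm]⟩

theorem B0_apply_inv_mul_odd {t : G} (ht : PiNat {2} (orderOf t)) (O : Subgroup G)
    (hO : ∀ o ∈ O, o * t = t * o) (hn : ∀ c, c * t = t * c → ∀ o ∈ O, c * o * c⁻¹ ∈ O)
    (hodd : Odd (Nat.card O)) {χ : G → ℂ} (hχ : χ ∈ B0 G) {v : G} (hv : v ∈ O) :
    χ (t⁻¹ * v) = χ t⁻¹ := by
  classical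
  have cinv : ∀ c, c * t = t * c → c⁻¹ * t = t * c⁻¹ := fun c hc =>
    (show Commute c t from hc).inv_left
  have cmul : ∀ a b, a * t = t * a → b * t = t * b → a * b * t = t * (a * b) := fun a b ha hb =>
    (show Commute a t from ha).mul_left hb
  have hn' : ∀ c, c * t = t * c → ∀ o ∈ O, c⁻¹ * o * c ∈ O := fun c hc o ho => by
    simpa using hn c⁻¹ (cinv c hc) o ho
  have hoddO : ∀ o ∈ O, Odd (orderOf o) := fun o ho =>
    Odd.of_dvd_nat hodd (O.orderOf_dvd_natCard ho)
  have hmem : ∀ g, kB g - avg O kB g ∈ V2 := fun g =>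
    sub_mem (kB_mem g) (avg_mem O hodd g fun o _ => kB_mem _)
  -- step 1
  have step1 : ∀ w w', w * t = t * w → Odd (orderOf w) → w' * t = t * w' → Odd (orderOf w') →
      ∑ a, (kB ((t * w)⁻¹ * a * (t * w') * a⁻¹) - avg O kB ((t * w)⁻¹ * a * (t * w') * a⁻¹))
        = 0 := by
    intro w w' hw hwo hw' hwo'
    have hx : t * w * t = t * (t * w) := cmul t w rfl hw
    have hy : t * w' * t = t * (t * w') := cmul t w' rfl hw'
    have key := sum_conj_eq_zero (R := V2) V2_two_ne V2_residue_two (t * w) (t * w')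
      (fun a => a * t = t * a) ?_ ?_ (fun g => ⟨kB g - avg O kB g, hmem g⟩) ?_ ?_ ?_
    · have := congrArg (fun z : V2 => (z : ℂ)) key
      simpa using this
    · intro a
      constructor
      · intro h
        have := cmul _ _ (cmul _ _ (cinv _ hx) h) hy
        simpa [mul_assoc] using this
      · intro h
        exact cmul _ _ (cmul _ _ hx h) (cinv _ hy)
    · intro a ha j hj e
      apply ha
      have e1 : a⁻¹ * (t * w) ^ j * a⁻¹⁻¹ = (t * w') ^ j := by
        rw [inv_inv, mul_assoc, inv_mul_eq_iff_eq_mul]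
        exact mul_inv_eq_iff_eq_mul.1 e
      have e2 := congrArg (constt {2}) e1
      rw [constt_conj, constt_pow, constt_pow, constt_two_mul' ht hw hwo,
        constt_two_mul' ht hw' hwo', inv_inv, mul_assoc, inv_mul_eq_iff_eq_mul] at e2
      exact (commute_of_mem_zpowers_left (mem_zpowers_pow_odd ht hj) e2).symm.eq
    · intro g
      apply Subtype.ext
      have a1 : ∑ c, avg O kB c * kB (c⁻¹ * g) = avg O kB g := by
        rw [conv_avg]; simp only [conv_kB_kB]
      have a2 : ∀ g, ∑ c, kB c * avg O kB (c⁻¹ * g) = avg O kB g := by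
        intro g
        rw [conv_comm_class kB_class, conv_avg]; simp only [conv_kB_kB]
      have a3 : ∑ c, avg O kB c * avg O kB (c⁻¹ * g) = avg O kB g := by
        rw [conv_avg]; simp only [a2]; exact avg_avg O kB g
      have : ∑ c, (kB c - avg O kB c) * (kB (c⁻¹ * g) - avg O kB (c⁻¹ * g)) =
          kB g - avg O kB g := by
        simp only [mul_sub, sub_mul, Finset.sum_sub_distrib]
        rw [a1, a2, a3, conv_kB_kB]; ring
      simpa using this
    · intro g
      apply Subtype.ext
      change kB _ - avg O kB _ = kB g - avg O kB g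
      rw [kB_class g]
      congr 1
      simp only [avg]
      congr 1
      refine Fintype.sum_equiv (MulAut.conj (t * w)⁻¹).toEquiv _ _ fun o => ?_
      simp only [MulEquiv.toEquiv_eq_coe, EquivLike.coe_coe, MulAut.conj_apply, inv_inv]
      have : (t * w)⁻¹ * o * (t * w) ∈ O ↔ o ∈ O := by
        constructor
        · intro h
          have := hn _ hx _ h
          simpa [mul_assoc] using this
        · exact hn' _ hx o
      simp only [this]
      split_ifs
      · rw [← kB_class _ (t * w)⁻¹]; congr 1; group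
      · rfl
    · intro a b ha hb
      have hc : a * b⁻¹ * t = t * (a * b⁻¹) := cmul _ _ ha (cinv _ hb)
      generalize a * b⁻¹ = c at hc
      obtain ⟨N, hN⟩ := kB_sub_nPow (G := G)
      have : ∀ o ∈ O, ∃ r ∈ V2, kB c - kB (o * c) = 2 * r := by
        intro o ho
        obtain ⟨r1, hr1, e1⟩ := hN c
        obtain ⟨r2, hr2, e2⟩ := hN (o * c)
        obtain ⟨k1, e3⟩ := nPow_cent ht N hc
        obtain ⟨k2, e4⟩ := nPow_cent ht N (cmul _ _ (hO o ho) hc)
        have e5 : ∑ g ∈ Finset.univ.filter (fun g => g * t = t * g),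
            (if Odd (orderOf g) then nPow N (g * (o * c)) else 0) =
            ∑ g ∈ Finset.univ.filter (fun g => g * t = t * g),
            (if Odd (orderOf g) then nPow N (g * c) else 0) := by
          refine Finset.sum_bij' (fun g _ => g * o) (fun g _ => g * o⁻¹) ?_ ?_ ?_ ?_ ?_
          · intro g hg
            simp only [Finset.mem_filter, Finset.mem_univ, true_and] at hg ⊢
            exact cmul _ _ hg (hO o ho)
          · intro g hg
            simp only [Finset.mem_filter, Finset.mem_univ, true_and] at hg ⊢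
            exact cmul _ _ hg (cinv _ (hO o ho))
          · intro g _; group
          · intro g _; group
          · intro g hg
            simp only [Finset.mem_filter, Finset.mem_univ, true_and] at hg
            have : Odd (orderOf (g * o)) ↔ Odd (orderOf g) := by
              constructor
              · intro h
                have := odd_orderOf_mul hodd (hn' _ (cmul _ _ hg (hO o ho))) (O.inv_mem ho) h
                simpa using this
              · exact odd_orderOf_mul hodd (hn' _ hg) ho
            simp only [this, mul_assoc]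
        refine ⟨(k1 : ℂ) - k2 + r1 - r2, sub_mem (add_mem (sub_mem
          (mem_V2 (Char.isIntegral_intCast _)) (mem_V2 (Char.isIntegral_intCast _))) hr1) hr2, ?_⟩
        rw [e1, e2, e3, e4, e5]
        push_cast; ring
      choose! r hr hr' using this
      refine residue_eq_zero_of_two_mul (r := avg O (fun g => r (g * c⁻¹)) c)
        (avg_mem O hodd c fun o ho => by simpa using hr o ho) ?_
      change kB c - avg O kB c = _
      rw [← avg_mul]
      nth_rewrite 1 [← avg_const O (kB c) c]
      rw [← avg_sub]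
      exact avg_congr O fun o ho => by simpa using hr' o ho
  -- step 2
  have step2 : ∀ u y : G, ∑ a, (kB (u * a * y * a⁻¹) - avg O kB (u * a * y * a⁻¹)) =
      ∑ θ ∈ B0 G, (θ u - avg O θ u) * θ y := by
    intro u y
    have : ∑ a, avg O kB (u * a * y * a⁻¹) = ∑ θ ∈ B0 G, avg O θ u * θ y := by
      calc ∑ a, avg O kB (u * a * y * a⁻¹)
          = ∑ a, avg O (fun g => kB (g * a * y * a⁻¹)) u :=
            Finset.sum_congr rfl fun a _ => avg_congr O fun o _ => by simp [mul_assoc]
        _ = avg O (fun g => ∑ θ ∈ B0 G, θ y * θ g) u := by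
            rw [← avg_sum]
            exact avg_congr O fun o _ => by
              rw [sum_kB_conj]; exact Finset.sum_congr rfl fun _ _ => mul_comm _ _
        _ = _ := by
            rw [avg_sum]
            exact Finset.sum_congr rfl fun θ _ => by rw [avg_mul, mul_comm]
    simp only [Finset.sum_sub_distrib, sub_mul]
    rw [this, sum_kB_conj]
  -- step 3
  have step3 : ∀ w, w * t = t * w → Odd (orderOf w) →
      χ (t⁻¹ * w) = avg O χ (t⁻¹ * w) := by
    intro w hw hwo
    rw [← sub_eq_zero]
    refine eq_zero_of_sum_B0 (fun θ => θ (t⁻¹ * w) - avg O θ (t⁻¹ * w)) (fun y => ?_) hχ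
    have hinv : ∀ w, w * t = t * w → (t * w⁻¹)⁻¹ = t⁻¹ * w := by
      intro w hw
      rw [mul_inv_rev, inv_inv]
      exact (show Commute w t from hw).inv_right.eq
    by_cases hy : IsConj t (constt {2} y)
    · obtain ⟨c, hc⟩ := isConj_iff.1 hy
      have hy' : y = c * (t * (c⁻¹ * constt {2}ᶜ y * c)) * c⁻¹ := by
        nth_rewrite 1 [← constt_mul_constt_compl {2} y, ← hc]; group
      have h1 : c⁻¹ * constt {2}ᶜ y * c * t = t * (c⁻¹ * constt {2}ᶜ y * c) := by
        have := (commute_constt_constt {2} {2}ᶜ y).eq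
        rw [← hc] at this
        calc c⁻¹ * constt {2}ᶜ y * c * t = c⁻¹ * (constt {2}ᶜ y * (c * t * c⁻¹)) * c := by group
          _ = _ := by rw [← this]; group
      have h2 : Odd (orderOf (c⁻¹ * constt {2}ᶜ y * c)) := by
        have := orderOf_conj' (constt {2}ᶜ y) c⁻¹
        rw [inv_inv] at this
        rw [this]; exact piNat_two_compl.1 (piNat_constt _ _)
      have := step1 w⁻¹ _ (cinv _ hw) (by simpa using hwo) h1 h2
      rw [step2, hinv w hw] at this
      rw [← this]
      refine Finset.sum_congr rfl fun θ hθ => ?_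
      nth_rewrite 1 [hy']
      rw [(B0_irr hθ).isClassFunction]
    · have aux : ∀ w, w * t = t * w → Odd (orderOf w) → 
          ∑ θ ∈ B0 G, θ (t⁻¹ * w) * θ y = 0 := by
        intro w hw hwo
        have := sum_B0_eq_zero (x := t * w⁻¹) (y := y) (by
          rw [constt_two_mul' ht (cinv _ hw) (by simpa using hwo)]; exact hy)
        rwa [hinv w hw] at this
      simp only [sub_mul, Finset.sum_sub_distrib]
      rw [aux w hw hwo, zero_sub, neg_eq_zero]
      calc ∑ θ ∈ B0 G, avg O θ (t⁻¹ * w) * θ y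
          = avg O (fun g => ∑ θ ∈ B0 G, θ y * θ g) (t⁻¹ * w) := by
            rw [avg_sum]
            exact Finset.sum_congr rfl fun θ _ => by rw [avg_mul, mul_comm]
        _ = avg O (fun _ => 0) (t⁻¹ * w) := by
            refine avg_congr O fun o ho => ?_
            have e : o * (t⁻¹ * w) = t⁻¹ * (w * (w⁻¹ * o * w)) := by
              rw [← mul_assoc, (show Commute o t from hO o ho).inv_right.eq]; group
            have := aux (w * (w⁻¹ * o * w)) (cmul _ _ hw (hO _ (hn' w hw o ho)))
              (odd_orderOf_mul hodd (hn' w hw) (hn' w hw o ho) hwo)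
            rw [e, ← this]
            exact Finset.sum_congr rfl fun _ _ => mul_comm _ _
        _ = 0 := avg_const O 0 _
  have a := step3 v (hO v hv) (hoddO v hv)
  have b := step3 1 (by simp) (by simp)
  rw [mul_one] at b
  rw [a, b, ← (show Commute v t from hO v hv).inv_right.eq, avg_mul_left O χ hv]

/-- Characters of the principal 2-block are constant on `t O` for an odd normal subgroup `O` of
the centralizer of the 2-element `t`. -/
theorem B0_apply_mul_odd' {t : G} (ht : PiNat {2} (orderOf t)) (O : Subgroup G)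
    (hO : ∀ o ∈ O, o * t = t * o) (hn : ∀ c, c * t = t * c → ∀ o ∈ O, c * o * c⁻¹ ∈ O)
    (hodd : Odd (Nat.card O)) {χ : G → ℂ} (hχ : χ ∈ B0 G) {v : G} (hv : v ∈ O) :
    χ (t * v) = χ t := by
  have := B0_apply_inv_mul_odd (t := t⁻¹) (PiNat.orderOf_inv ht) O
    (fun o ho => (show Commute o t from hO o ho).inv_right.eq)
    (fun c hc => hn c (by simpa using (show Commute c t⁻¹ from hc).inv_right.eq)) hodd hχ hv
  simpa using this

theorem B0_apply_mul_odd {t : G} (ht : orderOf t = 2) (O : Subgroup G)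
    (hO : ∀ o ∈ O, o * t = t * o) (hn : ∀ c, c * t = t * c → ∀ o ∈ O, c * o * c⁻¹ ∈ O)
    (hodd : Odd (Nat.card O)) {χ : G → ℂ} (hχ : χ ∈ B0 G) {v : G} (hv : v ∈ O) :
    χ (t * v) = χ t :=
  B0_apply_mul_odd' (by rw [ht]; exact piNat_single_self Nat.prime_two) O hO hn hodd hχ hv

/-- The same with `O = O_{2'}(C(t))`. -/
theorem B0_apply_mul_core {t : G} (ht : PiNat {2} (orderOf t)) {χ : G → ℂ} (hχ : χ ∈ B0 G)
    {v : G} (hv : v ∈ piCoreOf {2}ᶜ C1[t]) : χ (t * v) = χ t := by
  refine B0_apply_mul_odd' ht (piCoreOf {2}ᶜ C1[t]) (fun o ho => ?_) (fun c hc o ho => ?_)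
    (piNat_two_compl.1 (piCoreOf_isPi _ _)) hχ hv
  · exact Subgroup.mem_centralizer_singleton_iff.1 (piCoreOf_le _ _ ho)
  · exact (Subgroup.mem_normalizer_iff.1 (self_le_norm_piCoreOf _ _
      (Subgroup.mem_centralizer_singleton_iff.2 hc)) o).1 ho

end Cfsg.Agent.BS
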