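import Cfsg.Agent.Char.Integrality
import Cfsg.Agent.Char.Induction
import Cfsg.Agent.Char.Columns
import Cfsg.Agent.Char.Virtual
import Cfsg.Agent.GT.Constt

/-!
# Brauer's characterization of characters, with algebraic integer coefficients
-/

set_option autoImplicit false
set_option linter.unusedSectionVars false

namespace Cfsg.Agent.BS

open Cfsg Cfsg.Agent.Char Cfsg.Agent.GT
open scoped ComplexConjugate

universe u v

section ZC

variable {G : Type u} [Group G]

/-- Combinations of characters with algebraic integer coefficients. -/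
def ZC (f : G → ℂ) : Prop :=
  f ∈ Submodule.span (integralClosure ℤ ℂ) {χ : G → ℂ | IsCharacter G χ}

theorem ZC.induction {P : (G → ℂ) → Prop} (h1 : ∀ χ, IsCharacter G χ → P χ) (h0 : P 0)
    (hadd : ∀ f g, P f → P g → P (f + g))
    (hsmul : ∀ (c : ℂ) f, IsIntegral ℤ c → P f → P (c • f)) {f : G → ℂ} (hf : ZC f) : P f := by
  induction hf using Submodule.span_induction with
  | mem x hx => exact h1 x hx
  | zero => exact h0
  | add x y _ _ hx hy => exact hadd x y hx hy
  | smul a x _ hx => exact hsmul (a : ℂ) x a.2 hx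

theorem zc_char {χ : G → ℂ} (h : IsCharacter G χ) : ZC χ := Submodule.subset_span h

theorem zc_zero : ZC (0 : G → ℂ) := Submodule.zero_mem _

theorem ZC.add {f g : G → ℂ} (hf : ZC f) (hg : ZC g) : ZC (f + g) := Submodule.add_mem _ hf hg

theorem ZC.sub {f g : G → ℂ} (hf : ZC f) (hg : ZC g) : ZC (f - g) := Submodule.sub_mem _ hf hg

theorem ZC.smul {f : G → ℂ} {c : ℂ} (hc : IsIntegral ℤ c) (hf : ZC f) : ZC (c • f) :=
  Submodule.smul_mem _ (⟨c, hc⟩ : integralClosure ℤ ℂ) hf

theorem zc_sum {ι : Type*} (s : Finset ι) (f : ι → G → ℂ) (h : ∀ i ∈ s, ZC (f i)) :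
    ZC (∑ i ∈ s, f i) := Submodule.sum_mem _ h

theorem zc_virt {α : G → ℂ} (h : IsGeneralizedCharacter G α) : ZC α := by
  obtain ⟨χ, ψ, hχ, hψ, rfl⟩ := h
  exact (zc_char hχ).sub (zc_char hψ)

theorem zc_const {c : ℂ} (hc : IsIntegral ℤ c) : ZC (fun _ : G => c) := by
  have : (fun _ : G => c) = c • (fun _ : G => (1 : ℂ)) := by ext; simp
  rw [this]; exact (zc_char isCharacter_one).smul hc

theorem ZC.isClassFunction {f : G → ℂ} (hf : ZC f) : IsClassFunction G f :=
  hf.induction (fun _ h => h.isClassFunction) isClassFunction_zero (fun _ _ a b => a.add b)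
    (fun c _ _ a => a.smul c)

theorem ZC.mul_char {f χ : G → ℂ} (hf : ZC f) (hχ : IsCharacter G χ) : ZC (f * χ) := by
  refine hf.induction (P := fun f => ZC (f * χ)) (fun ψ h => zc_char (h.mul hχ)) ?_ ?_ ?_
  · simpa using zc_zero
  · intro a b ha hb; rw [add_mul]; exact ha.add hb
  · intro c a hc ha; rw [smul_mul_assoc]; exact ha.smul hc

theorem ZC.mul {f g : G → ℂ} (hf : ZC f) (hg : ZC g) : ZC (f * g) := by
  refine hg.induction (P := fun g => ZC (f * g)) (fun ψ h => hf.mul_char h) ?_ ?_ ?_
  · simpa using zc_zero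
  · intro a b ha hb; rw [mul_add]; exact ha.add hb
  · intro c a hc ha; rw [mul_smul_comm]; exact ha.smul hc

theorem ZC.pow {f : G → ℂ} (hf : ZC f) (n : ℕ) : ZC (f ^ n) := by
  induction n with
  | zero => rw [pow_zero]; exact zc_char isCharacter_one
  | succ n ih => rw [pow_succ]; exact ih.mul hf

theorem ZC.comp {H : Type v} [Group H] {f : G → ℂ} (hf : ZC f) (φ : H →* G) :
    ZC (fun h => f (φ h)) := by
  refine hf.induction (P := fun f => ZC (fun h => f (φ h))) (fun ψ h => zc_char (h.comp φ))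
    zc_zero ?_ ?_
  · intro a b ha hb; exact ha.add hb
  · intro c a hc ha; exact ha.smul hc

variable [Finite G]

theorem ZC.isIntegral {f : G → ℂ} (hf : ZC f) (g : G) : IsIntegral ℤ (f g) := by
  refine hf.induction (P := fun f => IsIntegral ℤ (f g)) (fun ψ h => h.isIntegral g)
    isIntegral_zero ?_ ?_
  · intro a b ha hb; exact ha.add hb
  · intro c a hc ha; exact hc.mul ha

theorem ZC.conjFun {f : G → ℂ} (hf : ZC f) : ZC (conjFun f) := by
  refine hf.induction (P := fun f => ZC (Cfsg.conjFun f)) (fun ψ h => zc_char h.conjFun) ?_ ?_ ?_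
  · rw [conjFun_zero]; exact zc_zero
  · intro a b ha hb; rw [conjFun_add]; exact ha.add hb
  · intro c a hc ha; rw [conjFun_smul]; exact ha.smul (isIntegral_conj hc)

theorem ZC.translate {f : G → ℂ} (hf : ZC f) {z : G} (hz : ∀ x : G, x * z = z * x) :
    ZC (fun y => f (z * y)) := by
  classical
  have := Fintype.ofFinite G
  refine hf.induction (P := fun f => ZC (fun y => f (z * y))) ?_ zc_zero ?_ ?_
  · intro ψ hψ
    refine hψ.induction_on (P := fun f => ZC (fun y => f (z * y))) zc_zero ?_ ?_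
    · intro χ hχ
      have hcl : IsClassFunction G (fun g => if g = z then (1 : ℂ) else 0) := by
        intro g h
        have : h * g * h⁻¹ = z ↔ g = z := by
          constructor
          · intro e
            have : g = h⁻¹ * z * h := by rw [← e]; group
            rw [this, mul_assoc, ← hz h]; group
          · rintro rfl
            rw [hz h]; group
        simp only [this]
      have hi := hχ.isIntegral_central hcl (fun g => by
        split_ifs
        · exact isIntegral_one
        · exact isIntegral_zero)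
      have hs : (∑ g : G, (if g = z then (1 : ℂ) else 0) * χ g) = χ z := by simp
      rw [hs] at hi
      have e : (fun y => χ (z * y)) = (χ z / χ 1) • χ := by
        ext y
        have := hχ.mul_of_central hz y
        have h1 := hχ.apply_one_ne_zero
        simp only [Pi.smul_apply, smul_eq_mul]
        field_simp
        linear_combination this
      rw [e]; exact (zc_char hχ.isCharacter).smul hi
    · intro a b _ _ ha hb; exact ha.add hb
  · intro a b ha hb; exact ha.add hb
  · intro c a hc ha; exact ha.smul hc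

end ZC

section ZCci

variable {G : Type u} [Group G] [Fintype G]

theorem ZC.ci_char {f χ : G → ℂ} (hf : ZC f) (hχ : IsCharacter G χ) : IsIntegral ℤ ⟪f, χ⟫ := by
  refine hf.induction (P := fun f => IsIntegral ℤ ⟪f, χ⟫) ?_ ?_ ?_ ?_
  · intro ψ hψ
    obtain ⟨n, hn⟩ := hψ.ci_nat hχ
    rw [hn]; exact Char.isIntegral_natCast n
  · rw [ci_zero_left]; exact isIntegral_zero
  · intro a b ha hb; rw [ci_add_left]; exact ha.add hb
  · intro c a hc ha; rw [ci_smul_left]; exact hc.mul ha

theorem zc_of_ci {f : G → ℂ} (hf : IsClassFunction G f)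
    (h : ∀ χ, IsIrrCharacter G χ → IsIntegral ℤ ⟪f, χ⟫) : ZC f := by
  rw [hf.eq_sum_irr]
  exact zc_sum _ _ fun χ hχ => (zc_char (mem_Irr.1 hχ).isCharacter).smul (h χ (mem_Irr.1 hχ))

end ZCci

/-- `x` is integral at the prime `l`. -/
def LocInt (l : ℕ) (x : ℂ) : Prop := ∃ n : ℕ, ¬ l ∣ n ∧ IsIntegral ℤ ((n : ℂ) * x)

theorem LocInt.of_isIntegral {l : ℕ} (hl : l.Prime) {x : ℂ} (h : IsIntegral ℤ x) : LocInt l x :=
  ⟨1, hl.one_lt.ne' ∘ Nat.dvd_one.1, by simpa using h⟩

theorem LocInt.add {l : ℕ} (hl : l.Prime) {x y : ℂ} (hx : LocInt l x) (hy : LocInt l y) :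
    LocInt l (x + y) := by
  obtain ⟨n, hn, hx⟩ := hx
  obtain ⟨m, hm, hy⟩ := hy
  refine ⟨n * m, fun h => (hl.dvd_mul.1 h).elim hn hm, ?_⟩
  have : ((n * m : ℕ) : ℂ) * (x + y) = m * (n * x) + n * (m * y) := by push_cast; ring
  rw [this]
  exact ((Char.isIntegral_natCast m).mul hx).add ((Char.isIntegral_natCast n).mul hy)

theorem locInt_sum {l : ℕ} (hl : l.Prime) {ι : Type*} (s : Finset ι) (f : ι → ℂ)
    (h : ∀ i ∈ s, LocInt l (f i)) : LocInt l (∑ i ∈ s, f i) :=
  Finset.sum_induction f (LocInt l) (fun _ _ => LocInt.add hl)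
    (LocInt.of_isIntegral hl isIntegral_zero) h

theorem isIntegral_of_locInt {x : ℂ} (h : ∀ l : ℕ, l.Prime → LocInt l x) : IsIntegral ℤ x := by
  classical
  have hex : ∃ n : ℕ, 0 < n ∧ IsIntegral ℤ ((n : ℂ) * x) := by
    obtain ⟨n, hn, hx⟩ := h 2 Nat.prime_two
    exact ⟨n, Nat.pos_of_ne_zero (by rintro rfl; exact hn (dvd_zero _)), hx⟩
  obtain ⟨h0, hx0⟩ := Nat.find_spec hex
  set n0 := Nat.find hex with hn0
  by_cases h1 : n0 = 1
  · rw [h1] at hx0; simpa using hx0
  obtain ⟨l, hl, hd⟩ := Nat.exists_prime_and_dvd h1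
  obtain ⟨n, hn, hx⟩ := h l hl
  exfalso
  have hg : IsIntegral ℤ ((Nat.gcd n0 n : ℕ) * x : ℂ) := by
    have e := Nat.gcd_eq_gcd_ab n0 n
    have e' : ((Nat.gcd n0 n : ℕ) : ℂ) = n0 * (Nat.gcdA n0 n : ℤ) + n * (Nat.gcdB n0 n : ℤ) := by
      exact_mod_cast congrArg (fun z : ℤ => (z : ℂ)) e
    have : ((Nat.gcd n0 n : ℕ) * x : ℂ) =
        (Nat.gcdA n0 n : ℤ) * (n0 * x) + (Nat.gcdB n0 n : ℤ) * (n * x) := by rw [e']; ring
    rw [this]
    exact ((Char.isIntegral_intCast _).mul hx0).add ((Char.isIntegral_intCast _).mul hx)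
  have hle : n0 ≤ Nat.gcd n0 n := Nat.find_min' hex ⟨Nat.gcd_pos_of_pos_left _ h0, hg⟩
  have heq : Nat.gcd n0 n = n0 := le_antisymm (Nat.le_of_dvd h0 (Nat.gcd_dvd_left _ _)) hle
  exact hn (hd.trans (heq ▸ Nat.gcd_dvd_right n0 n))

theorem int_pow_totient {a : ℤ} {m : ℕ} (h : IsCoprime a m) :
    (m : ℤ) ∣ 1 - a ^ m.totient := by
  obtain ⟨u, hu⟩ : IsUnit (a : ZMod m) := (ZMod.coe_int_isUnit_iff_isCoprime a m).2 h.symm
  rw [← ZMod.intCast_zmod_eq_zero_iff_dvd]
  push_cast
  rw [← hu, ← Units.val_pow_eq_pow_val, ZMod.pow_totient]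
  simp

section PL

variable {C : Type u} [Group C] [Fintype C]

theorem indFun_one_int (P : Subgroup C) (u : C) :
    ∃ n : ℤ, indFun P (fun _ => (1 : ℂ)) u = n := by
  classical
  have hv : IsCharacter C (indFun P (fun _ => (1 : ℂ))) := isCharacter_one.indFun
  refine exists_int_of_isIntegral_of_rat (hv.isIntegral u) ?_
  refine ⟨(Nat.card P : ℚ)⁻¹ * ∑ x : C, if x⁻¹ * u * x ∈ P then 1 else 0, ?_⟩
  unfold indFun
  push_cast
  congr 1
  refine Finset.sum_congr rfl fun x _ => ?_
  rw [extendByZero_eq_dite]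
  split_ifs <;> simp

open Classical in
theorem locInt_avg {l : ℕ} [hl : Fact l.Prime] (h : C → ℂ) (hc : IsClassFunction C h)
    (hi : ∀ u, IsIntegral ℤ (h u)) (P : Sylow l C)
    (hP : ZC (fun y : (P : Subgroup C) => h y)) :
    LocInt l ((Nat.card C : ℂ)⁻¹ * ∑ u : C, if PiNat {l} (orderOf u) then h u else 0) := by
  set π : C → ℂ := indFun (P : Subgroup C) (fun _ => (1 : ℂ)) with hπ
  have hv : IsCharacter C π := isCharacter_one.indFun
  choose n hn using indFun_one_int (P : Subgroup C)
  obtain ⟨k, hk⟩ := IsPGroup.iff_card.1 P.isPGroup'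
  set N := (l ^ k).totient with hN
  have hNpos : 0 < N := Nat.totient_pos.2 (pow_pos hl.out.pos k)
  have hA : IsIntegral ℤ ⟪h * π ^ (N - 1), π⟫ := by
    have hcl : IsClassFunction C (h * π ^ (N - 1)) :=
      hc.mul ((zc_char hv).pow _).isClassFunction
    rw [hπ, ci_indFun_right _ hcl]
    have : ZC (fun y : (P : Subgroup C) => (h * π ^ (N - 1)) y) :=
      hP.mul (((zc_char hv).pow (N - 1)).comp (P : Subgroup C).subtype)
    exact this.ci_char isCharacter_one
  have hA' : ⟪h * π ^ (N - 1), π⟫ = (Nat.card C : ℂ)⁻¹ * ∑ u : C, h u * (n u : ℂ) ^ N := by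
    rw [ci_def]
    congr 1
    refine Finset.sum_congr rfl fun u _ => ?_
    have e : π u = n u := hn u
    simp only [Pi.mul_apply, Pi.pow_apply, e, map_intCast]
    rw [mul_assoc, ← pow_succ, Nat.sub_add_cancel hNpos]
  have hB : ∀ u : C, ∃ t : ℂ, IsIntegral ℤ t ∧
      (if PiNat {l} (orderOf u) then h u else 0) = h u * (n u : ℂ) ^ N + (l : ℂ) ^ k * t := by
    intro u
    split_ifs with hu
    · obtain ⟨j, hj⟩ := (piNat_single_iff hl.out (orderOf_pos u).ne').1 hu
      have hd : (l : ℤ) ∣ ((P : Subgroup C).index : ℤ) - n u := by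
        refine hv.prime_dvd_degree_sub hl.out (g := u) (k := j) ?_ ?_ (hn u)
        · rw [← hj]; exact pow_orderOf_eq_one u
        · rw [hπ, indFun_apply_one]; simp
      have hnd : ¬ (l : ℤ) ∣ n u := by
        intro h'
        have : (l : ℤ) ∣ ((P : Subgroup C).index : ℤ) := by simpa using dvd_add hd h'
        exact P.not_dvd_index (Int.natCast_dvd_natCast.1 this)
      have hcop : IsCoprime (n u) ((l ^ k : ℕ) : ℤ) := by
        push_cast
        exact IsCoprime.pow_right
          ((Int.isCoprime_iff_gcd_eq_one.2 (by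
            have := (Nat.Prime.coprime_iff_not_dvd hl.out).2
              (fun h'' => hnd (Int.natCast_dvd.2 h''))
            simpa [Int.gcd] using this.symm)))
      obtain ⟨c, hc'⟩ := int_pow_totient hcop
      refine ⟨h u * c, (hi u).mul (Char.isIntegral_intCast c), ?_⟩
      have : (1 : ℂ) - (n u : ℂ) ^ N = (l : ℂ) ^ k * c := by
        have := congrArg (fun z : ℤ => (z : ℂ)) hc'
        simpa [hN] using this
      linear_combination h u * this
    · refine ⟨0, isIntegral_zero, ?_⟩
      have : π u = 0 := by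
        refine indFun_eq_zero_of_forall _ fun x hx => ?_
        exfalso
        apply hu
        have h1 : orderOf (x⁻¹ * u * x) ∣ l ^ k := by
          rw [← hk]; exact (P : Subgroup C).orderOf_dvd_natCard hx
        have h2 : orderOf (x⁻¹ * u * x) = orderOf u := by
          have := (MulAut.conj x⁻¹).orderOf_eq u
          simpa using this
        rw [h2] at h1
        obtain ⟨j, -, hj⟩ := (Nat.dvd_prime_pow hl.out).1 h1
        exact (piNat_single_iff hl.out (orderOf_pos u).ne').2 ⟨j, hj⟩
      have e : (n u : ℂ) = 0 := (hn u).symm.trans this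
      rw [e, zero_pow hNpos.ne']; simp
  choose t ht ht' using hB
  have hcard : (Nat.card C : ℂ) = (l : ℂ) ^ k * ((P : Subgroup C).index : ℂ) := by
    rw [← (P : Subgroup C).card_mul_index, hk]; push_cast; ring
  refine ⟨(P : Subgroup C).index, P.not_dvd_index, ?_⟩
  simp only [ht', Finset.sum_add_distrib, mul_add, ← hA', ← Finset.mul_sum]
  refine ((Char.isIntegral_natCast _).mul hA).add ?_
  have h0 : ((P : Subgroup C).index : ℂ) ≠ 0 := by exact_mod_cast Subgroup.index_ne_zero_of_finite
  have h1 : (l : ℂ) ^ k ≠ 0 := pow_ne_zero _ (by exact_mod_cast hl.out.ne_zero)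
  have : ((P : Subgroup C).index : ℂ) * ((Nat.card C : ℂ)⁻¹ * ((l : ℂ) ^ k * ∑ u, t u)) =
      ∑ u, t u := by
    rw [hcard]; field_simp
  rw [this]
  exact IsIntegral.sum _ fun u _ => ht u

end PL

section Main

variable {G : Type u} [Group G] [Fintype G]

open Classical in
theorem card_class_mul (w : G) :
    (Finset.univ.filter (fun i : G => ConjClasses.mk i = ConjClasses.mk w)).card *
      Nat.card (Subgroup.centralizer ({w} : Set G)) = Nat.card G := by
  have h1 : (Finset.univ.filter (fun i : G => ConjClasses.mk i = ConjClasses.mk w)).card =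
      (MulAction.stabilizer (ConjAct G) w).index := by
    rw [MulAction.index_stabilizer, ConjAct.orbit_eq_carrier_conjClasses, ← Set.ncard_coe_finset]
    congr 1
    ext i
    simp [ConjClasses.mem_carrier_iff_mk_eq]
  rw [h1, mul_comm, Subgroup.nat_card_centralizer_nat_card_stabilizer, Subgroup.card_mul_index]
  rfl

theorem locInt_class_sum {l : ℕ} (hl : l.Prime) (s : G → ℂ) (hs : IsClassFunction G s)
    (h : ∀ w, LocInt l ((Nat.card (Subgroup.centralizer ({w} : Set G)) : ℂ)⁻¹ * s w)) :
    LocInt l ((Nat.card G : ℂ)⁻¹ * ∑ w, s w) := by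
  classical
  rw [← Finset.sum_fiberwise (s := Finset.univ) (g := fun w : G => ConjClasses.mk w),
    Finset.mul_sum]
  refine locInt_sum hl _ _ fun c _ => ?_
  obtain ⟨w, rfl⟩ := ConjClasses.exists_rep c
  have e1 : ∑ i ∈ Finset.univ.filter (fun i : G => ConjClasses.mk i = ConjClasses.mk w), s i =
      (Finset.univ.filter (fun i : G => ConjClasses.mk i = ConjClasses.mk w)).card * s w := by
    rw [Finset.sum_congr rfl (g := fun _ => s w)]
    · simp
    · intro i hi
      exact hs.eq_of_isConj (ConjClasses.mk_eq_mk_iff_isConj.1 (Finset.mem_filter.1 hi).2)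
  have e2 := card_class_mul w
  rw [e1]
  have h0 : (Nat.card (Subgroup.centralizer ({w} : Set G)) : ℂ) ≠ 0 := card_ne_zero_complex _
  have h1 : (Nat.card G : ℂ) ≠ 0 := card_ne_zero_complex _
  have : (Nat.card G : ℂ)⁻¹ *
      ((Finset.univ.filter (fun i : G => ConjClasses.mk i = ConjClasses.mk w)).card * s w) =
      (Nat.card (Subgroup.centralizer ({w} : Set G)) : ℂ)⁻¹ * s w := by
    have e3 := congrArg (fun n : ℕ => (n : ℂ)) e2
    simp only [Nat.cast_mul] at e3
    field_simp
    rw [← e3]; ring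
  rw [this]; exact h w

/-- Brauer's characterization of characters (algebraic integer coefficients). -/
theorem zc_of_elementary (F : G → ℂ) (hc : IsClassFunction G F) (hFi : ∀ g, IsIntegral ℤ (F g))
    (hF : ∀ l : ℕ, l.Prime → ∀ w : G, PiNat {l}ᶜ (orderOf w) → ∀ P : Subgroup G, IsPGroup l P →
      P ≤ Subgroup.centralizer ({w} : Set G) → ZC (fun y : P => F (w * y))) : ZC F := by
  classical
  refine zc_of_ci hc fun χ hχ => isIntegral_of_locInt fun l hl => ?_
  have := Fact.mk hl
  set h : G → ℂ := F * conjFun χ with hh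
  have hhc : IsClassFunction G h := hc.mul hχ.isClassFunction.conjFun
  have hhi : ∀ g, IsIntegral ℤ (h g) := fun g => (hFi g).mul (hχ.isCharacter.conjFun.isIntegral g)
  set s : G → ℂ := fun w => ∑ g ∈ Finset.univ.filter (fun g => constt {l}ᶜ g = w), h g with hs
  have e1 : ⟪F, χ⟫ = (Nat.card G : ℂ)⁻¹ * ∑ w, s w := by
    rw [ci_def]
    simp only [hs]
    congr 1
    exact (Finset.sum_fiberwise Finset.univ (fun g => constt {l}ᶜ g) h).symm
  rw [e1]
  refine locInt_class_sum hl s ?_ fun w => ?_
  · intro w x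
    simp only [hs]
    symm
    refine Finset.sum_bij' (fun g _ => x * g * x⁻¹) (fun g _ => x⁻¹ * g * x) ?_ ?_ ?_ ?_ ?_
    · intro g hg
      simp only [Finset.mem_filter, Finset.mem_univ, true_and] at hg ⊢
      rw [constt_conj, hg]
    · intro g hg
      simp only [Finset.mem_filter, Finset.mem_univ, true_and] at hg ⊢
      have := constt_conj {l}ᶜ x⁻¹ g
      rw [inv_inv] at this
      rw [this, hg]; group
    · intro g _; group
    · intro g _; group
    · intro g _; exact (hhc g x).symm
  by_cases hw : PiNat {l}ᶜ (orderOf w)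
  swap
  · have : s w = 0 := by
      refine Finset.sum_eq_zero fun g hg => ?_
      exfalso
      apply hw
      rw [← (Finset.mem_filter.1 hg).2]
      exact piNat_constt _ _
    rw [this, mul_zero]
    exact LocInt.of_isIntegral hl isIntegral_zero
  set C := Subgroup.centralizer ({w} : Set G) with hC
  have hwC : w ∈ C := Subgroup.mem_centralizer_singleton_iff.2 rfl
  have hcomm : ∀ u : C, (u : G) * w = w * u := fun u => Subgroup.mem_centralizer_singleton_iff.1 u.2
  obtain ⟨P⟩ : Nonempty (Sylow l C) := inferInstance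
  have key := locInt_avg (l := l) (C := C) (fun u => h (w * u)) ?_ (fun u => hhi _) P ?_
  · have e2 : s w = ∑ u : C, if PiNat {l} (orderOf u) then h (w * u) else 0 := by
      rw [← Finset.sum_filter]
      simp only [hs]
      symm
      refine Finset.sum_bij (fun u _ => w * (u : G)) ?_ ?_ ?_ ?_
      · intro u hu
        simp only [Finset.mem_filter, Finset.mem_univ, true_and] at hu ⊢
        refine constt_eq_of_mul (hcomm u).symm hw ?_ rfl
        rw [compl_compl, Subgroup.orderOf_coe]; exact hu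
      · intro a _ b _ e
        exact Subtype.ext (mul_left_cancel e)
      · intro g hg
        have hg' : constt {l}ᶜ g = w := (Finset.mem_filter.1 hg).2
        refine ⟨⟨constt {l} g, ?_⟩, ?_, ?_⟩
        · rw [hC, Subgroup.mem_centralizer_singleton_iff, ← hg']
          exact commute_constt_constt _ _ _
        · simp only [Finset.mem_filter, Finset.mem_univ, true_and]
          rw [← Subgroup.orderOf_coe]
          exact piNat_constt _ _
        · change w * constt {l} g = g
          rw [← hg']; exact constt_compl_mul_constt _ _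
      · intro u _; rfl
    rw [e2]; exact key
  · intro a b
    have := hhc (w * a) b
    beta_reduce
    rw [← this]
    congr 1
    push_cast
    rw [← mul_assoc, ← mul_assoc, ← hcomm b]; group
  · set P' : Subgroup G := (P : Subgroup C).map C.subtype with hP'
    have h1 := hF l hl w hw P' (P.isPGroup'.map _) (Subgroup.map_subtype_le _)
    have h2 := h1.comp ((C.subtype.subgroupMap (P : Subgroup C)))
    have h3 : ZC (fun y : C => conjFun χ (((⟨w, hwC⟩ : C) * y : C) : G)) :=
      ((zc_char hχ.isCharacter.conjFun).comp C.subtype).translate (z := ⟨w, hwC⟩)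
        (fun x => Subtype.ext (hcomm x))
    exact h2.mul (h3.comp (P : Subgroup C).subtype)

/-- An integer valued rational `ZC` function is a generalized character. -/
theorem ZC.virt_of_rational {F : G → ℂ} (hF : ZC F) (hint : ∀ g, ∃ n : ℤ, F g = n)
    (hpow : ∀ (g : G) (k : ℕ), k.Coprime (Nat.card G) → F (g ^ k) = F g) :
    IsGeneralizedCharacter G F := by
  refine virt_of_ci_int hF.isClassFunction fun χ hχ => ?_
  refine exists_int_of_forall_ringEquiv (hF.ci_char hχ.isCharacter) fun σ => ?_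
  obtain ⟨k, hk, hσ⟩ := exists_pow_of_ringHom (σ : ℂ →+* ℂ) (Nat.card_pos (α := G))
  have e := ci_map_ringHom (σ : ℂ →+* ℂ) F hχ.virt
  have e1 : (fun g => (σ : ℂ →+* ℂ) (F g)) = F := by
    ext g; obtain ⟨n, hn⟩ := hint g; rw [hn]; simp
  have e2 : (fun g => (σ : ℂ →+* ℂ) (χ g)) = fun g => χ (g ^ k) := by
    ext g
    refine hχ.isCharacter.ringHom_apply _ fun z hz => hσ z ?_
    obtain ⟨c, hc⟩ := orderOf_dvd_natCard g
    rw [hc, pow_mul, hz, one_pow]
  rw [e1, e2] at e
  change (σ : ℂ →+* ℂ) _ = _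
  rw [← e, ← ci_comp_equiv (powCoprime hk.symm) F χ]
  congr 1
  ext g
  exact (hpow g k hk).symm

end Main

end Cfsg.Agent.BS
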