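import Cfsg.Agent.BS.Q8

/-!
# The Brauer–Suzuki theorem
-/

set_option autoImplicit false
set_option linter.unusedSectionVars false

namespace Cfsg.Agent.BS

open Cfsg Cfsg.Agent.Char Cfsg.Agent.GT Subgroup
open scoped ComplexConjugate

universe u v

variable {G : Type u} [Group G] [Fintype G] {z : G}

theorem exists_pow_invol {g : G} (hg : ¬ Odd (orderOf g)) : ∃ k : ℕ, orderOf (g ^ k) = 2 := by
  obtain ⟨k, hk⟩ := Nat.not_odd_iff_even.1 hg
  have hpos := orderOf_pos g
  exact ⟨k, orderOf_eq_two_of (by rw [← pow_add, ← hk, pow_orderOf_eq_one])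
    (pow_ne_one_of_lt_orderOf (by omega) (by omega))⟩

theorem even_TI (h : RankOne G) (hz : orderOf z = 2) {a x : G} (ha : a ∈ C1[z])
    (hae : ¬ Odd (orderOf a)) (hx : x⁻¹ * a * x ∈ C1[z]) : x ∈ C1[z] := by
  obtain ⟨k, hk⟩ := exists_pow_invol hae
  have e1 : a ^ k = z := h _ _ hk hz (mem_cent1.1 (pow_mem ha k))
  have e2 : (x⁻¹ * a * x) ^ k = x⁻¹ * z * x := by
    rw [← e1]; simpa using conj_pow (i := k) (a := x⁻¹) (b := a)
  have e3 : x⁻¹ * z * x = z := h _ _ (by simpa [hz] using GT.orderOf_conj x⁻¹ z) hz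
    (mem_cent1.1 (e2 ▸ pow_mem hx k))
  rw [mem_cent1]
  calc x * z = x * (x⁻¹ * z * x) := by rw [e3]
    _ = _ := by group

theorem ind_res (h : RankOne G) (hz : orderOf z = 2) {F : G → ℂ} (hF : IsClassFunction G F)
    (h0 : ∀ g, Odd (orderOf g) → F g = 0) : indFun C1[z] (fun c => F c) = F := by
  ext g
  by_cases hg : Odd (orderOf g)
  · rw [h0 g hg]
    exact indFun_eq_zero_of_forall _ fun x _ => h0 _ (by
      have := GT.orderOf_conj x⁻¹ g
      rw [inv_inv] at this
      rwa [this])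
  · obtain ⟨k, hk⟩ := exists_pow_invol hg
    obtain ⟨c, hc⟩ := isConj_iff.1 (h.isConj hk hz)
    have hm : c * g * c⁻¹ ∈ C1[z] := by
      rw [mem_cent1, ← hc, ← conj_pow]; exact (Commute.self_pow _ _).eq
    rw [← isClassFunction_indFun _ _ g c, ← hF g c]
    exact indFun_apply_of_TI _ (hF.restrict _) ⟨_, hm⟩ fun x hx _ =>
      even_TI h hz hm (by rwa [GT.orderOf_conj]) hx

theorem Tri.ind (h : RankOne G) (hz : orderOf z = 2) [Fintype C1[z]] {β : Fin 3 → C1[z] → ℂ}
    (hβ : Tri β) : Tri fun i => indFun C1[z] (β i) := by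
  have rη : (fun c : C1[z] => BS.eta (c : G)) = BS.eta := funext fun c => eta_congr (by simp)
  have rΦ : (fun c : C1[z] => Phi (c : G)) = Phi := funext fun c => Phi_congr (by simp)
  have iη : indFun C1[z] BS.eta = BS.eta := by
    rw [← rη]; exact ind_res h hz eta_class fun g hg => eta_odd hg
  refine ⟨fun i => (hβ.virt i).indFun, fun i g hg => ?_, fun i j => ?_, fun i => ?_, fun i => ?_,
    ?_, fun i => ?_⟩
  · exact indFun_eq_zero_of_forall _ fun x hx => hβ.odd _ _ (by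
      have := GT.orderOf_conj x⁻¹ g
      rw [inv_inv] at this
      rwa [← orderOf_coe, this])
  · rw [← hβ.gram]
    refine ci_indFun_indFun_of_TI _ {a | a ∈ C1[z] ∧ ¬ Odd (orderOf a)}
      (fun a ha x hx => even_TI h hz ha.1 ha.2 hx.1) (fun k hk => hβ.odd _ _ ?_)
      (hβ.virt j).isClassFunction (fun k hk => hβ.odd _ _ ?_)
    all_goals simpa using hk
  · rw [ci_indFun_left _ _ (isClassFunction_const 1), hβ.one]
  · rw [ci_indFun_left _ _ eta_class, rη, hβ.eta]
  · rw [← indFun_sum, hβ.sum, ← ind_res h hz (F := (fun _ => 2) + BS.eta - Phi)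
      (((isClassFunction_const 2).add eta_class).sub Phi_class)
      fun g hg => by simp [eta_odd hg, Phi_odd hg]]
    congr 1
    rw [← rη, ← rΦ]; rfl
  · rw [mul_comm, ← indFun_mul_restrict _ _ Phi_class, rΦ, mul_comm, hβ.mul, indFun_add,
      indFun_smul, iη]

theorem Tri.kerZ (h : RankOne G) (hz : orderOf z = 2) {b : Fin 3 → G → ℂ} (hb : Tri b)
    (hΦ : IsGeneralizedCharacter G Phi) (h3 : ⟪(Phi : G → ℂ), Phi⟫ = 3) : KerZ z := by
  classical
  have hηv : IsGeneralizedCharacter G BS.eta := by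
    rw [eta_eq]
    refine IsGeneralizedCharacter.sub ?_ (hΦ.mul hΦ)
    convert virt_one.nsmul 4 using 1; ext; simp
  have η1 : ⟪(BS.eta : G → ℂ), fun _ => 1⟫ = 1 := by rw [ci_eta_one, h3]; norm_num
  have η1' : ⟪fun _ => 1, (BS.eta : G → ℂ)⟫ = 1 := by rw [← hηv.ci_comm virt_one, η1]
  have ηη : ⟪(BS.eta : G → ℂ), BS.eta⟫ = 4 := by rw [ci_eta_eta, η1, mul_one]
  have n3 : nsq (BS.eta - fun _ => 1 : G → ℂ) = 3 := by
    rw [nsq_sub, nsq_eq_of_ci (r := 4) (by rw [ηη]; norm_num), η1, isIrrCharacter_one.nsq]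
    norm_num
  have hbd : ∀ u, IsSIrr G u → ⟪u, fun _ => 1⟫ = 0 →
      ⟪u, BS.eta⟫ = 1 ∨ ⟪u, BS.eta⟫ = 0 ∨ ⟪u, BS.eta⟫ = -1 := by
    intro u hu h1
    obtain ⟨n, hn⟩ := hηv.ci_int hu.virt
    have := sq_le_nsq_of_ci (α := BS.eta - fun _ => 1) hu.ci_self (n := n)
      (by rw [ci_sub_left, hn, ci_eq_zero_symm h1, sub_zero])
    rw [n3] at this
    have h2 : n ^ 2 ≤ 3 := by exact_mod_cast this
    have c8 : n ≤ 1 := by nlinarith
    have c9 : -1 ≤ n := by nlinarith
    rw [hu.virt.ci_comm hηv, hn]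
    interval_cases n <;> simp
  have hdec : ∀ i, ∃ u p : G → ℂ, IsSIrr G u ∧ IsSIrr G p ∧ ⟪u, fun _ => 1⟫ = 0 ∧
      ⟪p, fun _ => 1⟫ = 0 ∧ ⟪u, BS.eta⟫ = 1 ∧ ⟪p, BS.eta⟫ = 0 ∧ b i = (fun _ => 1) + u - p := by
    intro i
    obtain ⟨u, p, hu, hp, -, u1, p1, e⟩ :=
      exists_of_nsq_three (hb.virt i) (by rw [hb.gram]; simp) (hb.one i)
    have h2 := hb.eta i
    rw [e, ci_sub_left, ci_add_left, η1'] at h2
    rcases hbd p hp p1 with h4 | h4 | h4
    · rcases hbd u hu u1 with h5 | h5 | h5 <;> rw [h4, h5] at h2 <;> norm_num at h2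
    · exact ⟨u, p, hu, hp, u1, p1, by linear_combination h2 + h4, h4, e⟩
    · refine ⟨-p, -u, hp.neg, hu.neg, by rw [ci_neg_left, p1, neg_zero],
        by rw [ci_neg_left, u1, neg_zero], by rw [ci_neg_left, h4, neg_neg],
        by rw [ci_neg_left]; linear_combination -h2 - h4, by rw [e]; abel⟩
  choose u p hu hp u1 p1 uη pη e using hdec
  have up : ∀ i j, ⟪u i, p j⟫ = 0 := by
    intro i j
    by_contra hne
    have h1 := uη i
    rcases (hu i).eq_or_eq_neg_of_ci_ne_zero (hp j) hne with e' | e'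
    · rw [e', pη] at h1; exact zero_ne_one h1
    · rw [e', ci_neg_left, pη, neg_zero] at h1; exact zero_ne_one h1
  have gram : ∀ i j, ⟪u i, u j⟫ + ⟪p i, p j⟫ = if i = j then 2 else 0 := by
    intro i j
    have h1 := hb.gram i j
    rw [e, e] at h1
    simp only [ci_sub_left, ci_sub_right, ci_add_left, ci_add_right, ci_one_one, u1, p1, up,
      ci_eq_zero_symm (u1 _), ci_eq_zero_symm (p1 _), ci_eq_zero_symm (up _ _)] at h1
    split_ifs at h1 ⊢ <;> linear_combination h1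
  have uu : ∀ i j, ⟪u i, u j⟫ = if i = j then 1 else 0 := by
    intro i j
    split_ifs with hij
    · rw [hij, (hu j).ci_self]
    have h1 := gram i j
    rw [if_neg hij] at h1
    rcases (hu i).ci_cases (hu j) with h2 | h2 | h2
    · exfalso
      have h4 := (hp i).eq_neg_of_ci_eq_neg_one (hp j) (by linear_combination h1 - h2.2)
      have a1 := hb.odd i 1 (by simp)
      have a2 := hb.odd j 1 (by simp)
      rw [e, h2.1, h4] at a1
      rw [e] at a2
      simp only [Pi.sub_apply, Pi.add_apply, Pi.neg_apply] at a1 a2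
      exact (hp j).apply_one_ne_zero (by linear_combination (a1 - a2) / 2)
    · have a1 := uη i
      rw [h2.1, ci_neg_left, uη] at a1
      norm_num at a1
    · exact h2.2.2
  have pp : ∀ i j, ⟪p i, p j⟫ = if i = j then 1 else 0 := by
    intro i j
    have h1 := gram i j
    rw [uu] at h1
    split_ifs at h1 ⊢ <;> linear_combination h1
  have ηu : ∀ i, ⟪BS.eta, u i⟫ = 1 := fun i => by rw [hηv.ci_comm (hu i).virt, uη]
  have hη : BS.eta - (fun _ => 1) - ∑ i, u i = 0 := by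
    rw [← ci_self_eq_zero]
    simp only [Fin.sum_univ_three, ci_sub_left, ci_sub_right, ci_add_left, ci_add_right, ci_one_one,
      u1, ci_eq_zero_symm (u1 _), ηη, η1, η1', ηu, uη, uu]
    simp; norm_num
  have hsum : Phi = ∑ i, p i := by
    have h1 := hb.sum
    simp only [e, Fin.sum_univ_three] at h1 hη ⊢
    ext g
    have a1 := congrFun h1 g
    have a2 := congrFun hη g
    simp only [Pi.sub_apply, Pi.add_apply, Pi.zero_apply] at a1 a2 ⊢
    linear_combination a1 + a2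
  have pΦ : ∀ i, ⟪p i, Phi⟫ = 1 := fun i => by
    rw [hsum, ci_sum_right]; simp [pp]
  have γ1 : ∀ i, ⟪Phi * p i, fun _ => 1⟫ = 1 := fun i => by rw [ci_Phi_mul_one, pΦ]
  have hγ := fun i => hΦ.mul (hp i).virt
  obtain ⟨c, hc⟩ : ∃ c : Fin 3 → ℤ, ∀ j, ⟪Phi * p j, u j⟫ = c j :=
    ⟨_, fun j => (hγ j).ci_eq_zi (hu j).virt⟩
  obtain ⟨ρ, hρ⟩ : ∃ ρ : Fin 3 → Fin 3 → ℤ, ∀ j i, ⟪Phi * p j, p i⟫ = ρ j i :=
    ⟨_, fun j i => (hγ j).ci_eq_zi (hp i).virt⟩
  have ρsymm : ∀ j i, ρ j i = ρ i j := fun j i => by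
    have : (ρ j i : ℂ) = ρ i j := by
      rw [← hρ, ← hρ, ci_Phi_mul, (hp j).virt.ci_comm (hγ i)]
    exact_mod_cast this
  have ρrow : ∀ j, ρ j 0 + ρ j 1 + ρ j 2 = 0 := fun j => by
    have : (ρ j 0 : ℂ) + ρ j 1 + ρ j 2 = 0 := by
      rw [← hρ, ← hρ, ← hρ, ← ci_add_right, ← ci_add_right, ← Fin.sum_univ_three, ← hsum,
        ci_Phi_mul, show (Phi * Phi : G → ℂ) = (4 : ℂ) • (fun _ => 1) - BS.eta by
          rw [eta_eq]; ext; simp, ci_sub_right, ci_smul_right, p1, pη]
      simp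
    exact_mod_cast this
  have cρ : ∀ j, ρ j j = c j - 1 := fun j => by
    have h1 : ⟪Phi * p j, b j⟫ = 2 := by
      rw [ci_Phi_mul, hb.mul, ci_add_right, ci_smul_right, pη, e, ci_sub_right, ci_add_right, p1,
        ci_eq_zero_symm (up _ _), pp]
      simp [map_ofNat]
    rw [e, ci_sub_right, ci_add_right, γ1, hc, hρ] at h1
    have : (ρ j j : ℂ) = c j - 1 := by linear_combination -h1
    exact_mod_cast this
  have nγ : ∀ j, nsq (Phi * p j) ≤ 4 := fun j => by
    have h1 : nsq (Phi * p j) ≤ nsq ((2 : ℂ) • p j) := by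
      unfold nsq
      gcongr with g
      rcases phi_cases g with h1 | h1 | h1 <;> simp [h1]
    rw [nsq_smul, (hp j).nsq] at h1
    norm_num at h1
    exact h1
  have c0 : ∀ j, 0 ≤ c j := fun j => by
    have h1 := nsq_nonneg (Phi * p j + (u j + (2 : ℂ) • p j - fun _ => 1))
    have h2 : nsq (u j + (2 : ℂ) • p j - fun _ => 1) = 6 := nsq_eq_of_ci (by
      simp only [ci_sub_left, ci_sub_right, ci_add_left, ci_add_right, ci_smul_left, ci_smul_right,
        ci_one_one, u1, p1, up, ci_eq_zero_symm (u1 _), ci_eq_zero_symm (p1 _),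
        ci_eq_zero_symm (up _ _), uu, pp, map_ofNat]
      simp; norm_num)
    rw [nsq_add, h2, ci_sub_right, ci_add_right, ci_smul_right, hc, hρ, γ1, cρ] at h1
    have h4 := nγ j
    simp [map_ofNat] at h1
    have : (-1 : ℝ) < c j := by linarith
    have : (-1 : ℤ) < c j := by exact_mod_cast this
    omega
  obtain ⟨j, hj⟩ : ∃ j, 1 ≤ c j := by
    by_contra hn
    push Not at hn
    have a0 := ρrow 0; have a1 := ρrow 1; have a2 := ρrow 2
    rw [cρ] at a0 a1 a2
    have := ρsymm 0 1; have := ρsymm 0 2; have := ρsymm 1 2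
    have := hn 0; have := hn 1; have := hn 2; have := c0 0; have := c0 1; have := c0 2
    omega
  have hγj : Phi * p j - ((2 : ℂ) • ((fun _ => 1) + u j) - BS.eta) = 0 := by
    rw [← nsq_eq_zero]
    refine le_antisymm ?_ (nsq_nonneg _)
    have h2 : nsq ((2 : ℂ) • ((fun _ => 1) + u j) - BS.eta) = 4 := nsq_eq_of_ci (by
      simp only [ci_sub_left, ci_sub_right, ci_add_left, ci_add_right, ci_smul_left, ci_smul_right,
        ci_one_one, u1, ci_eq_zero_symm (u1 _), uu, map_ofNat, η1, η1', ηu, uη, ηη]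
      simp; norm_num)
    rw [nsq_sub, h2, ci_sub_right, ci_smul_right, ci_add_right, hc, γ1, ci_Phi_mul_eta]
    have h4 := nγ j
    have : (1 : ℝ) ≤ c j := by exact_mod_cast hj
    simp [map_ofNat]
    linarith
  refine kerZ_of_sirr (hu j) (u1 j) (three_term h hz (hu j) (hp j) (fun g hg => ?_) ?_)
  · have := hb.odd j g hg
    rw [e] at this
    simp only [Pi.sub_apply, Pi.add_apply] at this
    linear_combination -this
  · have := congrFun hγj z
    simp only [Pi.sub_apply, Pi.add_apply, Pi.mul_apply, Pi.smul_apply, Phi_two hz, eta_two hz,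
      smul_eq_mul, Pi.zero_apply] at this
    rw [show p j z = -(1 + u j z) by linear_combination -this / 2]; ring

theorem kerZ_q8 (h : RankOne G) (hz : orderOf z = 2)
    (hs : ∀ P : Subgroup G, IsPGroup 2 P → ∃ T : Subgroup G, P ≤ T ∧ Nat.card T = 8 ∧ ¬ IsCyclic T) :
    KerZ z := by
  classical
  have hQ := qhyp_of h hs
  have hΦ := Phi_virt h hs
  obtain ⟨f, hf, hfz⟩ : ∃ f : G, orderOf f = 4 ∧ f * f = z := by
    obtain ⟨T, h1, h2, h3⟩ := hs (zpowers z)
      (PG.isPGroup_of_card_eq (by rw [Nat.card_zpowers, hz]))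
    obtain ⟨w, -, hw, h4, a, ha, ha4⟩ := q8_struct h h2 h3
    refine ⟨a, ha4, ?_⟩
    rcases h4 z (h1 (mem_zpowers z)) with e | e | e
    · exact absurd e (ne_one_of_orderOf_two hz)
    · rcases h4 a ha with rfl | rfl | e'
      · simp at ha4
      · omega
      · rw [e'.2, e]
    · omega
  have hff : IsConj f f⁻¹ := isConj_iff.2 (hQ.conj_inv f hf)
  obtain ⟨n, hn⟩ := hΦ.nsq_nat
  have hn1 : 1 ≤ nsq (Phi : G → ℂ) := hΦ.one_le_nsq fun e => by
    have := congrFun e 1
    rw [Phi_odd (by simp)] at this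
    simp at this
  have hn4 : nsq (Phi : G → ℂ) < 4 := by
    have a1 : 0 < nsq (eta : G → ℂ) := nsq_pos fun e => by
      have := congrFun e f
      simp [eta, hf] at this
    have a2 := ci_eta_eta (G := G)
    rw [ci_eta_one, ci_self, ci_self] at a2
    have : nsq (eta : G → ℂ) = 4 * (4 - nsq (Phi : G → ℂ)) := by exact_mod_cast a2
    linarith
  rw [hn] at hn1 hn4
  have hn1' : 1 ≤ n := by exact_mod_cast hn1
  have hn4' : n < 4 := by exact_mod_cast hn4
  interval_cases n
  · exact kerZ_of_neg (hΦ.isSIrr_of_nsq (by simpa using hn))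
      (by rw [Phi_two hz, Phi_odd (by simp)]) hfz hff
  · obtain ⟨p, q, hp, hq, -, e⟩ := hΦ.exists_of_nsq_two (by simpa using hn)
    refine kerZ_of_neg hp (two_term h hz hp hq (fun g hg => ?_) ?_) hfz hff
    · rw [← Phi_odd hg, e]; rfl
    · rw [← Phi_two hz, e]; rfl
  · have h3 : ⟪(Phi : G → ℂ), Phi⟫ = 3 := by rw [ci_self, hn]; norm_num
    have rη : (fun c : C1[z] => BS.eta (c : G)) = BS.eta := funext fun c => eta_congr (by simp)
    have rΦ : (fun c : C1[z] => Phi (c : G)) = Phi := funext fun c => Phi_congr (by simp)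
    have iη : indFun C1[z] BS.eta = BS.eta := by
      rw [← rη]; exact ind_res h hz eta_class fun g hg => eta_odd hg
    have h3' : ⟪(Phi : C1[z] → ℂ), Phi⟫ = 3 := by
      have a1 := ci_indFun_left C1[z] eta (isClassFunction_const 1)
      rw [iη, ci_eta_one, ci_eta_one, h3] at a1
      linear_combination a1
    obtain ⟨β, hβ⟩ := exists_tri (hQ.cent1 hz) (z := ⟨z, self_mem_cent1 z⟩) (by simpa using hz)
      (fun g => Subtype.ext (mem_cent1.1 g.2)) (rΦ ▸ hΦ.restrict _) h3'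
    exact (hβ.ind h hz).kerZ h hz hΦ h3

theorem kerZ_of_not_cyclic (h : RankOne G) (hz : orderOf z = 2) {P : Subgroup G}
    (hP : IsPGroup 2 P) (hc : ¬ IsCyclic P) : KerZ z := by
  obtain ⟨T, hT, hPT⟩ := exists_syl_ge Nat.prime_two hP le_top
  have hTc : ¬ IsCyclic T := fun e => hc (PG.isCyclic_of_le' e hPT)
  obtain ⟨x, hx, n, ho, hcard, h1⟩ := h.quat (syl_isPGroup Nat.prime_two hT) hTc
  have hall : ∀ Q : Subgroup G, IsPGroup 2 Q → ∃ S : Subgroup G, Q ≤ S ∧ IsPGroup 2 S ∧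
      Nat.card S = 2 ^ (n + 3) ∧ ¬ IsCyclic S := by
    intro Q hQ
    obtain ⟨g, -, hg⟩ := syl_exists_le_conj Nat.prime_two hT hQ le_top
    exact ⟨_, hg, PG.isPGroup_conj_iff.2 (syl_isPGroup Nat.prime_two hT), by rw [card_conj, hcard],
      by rwa [PG.isCyclic_conj_iff]⟩
  rcases n with _ | n
  · exact kerZ_q8 h hz fun Q hQ => by
      obtain ⟨S, h1, -, h2, h3⟩ := hall Q hQ
      exact ⟨S, h1, h2, h3⟩
  · obtain ⟨y, hy, hy'⟩ := SetLike.not_le_iff_exists.1
      (fun h' : T ≤ zpowers x => hTc (PG.isCyclic_of_le' inferInstance h'))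
    refine kerZ_big h (n := n) ho (h1 y hy hy').1 (fun Q hQ hxQ g hg => ?_) hz
    obtain ⟨S, h2, h3, h4, h5⟩ := hall Q hQ
    obtain ⟨a, ha, m, hao, hScard, h6⟩ := h.quat h3 h5
    have hm : m = n + 1 := by
      have := Nat.pow_right_injective le_rfl (hScard.symm.trans h4)
      omega
    subst hm
    have hxa : x ∈ zpowers a := by
      by_contra hn
      have := (h6 x (h2 hxQ) hn).2
      rw [ho, show 4 = 2 ^ 2 by norm_num] at this
      have := Nat.pow_right_injective le_rfl this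
      omega
    have e : zpowers x = zpowers a := eq_of_le_of_card_ge (zpowers_le.2 hxa)
      (by rw [Nat.card_zpowers, Nat.card_zpowers, ho, hao])
    rw [e]
    by_cases hga : g ∈ zpowers a
    · exact Or.inl hga
    · right
      obtain ⟨k, rfl⟩ := hxa
      simp only
      rw [← conj_zpow, (h6 g (h2 hg) hga).1, inv_zpow]

end Cfsg.Agent.BS

namespace Cfsg.Agent.BS

open Cfsg Cfsg.Agent.Char Cfsg.Agent.GT Subgroup

universe u

/-- **Brauer–Suzuki**: if commuting involutions of `G` are equal, then any product of two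
involutions lies in `O_{2'}(G)`. -/
theorem brauer_suzuki {G : Type u} [Group G] [Finite G] (h : RankOne G) {a b : G}
    (ha : orderOf a = 2) (hb : orderOf b = 2) : a * b ∈ piCore {2}ᶜ G := by
  classical
  have : Fintype G := Fintype.ofFinite G
  obtain ⟨N, hN⟩ : ∃ N : Subgroup G, N = Subgroup.closure {x : G | orderOf x = 2} := ⟨_, rfl⟩
  have hmem : ∀ x, orderOf x = 2 → x ∈ N := fun x hx => hN ▸ subset_closure hx
  have hNn : ⊤ ≤ N[N] := by
    rw [le_norm_iff]
    intro g _ x hx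
    rw [hN] at hx
    induction hx using closure_induction with
    | mem x hx => exact hmem _ (by rw [GT.orderOf_conj]; exact hx)
    | one => simp
    | mul x y _ _ hx hy => simpa [mul_assoc] using mul_mem hx hy
    | inv x _ hx => simpa [mul_assoc] using inv_mem hx
  have hcyc : ∀ P : Subgroup G, P ≤ N → IsPGroup 2 P → IsCyclic P := by
    intro P hPN hP
    by_contra hc
    obtain ⟨M, hM, haM, hMt⟩ := (kerZ_of_not_cyclic (h.subgroup N) (z := ⟨a, hmem a ha⟩)
      (by simpa using ha) ((PG.isPGroup_subgroupOf_iff hPN).2 hP)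
      (by rwa [PG.isCyclic_subgroupOf_iff hPN])).exists_normal
    apply hMt
    have : N ≤ M.map N.subtype := by
      nth_rewrite 1 [hN]
      rw [closure_le]
      intro x hx
      obtain ⟨c, hc⟩ := isConj_iff.1 ((h.subgroup N).isConj (a := ⟨a, hmem a ha⟩)
        (b := ⟨x, hmem x hx⟩) (by simpa using ha) (by simpa using hx))
      exact ⟨_, hc ▸ hM.conj_mem _ haM c, rfl⟩
    rw [eq_top_iff]
    rintro x -
    obtain ⟨y, hy, e⟩ := this x.2
    rwa [← Subtype.ext e]
  rw [← piCoreOf_top]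
  exact piCoreOf_le_of_normal le_top hNn
    (mem_core_of_cyclic hcyc (mul_mem (hmem a ha) (hmem b hb)) (h.odd_mul ha hb))

end Cfsg.Agent.BS
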