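import Cfsg.Agent.BS.Invol
import Cfsg.Agent.Cls.TwoGroups

/-!
# 2-groups with three central involutions permuted by an automorphism
-/

set_option autoImplicit false
set_option linter.unusedSectionVars false

namespace Cfsg.Agent.BS

open Cfsg Cfsg.Agent.GT Subgroup Function
open scoped commutatorElement

universe u

theorem dvd_card_of_period {α : Type*} [DecidableEq α] {f : α → α} (hf : Injective f) (m : ℕ)
    (X : Finset α) (hX : ∀ x ∈ X, f x ∈ X)
    (h : ∀ x ∈ X, 0 < minimalPeriod f x ∧ m ∣ minimalPeriod f x) : m ∣ X.card := by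
  induction X using Finset.strongInduction with
  | H X ih =>
    rcases X.eq_empty_or_nonempty with rfl | ⟨x, hx⟩
    · simp
    have hp := (h x hx).1
    set O := (Finset.range (minimalPeriod f x)).image (fun i => f^[i] x) with hO
    have hm : ∀ y, y ∈ O ↔ ∃ i, f^[i] x = y := fun y => by
      simp only [hO, Finset.mem_image, Finset.mem_range]
      exact ⟨fun ⟨i, _, e⟩ => ⟨i, e⟩, fun ⟨i, e⟩ =>
        ⟨i % minimalPeriod f x, Nat.mod_lt _ hp, by rw [iterate_mod_minimalPeriod_eq, e]⟩⟩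
    have hOX : O ⊆ X := fun y hy => by
      obtain ⟨i, rfl⟩ := (hm y).1 hy
      clear hy
      induction i with
      | zero => exact hx
      | succ i ih => rw [iterate_succ_apply']; exact hX _ ih
    have hc : O.card = minimalPeriod f x := by
      rw [hO, Finset.card_image_of_injOn, Finset.card_range]
      intro i hi j hj e
      exact iterate_injOn_Iio_minimalPeriod (by simpa using hi) (by simpa using hj) e
    have := ih (X \ O) (Finset.sdiff_ssubset hOX ⟨x, (hm x).2 ⟨0, rfl⟩⟩) (fun y hy => ?_)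
      (fun y hy => h y (Finset.mem_sdiff.1 hy).1)
    · rw [← Finset.card_sdiff_add_card_eq_card hOX, hc]; exact dvd_add this (h x hx).2
    rw [Finset.mem_sdiff] at hy ⊢
    refine ⟨hX y hy.1, fun e => hy.2 ?_⟩
    obtain ⟨i, e⟩ := (hm _).1 e
    refine (hm _).2 ⟨i + (minimalPeriod f x - 1), hf ?_⟩
    rw [← e, ← iterate_succ_apply' f, show (i + (minimalPeriod f x - 1)).succ =
      i + minimalPeriod f x by omega, iterate_add_apply, iterate_minimalPeriod]

variable {T : Type u} [Group T] [Finite T]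

theorem card_eq_add_three_pow {σ : MulAut T} {k : ℕ} (hσ : σ ^ 3 ^ k = 1) (j : ℕ)
    {C R : Subgroup T} (hCR : C ≤ R)
    (h : ∀ x ∈ R, x ∉ C → σ x ∈ R ∧ σ x ∉ C ∧ (σ ^ 3 ^ j) x ≠ x) :
    ∃ c, Nat.card R = Nat.card C + 3 ^ (j + 1) * c := by
  classical
  have : Fintype T := Fintype.ofFinite T
  have it : ∀ (n : ℕ) (x : T), (⇑σ)^[n] x = (σ ^ n) x := fun n x => by
    induction n with
    | zero => rfl
    | succ n ih => rw [iterate_succ_apply', ih, pow_succ']; rfl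
  have e1 : ∀ K : Subgroup T, Nat.card K = (Finset.univ.filter (· ∈ K)).card := fun K => by
    rw [Nat.card_eq_fintype_card, Fintype.card_subtype]
  have hs : Finset.univ.filter (· ∈ C) ⊆ Finset.univ.filter (· ∈ R) := fun x hx => by
    simp only [Finset.mem_filter, Finset.mem_univ, true_and] at hx ⊢; exact hCR hx
  obtain ⟨c, hc⟩ := dvd_card_of_period σ.injective (3 ^ (j + 1))
    (Finset.univ.filter (· ∈ R) \ Finset.univ.filter (· ∈ C)) (fun x hx => by
      simp only [Finset.mem_sdiff, Finset.mem_filter, Finset.mem_univ, true_and] at hx ⊢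
      exact ⟨(h x hx.1 hx.2).1, (h x hx.1 hx.2).2.1⟩) (fun x hx => by
      simp only [Finset.mem_sdiff, Finset.mem_filter, Finset.mem_univ, true_and] at hx
      have hp : IsPeriodicPt σ (3 ^ k) x := by
        change (⇑σ)^[3 ^ k] x = x
        rw [it, hσ]; rfl
      refine ⟨hp.minimalPeriod_pos (by positivity), ?_⟩
      obtain ⟨i, -, e⟩ := (Nat.dvd_prime_pow Nat.prime_three).1 hp.minimalPeriod_dvd
      rw [e]
      refine pow_dvd_pow 3 ?_
      by_contra hi
      refine (h x hx.1 hx.2).2.2 ?_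
      rw [← it]
      exact isPeriodicPt_iff_minimalPeriod_dvd.2 (e ▸ pow_dvd_pow 3 (by omega)))
  exact ⟨c, by rw [e1, e1, ← hc, add_comm, Finset.card_sdiff_add_card_eq_card hs]⟩

/-- Exponent four with central involutions. -/
structure E4 (X : Type u) [Group X] : Prop where
  cent : ∀ w : X, w * w = 1 → ∀ x, x * w = w * x
  four : ∀ x : X, x * x * (x * x) = 1

namespace E4
variable {X : Type u} [Group X]

theorem mul_sq (H : E4 X) {a b : X} (ha : a * a = 1) (hb : b * b = 1) : a * b * (a * b) = 1 := by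
  rw [mul_assoc, ← mul_assoc b, H.cent a ha b, mul_assoc a, hb, mul_one, ha]

theorem cm_sq (H : E4 X) (a b : X) : ⁅a, b⁆ * ⁅a, b⁆ = 1 := by
  have : ⁅a, b⁆ = a * a * (a⁻¹ * b * (a⁻¹ * b)) * (b⁻¹ * b⁻¹) := by group
  rw [this]
  exact H.mul_sq (H.mul_sq (H.four _) (H.four _)) (H.four _)

theorem cm_mul_left (H : E4 X) (a b d : X) : ⁅a * b, d⁆ = ⁅a, d⁆ * ⁅b, d⁆ := by
  calc ⁅a * b, d⁆ = a * ⁅b, d⁆ * a⁻¹ * ⁅a, d⁆ := by group
    _ = _ := by rw [H.cent _ (H.cm_sq b d) a, mul_inv_cancel_right, H.cent _ (H.cm_sq a d)]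

theorem cm_symm (H : E4 X) (a b : X) : ⁅a, b⁆ = ⁅b, a⁆ := by
  rw [← commutatorElement_inv, inv_eq_of_mul_eq_one_right (H.cm_sq b a)]

theorem cm_mul_right (H : E4 X) (a b d : X) : ⁅d, a * b⁆ = ⁅d, a⁆ * ⁅d, b⁆ := by
  rw [H.cm_symm, H.cm_mul_left, H.cm_symm a, H.cm_symm b]

theorem sq_mul (H : E4 X) (a b : X) : a * b * (a * b) = a * a * (b * b) * ⁅a, b⁆ := by
  calc a * b * (a * b) = a * ⁅b, a⁆ * (a * (b * b)) := by group
    _ = _ := by rw [H.cm_symm b, mul_assoc, ← H.cent _ (H.cm_sq a b)]; group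

theorem cm_eq (H : E4 X) (a b : X) : ⁅a, b⁆ = a * a * (b * b) * (a * b * (a * b)) := by
  rw [H.sq_mul, ← mul_assoc, H.mul_sq (H.four _) (H.four _), one_mul]

/-- the subgroup of the elements of order at most two -/
def V (H : E4 X) : Subgroup X where
  carrier := {w | w * w = 1}
  one_mem' := one_mul 1
  mul_mem' := H.mul_sq
  inv_mem' := fun {a} (ha : a * a = 1) => by
    change a⁻¹ * a⁻¹ = 1
    rw [← mul_inv_rev, ha, inv_one]

theorem mem_V (H : E4 X) {w : X} : w ∈ H.V ↔ w * w = 1 := Iff.rfl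

theorem mem_norm (H : E4 X) [Finite X] {D : Subgroup X} (hD : H.V ≤ D) (y : X) : y ∈ N[D] :=
  mem_normalizer_of_conj_le (conj_le_iff_forall.2 fun x hx => by
    rw [show y * x * y⁻¹ = ⁅y, x⁆ * x by group]
    exact mul_mem (hD (H.cm_sq y x)) hx)

theorem card_sup_le (H : E4 X) [Finite X] {D : Subgroup X} (hD : H.V ≤ D) (y : X) :
    Nat.card ↥(D ⊔ zpowers y) ≤ 2 * Nat.card D :=
  Nat.le_of_dvd (by have := card_pos' D; omega)
    (PG.card_sup_zpowers_dvd (H.mem_norm hD y) (hD (by rw [pow_two]; exact H.four y)))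

theorem card_le (H : E4 X) [Finite X] (hV : Nat.card H.V ≤ 4) : Nat.card X ≤ 128 := by
  by_contra hc
  have ex : ∀ C D : Subgroup X, Nat.card D < Nat.card C → ∃ y ∈ C, y ∉ D := fun C D h =>
    SetLike.not_le_iff_exists.1 fun e => absurd (card_le_of_le e) (by omega)
  obtain ⟨x, -, hx⟩ := ex ⊤ H.V (by rw [card_top]; omega)
  have h1 := PG.relIndex_cent1_le_card (H := ⊤) (T := H.V) (v := x) fun y _ => H.cm_sq y x
  have h2 := card_inf_mul_relIndex C1[x] ⊤
  rw [inf_top_eq, card_top] at h2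
  have h3 : 32 < Nat.card C1[x] := by
    by_contra h3
    have := Nat.mul_le_mul (not_lt.1 h3) (h1.trans hV)
    omega
  have c0 := H.card_sup_le le_rfl x
  set D0 := H.V ⊔ zpowers x with hD0
  have v0 : H.V ≤ D0 := le_sup_left
  obtain ⟨a, ha, ha'⟩ := ex C1[x] D0 (by omega)
  have c1 := H.card_sup_le v0 a
  obtain ⟨b, hb, hb'⟩ := ex C1[x] (D0 ⊔ zpowers a) (by omega)
  have c2 := H.card_sup_le (v0.trans (le_sup_left : D0 ≤ D0 ⊔ zpowers a)) b
  obtain ⟨c, hc, hc'⟩ := ex C1[x] (D0 ⊔ zpowers a ⊔ zpowers b) (by omega)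
  have ox : orderOf (x * x) = 2 := orderOf_eq_two_of (H.four x) hx
  have key : ∀ y ∈ C1[x], y ∉ D0 → y * y ∉ zpowers (x * x) := by
    intro y hy hy' e
    rcases Cls.eq_one_or_eq_of_sq (n := 0) ox e (by rw [pow_two]; exact H.four y) with e | e
    · exact hy' (v0 e)
    · rw [pow_zero, pow_one] at e
      refine hy' ((mul_mem_cancel_left (mem_sup_right (mem_zpowers x))).1 (v0 ?_))
      rw [mem_V, mul_assoc, ← mul_assoc y, mem_cent1.1 hy, mul_assoc x y, e, ← mul_assoc, H.four]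
  have pr : ∀ y ∈ C1[x], y ∉ D0 → ∀ y' ∈ C1[x], y' ∉ D0 →
      y * y * (y' * y') ∈ zpowers (x * x) := fun y hy h1 y' hy' h2 =>
    Cls.mul_mem_of_card_le_two_mul (Q := H.V) (zpowers_le.2 (H.four x))
      (by rw [Nat.card_zpowers, ox]; exact hV) (H.four y) (H.four y') (key y hy h1) (key y' hy' h2)
  have ma : a ∈ D0 ⊔ zpowers a := mem_sup_right (mem_zpowers a)
  have ma' : a ∈ D0 ⊔ zpowers a ⊔ zpowers b := mem_sup_left ma
  have mb : b ∈ D0 ⊔ zpowers a ⊔ zpowers b := mem_sup_right (mem_zpowers b)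
  have nb : b ∉ D0 := fun e => hb' (mem_sup_left e)
  have nc : c ∉ D0 := fun e => hc' (mem_sup_left (mem_sup_left e))
  have nab : a * b ∉ D0 := fun e => hb' ((mul_mem_cancel_left ma).1 (mem_sup_left e))
  have nac : a * c ∉ D0 := fun e =>
    hc' ((mul_mem_cancel_left ma').1 (mem_sup_left (mem_sup_left e)))
  have nbc : b * c ∉ D0 := fun e =>
    hc' ((mul_mem_cancel_left mb).1 (mem_sup_left (mem_sup_left e)))
  have nabc : a * b * c ∉ D0 := fun e =>
    hc' ((mul_mem_cancel_left (mul_mem ma' mb)).1 (mem_sup_left (mem_sup_left e)))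
  refine key _ (mul_mem (mul_mem ha hb) hc) nabc ?_
  rw [H.sq_mul, H.cm_mul_left, H.cm_eq a, H.cm_eq b]
  have := mul_mem (mul_mem (mul_mem (pr _ (mul_mem ha hb) nab _ hc nc) (pr _ ha ha' _ hc nc))
    (pr _ (mul_mem ha hc) nac _ hb nb)) (pr _ hc nc _ (mul_mem hb hc) nbc)
  simpa only [mul_assoc] using this

end E4

/-- A 2-group whose three involutions are central and permuted by an automorphism. -/
structure Tri3 (σ : MulAut T) (z : T) : Prop where
  two : IsPGroup 2 T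
  three : ∃ k, σ ^ 3 ^ k = 1
  ne : z ≠ 1
  sq : z * z = 1
  cent : ∀ w : T, w * w = 1 → ∀ x, x * w = w * x
  ne' : σ z ≠ z
  rot : σ (σ z) = z * σ z
  inv : ∀ w : T, w * w = 1 → w = 1 ∨ w = z ∨ w = σ z ∨ w = z * σ z

namespace Tri3
variable {σ : MulAut T} {z : T}

theorem sq1 (H : Tri3 σ z) : σ z * σ z = 1 := by rw [← map_mul, H.sq, map_one]

theorem comm (H : Tri3 σ z) : σ z * z = z * σ z := H.cent z H.sq _

theorem sq2 (H : Tri3 σ z) : z * σ z * (z * σ z) = 1 := by rw [← H.rot, ← map_mul, H.sq1, map_one]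

theorem rot2 (H : Tri3 σ z) : σ (z * σ z) = z := by
  rw [map_mul, H.rot, ← mul_assoc, H.comm, mul_assoc, H.sq1, mul_one]

theorem ne1 (H : Tri3 σ z) : σ z ≠ 1 := by simpa using H.ne

theorem ne2 (H : Tri3 σ z) : z * σ z ≠ 1 := by rw [← H.rot]; simpa using H.ne

theorem next (H : Tri3 σ z) : Tri3 σ (σ z) := by
  have e : σ z * σ (σ z) = z := by rw [← map_mul, H.rot2]
  refine ⟨H.two, H.three, H.ne1, H.sq1, H.cent, by simpa using H.ne', ?_, fun w hw => ?_⟩
  · rw [e, H.rot, H.rot2]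
  · rw [e, H.rot]
    have := H.inv w hw
    tauto

theorem of_invol (H : Tri3 σ z) {w : T} (hw : w * w = 1) (h1 : w ≠ 1) : Tri3 σ w := by
  rcases H.inv w hw with rfl | rfl | rfl | rfl
  · exact absurd rfl h1
  · exact H
  · exact H.next
  · rw [← H.rot]; exact H.next.next

theorem rot' (H : Tri3 σ z) {w : T} (hw : w * w = 1) : σ (σ w) = w * σ w := by
  by_cases h1 : w = 1
  · simp [h1]
  · exact (H.of_invol hw h1).rot

theorem exists_invol (H : Tri3 σ z) {x : T} (hx : x ≠ 1) :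
    ∃ j : ℕ, x ^ 2 ^ j ≠ 1 ∧ x ^ 2 ^ j * x ^ 2 ^ j = 1 := by
  obtain ⟨k, hk⟩ := H.two x
  obtain ⟨j, h1, h2⟩ := PG.exists_pow_not_mem_pow_mem (K := ⊥) (p := 2) (x := x) (k := k)
    (by simpa using hk) (by simpa using hx)
  exact ⟨j, by simpa using h1, by simpa [pow_two] using h2⟩

theorem fpf (H : Tri3 σ z) {x : T} (h : σ x = x) : x = 1 := by
  by_contra hx
  obtain ⟨j, h1, h2⟩ := H.exists_invol hx
  exact (H.of_invol h2 h1).ne' (by rw [map_pow, h])

theorem mem_of_inv (H : Tri3 σ z) {R : Subgroup T} (hR : ∀ x ∈ R, σ x ∈ R) {x : T} (hx : x ∈ R)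
    (h1 : x ≠ 1) {w : T} (hw : w * w = 1) : w ∈ R := by
  obtain ⟨j, h1, h2⟩ := H.exists_invol h1
  have m := pow_mem hx (2 ^ j)
  rcases (H.of_invol h2 h1).inv w hw with rfl | rfl | rfl | rfl
  exacts [one_mem _, m, hR _ m, mul_mem m (hR _ m)]

theorem card_le_four (H : Tri3 σ z) {V : Subgroup T} (h : ∀ w ∈ V, w * w = 1) :
    Nat.card V ≤ 4 := by
  classical
  have : (V : Set T) ⊆ ({1, z, σ z, z * σ z} : Finset T) := fun w hw => by
    simpa using H.inv w (h w hw)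
  calc Nat.card V = (V : Set T).ncard := rfl
    _ ≤ _ := Set.ncard_le_ncard this
    _ ≤ 4 := by rw [Set.ncard_coe_finset]; exact Finset.card_le_four

theorem card_mod (H : Tri3 σ z) {R : Subgroup T} (hR : ∀ x ∈ R, σ x ∈ R) :
    ∃ k, Nat.card R = 4 ^ k := by
  have : Fact (Nat.Prime 2) := ⟨Nat.prime_two⟩
  obtain ⟨k, hk⟩ := H.three
  obtain ⟨c, hc⟩ := card_eq_add_three_pow hk 0 (C := ⊥) (R := R) bot_le fun x hx h1 =>
    ⟨hR x hx, by simpa using h1, fun e => h1 (H.fpf (by simpa using e))⟩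
  obtain ⟨n, hn⟩ := PG.exists_card_eq_pow (H.two.to_subgroup R)
  rcases Nat.even_or_odd' n with ⟨m, rfl | rfl⟩
  · exact ⟨m, by rw [hn, pow_mul]; rfl⟩
  · exfalso
    rw [hn, card_bot, pow_succ, pow_mul] at hc
    have : (2 ^ 2) ^ m % 3 = 1 := by rw [Nat.pow_mod]; simp
    omega

theorem cube (H : Tri3 σ z) : σ ^ 3 = 1 := by
  have : Fact (Nat.Prime 2) := ⟨Nat.prime_two⟩
  by_contra hne
  set τ := σ ^ 3 with hτ
  have hc : ∀ x, τ (σ x) = σ (τ x) := fun x => by
    rw [← MulAut.mul_apply, ← MulAut.mul_apply, hτ, ← pow_succ, ← pow_succ']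
  obtain ⟨R, ⟨hR, x0, hx0, hx1⟩, -, hmin⟩ := exists_minimal_le
    (S := {R : Subgroup T | (∀ x ∈ R, σ x ∈ R) ∧ ∃ x ∈ R, τ x ≠ x}) (H := ⊤)
    ⟨fun _ _ => mem_top _, by
      by_contra h
      push Not at h
      exact hne (MulEquiv.ext fun x => h x (mem_top x))⟩
  have hτR : ∀ x ∈ R, τ x ∈ R := fun x hx => hR _ (hR _ (hR _ hx))
  have small : ∀ K : Subgroup T, K ≤ R → K ≠ R → (∀ x ∈ K, σ x ∈ K) → ∀ x ∈ K, τ x = x := by
    intro K h1 h2 h3 x hx
    by_contra h
    exact h2 (hmin K ⟨h3, x, hx, h⟩ h1)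
  have clo : ∀ s : Set T, (∀ x ∈ s, σ x ∈ s) → ∀ x ∈ closure s, σ x ∈ closure s := by
    intro s hs x hx
    have : closure s ≤ (closure s).comap σ.toMonoidHom :=
      (closure_le _).2 fun y hy => subset_closure (hs y hy)
    exact this hx
  obtain ⟨k, hk⟩ := H.three
  have hk' : τ ^ 3 ^ k = 1 := by rw [hτ, ← pow_mul, mul_comm, pow_mul, hk, one_pow]
  -- `R = [R, τ]`
  have hgen : closure {y | ∃ x ∈ R, y = x⁻¹ * τ x} = R := by
    by_contra h
    have h1 := small _ ((closure_le _).2 (by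
      rintro _ ⟨x, hx, rfl⟩; exact mul_mem (inv_mem hx) (hτR x hx))) h (clo _ (by
      rintro _ ⟨x, hx, rfl⟩; exact ⟨σ x, hR x hx, by rw [map_mul, map_inv, hc]⟩))
      _ (subset_closure ⟨x0, hx0, rfl⟩)
    set c := x0⁻¹ * τ x0 with hcc
    have h2 : ∀ n : ℕ, (τ ^ n) x0 = x0 * c ^ n := fun n => by
      induction n with
      | zero => simp
      | succ n ih =>
        rw [pow_succ', MulAut.mul_apply, ih, map_mul, map_pow, h1, pow_succ', ← mul_assoc, hcc,
          mul_inv_cancel_left]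
    have h3 := h2 (3 ^ k)
    rw [hk', MulAut.one_apply, left_eq_mul] at h3
    obtain ⟨m, hm⟩ := H.two c
    have h4 : c = 1 := by
      rw [← orderOf_eq_one_iff]
      exact Nat.eq_one_of_dvd_coprimes (Nat.Coprime.pow m k (by norm_num : Nat.Coprime 2 3))
        (orderOf_dvd_of_pow_eq_one hm) (orderOf_dvd_of_pow_eq_one h3)
    exact hx1 (by rw [hcc, inv_mul_eq_one] at h4; exact h4.symm)
  have x01 : x0 ≠ 1 := fun e => hx1 (by rw [e, map_one])
  -- squares are fixed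
  have hsq : ∀ x ∈ R, τ (x * x) = x * x := by
    obtain ⟨M, -, hM, hn, hcard⟩ := PG.exists_maximal_of_lt (H.two.to_subgroup R)
      (bot_lt_iff_ne_bot.2 (ne_bot_of_mem hx0 x01))
    have h1 : closure {y | ∃ x ∈ R, y = x * x} ≤ M := (closure_le _).2 (by
      rintro _ ⟨x, hx, rfl⟩
      rw [← pow_two]; exact PG.pow_mem_of_card_eq_mul hM hn hcard hx)
    intro x hx
    refine small _ (h1.trans hM) (fun e => ?_) (clo _ (by
      rintro _ ⟨x, hx, rfl⟩; exact ⟨σ x, hR x hx, by rw [map_mul]⟩)) _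
      (subset_closure ⟨x, hx, rfl⟩)
    rw [e] at h1
    have := card_le_of_le h1
    have := card_pos' M
    omega
  have hcen : ∀ y ∈ R, ∀ x ∈ R, x * (y * y) = y * y * x := by
    intro y hy
    suffices R ≤ C1[y * y] from fun x hx => mem_cent1.1 (this hx)
    rw [← hgen, closure_le]
    rintro _ ⟨x, hx, rfl⟩
    have h1 := hsq (x * y * x⁻¹) (mul_mem (mul_mem hx hy) (inv_mem hx))
    rw [show x * y * x⁻¹ * (x * y * x⁻¹) = x * (y * y) * x⁻¹ by group, map_mul, map_mul, map_inv,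
      hsq y hy] at h1
    refine mem_cent1.2 ?_
    calc x⁻¹ * τ x * (y * y) = x⁻¹ * (τ x * (y * y) * (τ x)⁻¹) * τ x := by group
      _ = _ := by rw [h1]; group
  have hmul : ∀ x ∈ R, ∀ y ∈ R,
      x * y * (x * y) * (x * y * (x * y)) = x * x * (x * x) * (y * y * (y * y)) := by
    intro x hx y hy
    have c1 : ∀ w ∈ R, w * ⁅y, x⁆ = ⁅y, x⁆ * w := fun w hw => by
      rw [show ⁅y, x⁆ = y * y * (y⁻¹ * x * (y⁻¹ * x)) * (x⁻¹ * x⁻¹) by group]
      exact (Commute.mul_right (Commute.mul_right (hcen y hy w hw)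
        (hcen _ (mul_mem (inv_mem hy) hx) w hw)) (hcen _ (inv_mem hx) w hw)).eq
    have c2 : ⁅y, x⁆ * ⁅y, x⁆ = 1 := by
      calc ⁅y, x⁆ * ⁅y, x⁆ = ⁅y, x⁆ * (x * ⁅y, x⁆) * x⁻¹ := by rw [c1 x hx]; group
        _ = y * (x * x) * y⁻¹ * x⁻¹ * x⁻¹ := by group
        _ = 1 := by rw [hcen x hx y hy]; group
    have c3 : x * y * (x * y) = x * x * (y * y) * ⁅y, x⁆ := by
      calc x * y * (x * y) = x * ⁅y, x⁆ * (x * (y * y)) := by group
        _ = _ := by rw [mul_assoc, ← c1 _ (mul_mem hx (mul_mem hy hy))]; group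
    rw [c3, mul_assoc, ← mul_assoc ⁅y, x⁆, ← c1 _ (mul_mem (mul_mem hx hx) (mul_mem hy hy)),
      mul_assoc _ ⁅y, x⁆, c2, mul_one, mul_assoc, ← mul_assoc (y * y),
      hcen x hx _ (mul_mem hy hy)]
    simp only [mul_assoc]
  have h4 : ∀ x ∈ R, x * x * (x * x) = 1 := by
    intro x hx
    rw [← hgen] at hx
    induction hx using closure_induction with
    | mem y hy =>
      obtain ⟨x, hx, rfl⟩ := hy
      rw [hmul _ (inv_mem hx) _ (hτR x hx), ← map_mul, hsq x hx]; group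
    | one => simp
    | mul a b ha hb iha ihb =>
      rw [hgen] at ha hb
      rw [hmul a ha b hb, iha, ihb, one_mul]
    | inv a _ ih => rw [← mul_inv_rev, ← mul_inv_rev, ih, inv_one]
  have E : E4 R := ⟨fun w hw x => Subtype.ext (H.cent w (congrArg Subtype.val hw) x),
    fun x => Subtype.ext (h4 x x.2)⟩
  have b1 := E.card_le (by
    rw [← card_map_of_injective R.subtype_injective]
    refine H.card_le_four ?_
    rintro _ ⟨w, hw, rfl⟩
    exact congrArg Subtype.val hw)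
  let C : Subgroup T := R ⊓ τ.toMonoidHom.eqLocus (MonoidHom.id T)
  have mC : ∀ x, x ∈ C ↔ x ∈ R ∧ τ x = x := fun x => Iff.rfl
  obtain ⟨c, e⟩ := card_eq_add_three_pow hk 1 (C := C) (R := R) inf_le_left fun x hx h1 =>
    ⟨hR x hx, fun e => h1 ((mC x).2 ⟨hx, σ.injective (by rw [← hc]; exact ((mC _).1 e).2)⟩), fun e => h1 ⟨hx, e⟩⟩
  have hC : ∀ x ∈ C, σ x ∈ C := fun x hx => ⟨hR x hx.1, by
    change τ (σ x) = σ x
    rw [hc, ((mC x).1 hx).2]⟩
  obtain ⟨a, ha⟩ := H.card_mod hR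
  obtain ⟨b, hb⟩ := H.card_mod hC
  have l1 : Nat.card C < Nat.card R :=
    card_lt_of_lt (lt_of_le_of_ne inf_le_left fun e => hx1 ((mC x0).1 (e ▸ hx0)).2)
  have l2 : 1 < Nat.card C := ne_bot_iff_one_lt_card.1 (ne_bot_of_mem (x := z)
    ⟨H.mem_of_inv hR hx0 x01 H.sq, by
      change σ (σ (σ z)) = z
      rw [H.rot, H.rot2]⟩ H.ne)
  rw [ha] at b1 l1 e
  rw [hb] at l1 l2 e
  have a4 : a < 4 := by
    by_contra h
    have := Nat.pow_le_pow_right (show 0 < 4 by norm_num) (not_lt.1 h)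
    omega
  have ba := (Nat.pow_lt_pow_iff_right (show 1 < 4 by norm_num)).1 l1
  interval_cases a <;> interval_cases b <;> omega

end Tri3

end Cfsg.Agent.BS
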