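import Cfsg.Agent.BS.Higman

/-!
# 2-groups with three central involutions permuted by an automorphism: the classification
-/

set_option autoImplicit false
set_option linter.unusedSectionVars false

namespace Cfsg.Agent.BS

open Cfsg Cfsg.Agent.GT Subgroup Function
open scoped commutatorElement

universe u v

/-- The relations of a Sylow 2-subgroup of `U₃(4)`. -/
structure U34 {X : Type u} [Group X] (z w a b c d : X) : Prop where
  zz : z * z = 1
  ww : w * w = 1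
  wz : w * z = z * w
  az : a * z = z * a
  bz : b * z = z * b
  cz : c * z = z * c
  dz : d * z = z * d
  aw : a * w = w * a
  bw : b * w = w * b
  cw : c * w = w * c
  dw : d * w = w * d
  aa : a * a = z
  bb : b * b = w
  cc : c * c = w
  dd : d * d = z * w
  ba : ⁅b, a⁆ = 1
  ca : ⁅c, a⁆ = z
  da : ⁅d, a⁆ = z * w
  cb : ⁅c, b⁆ = z * w
  db : ⁅d, b⁆ = w
  dc : ⁅d, c⁆ = 1

theorem U34.prod {X : Type u} {Y : Type v} [Group X] [Group Y] {z w a b c d : X}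
    {z' w' a' b' c' d' : Y} (h : U34 z w a b c d) (h' : U34 z' w' a' b' c' d') :
    U34 (z, z') (w, w') (a, a') (b, b') (c, c') (d, d') :=
  ⟨Prod.ext h.zz h'.zz, Prod.ext h.ww h'.ww, Prod.ext h.wz h'.wz, Prod.ext h.az h'.az,
    Prod.ext h.bz h'.bz, Prod.ext h.cz h'.cz, Prod.ext h.dz h'.dz, Prod.ext h.aw h'.aw,
    Prod.ext h.bw h'.bw, Prod.ext h.cw h'.cw, Prod.ext h.dw h'.dw, Prod.ext h.aa h'.aa,
    Prod.ext h.bb h'.bb, Prod.ext h.cc h'.cc, Prod.ext h.dd h'.dd, Prod.ext h.ba h'.ba,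
    Prod.ext h.ca h'.ca, Prod.ext h.da h'.da, Prod.ext h.cb h'.cb, Prod.ext h.db h'.db,
    Prod.ext h.dc h'.dc⟩

theorem U34.map {X : Type u} {Y : Type v} [Group X] [Group Y] {z w a b c d : X}
    (h : U34 z w a b c d) (f : X →* Y) : U34 (f z) (f w) (f a) (f b) (f c) (f d) := by
  constructor <;>
    simp only [← map_mul, ← map_commutatorElement, h.zz, h.ww, h.wz, h.az, h.bz, h.cz, h.dz, h.aw,
      h.bw, h.cw, h.dw, h.aa, h.bb, h.cc, h.dd, h.ba, h.ca, h.da, h.cb, h.db, h.dc, map_one]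

theorem U34.exists_le {X : Type u} [Group X] [Finite X] {z w a b c d : X} (h : U34 z w a b c d) :
    ∃ D : Subgroup X, Nat.card D ≤ 64 ∧ z ∈ D ∧ w ∈ D ∧ a ∈ D ∧ b ∈ D ∧ c ∈ D ∧ d ∈ D := by
  have step : ∀ (D : Subgroup X) (y : X) (n : ℕ), Nat.card D ≤ n → cj[y] D ≤ D → y * y ∈ D →
      Nat.card ↥(D ⊔ zpowers y) ≤ 2 * n := fun D y n h1 h2 h3 =>
    (Nat.le_of_dvd (by have := card_pos' D; omega)
      (PG.card_sup_zpowers_dvd (n := 2) (mem_normalizer_of_conj_le h2)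
        (by rwa [pow_two]))).trans (by omega)
  have e1 : ∀ x y : X, x * y = y * x → x * y * x⁻¹ = y := fun x y e => by rw [e]; group
  have e2 : ∀ x y : X, x * y * x⁻¹ = ⁅x, y⁆ * y := fun x y => by group
  have m : ∀ (D : Subgroup X) (y : X), y ∈ D ⊔ zpowers y := fun D y =>
    mem_sup_right (mem_zpowers y)
  have s0 := step ⊥ z 1 (by simp) (by simp) (by simp [h.zz])
  have s1 := step _ w _ s0 (by
    simp only [conj_sup, conj_bot, conj_zpowers, e1 _ _ h.wz, le_refl]) (by simp [h.ww])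
  have z1 : z ∈ ⊥ ⊔ zpowers z ⊔ zpowers w := mem_sup_left (m _ _)
  have w1 : w ∈ ⊥ ⊔ zpowers z ⊔ zpowers w := m _ _
  have s2 := step _ a _ s1 (by
    simp only [conj_sup, conj_bot, conj_zpowers, e1 _ _ h.az, e1 _ _ h.aw, le_refl])
    (by rw [h.aa]; exact z1)
  have s3 := step _ b _ s2 (by
    simp only [conj_sup, conj_bot, conj_zpowers, e1 _ _ h.bz, e1 _ _ h.bw, e2 b a, h.ba, one_mul,
      le_refl]) (by rw [h.bb]; exact mem_sup_left w1)
  set D1 := ⊥ ⊔ zpowers z ⊔ zpowers w with hD1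
  have l2 : D1 ≤ D1 ⊔ zpowers a ⊔ zpowers b := le_sup_left.trans le_sup_left
  have a2 : a ∈ D1 ⊔ zpowers a ⊔ zpowers b := mem_sup_left (m _ _)
  have b2 : b ∈ D1 ⊔ zpowers a ⊔ zpowers b := m _ _
  have s4 := step _ c _ s3 (by
    rw [conj_sup, conj_sup, conj_zpowers, conj_zpowers, e2 c a, e2 c b, h.ca, h.cb]
    refine sup_le (sup_le ?_ (zpowers_le.2 (mul_mem (l2 z1) a2)))
      (zpowers_le.2 (mul_mem (l2 (mul_mem z1 w1)) b2))
    simp only [hD1, conj_sup, conj_bot, conj_zpowers, e1 _ _ h.cz, e1 _ _ h.cw]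
    exact l2) (by rw [h.cc]; exact l2 w1)
  have s5 := step _ d _ s4 (by
    rw [conj_sup, conj_sup, conj_sup, conj_zpowers, conj_zpowers, conj_zpowers, e2 d a, e2 d b,
      e2 d c, h.da, h.db, h.dc, one_mul]
    refine sup_le_sup_right (sup_le (sup_le ?_ (zpowers_le.2 (mul_mem (l2 (mul_mem z1 w1)) a2)))
      (zpowers_le.2 (mul_mem (l2 w1) b2))) _
    simp only [hD1, conj_sup, conj_bot, conj_zpowers, e1 _ _ h.dz, e1 _ _ h.dw]
    exact l2) (by rw [h.dd]; exact mem_sup_left (l2 (mul_mem z1 w1)))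
  exact ⟨_, s5, mem_sup_left (mem_sup_left (l2 z1)), mem_sup_left (mem_sup_left (l2 w1)),
    mem_sup_left (mem_sup_left a2), mem_sup_left (mem_sup_left b2), mem_sup_left (m _ _), m _ _⟩

theorem U34.exists_hom {X : Type u} {Y : Type v} [Group X] [Group Y] [Finite X] [Finite Y]
    {z w a b c d : X} {z' w' a' b' c' d' : Y} (h : U34 z w a b c d) (h' : U34 z' w' a' b' c' d')
    (hc : Nat.card X = 64) (hg : closure {a, b, c, d} = ⊤) :
    ∃ f : X →* Y, f z = z' ∧ f w = w' := by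
  obtain ⟨D, h1, hz, hw, ha, hb, hc', hd⟩ := (h.prod h').exists_le
  let p : D →* X := (MonoidHom.fst X Y).comp D.subtype
  have hs : Surjective p := by
    rw [← MonoidHom.range_eq_top, eq_top_iff, ← hg, closure_le]
    rintro _ (rfl | rfl | rfl | rfl)
    exacts [⟨⟨_, ha⟩, rfl⟩, ⟨⟨_, hb⟩, rfl⟩, ⟨⟨_, hc'⟩, rfl⟩, ⟨⟨_, hd⟩, rfl⟩]
  have hb : Bijective p := (Nat.bijective_iff_surjective_and_card p).2
    ⟨hs, le_antisymm (hc ▸ h1) (Nat.card_le_card_of_surjective p hs)⟩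
  let e := MulEquiv.ofBijective p hb
  refine ⟨((MonoidHom.snd X Y).comp D.subtype).comp e.symm.toMonoidHom, ?_, ?_⟩
  · have : e.symm z = ⟨_, hz⟩ := e.symm_apply_eq.2 rfl
    simp [this]
  · have : e.symm w = ⟨_, hw⟩ := e.symm_apply_eq.2 rfl
    simp [this]

variable {T : Type u} [Group T] [Finite T]

/-- The subgroup generated by `x` and its image. -/
def spn (σ : MulAut T) (x : T) : Subgroup T := zpowers x ⊔ zpowers (σ x)

namespace Tri3
variable {σ : MulAut T} {z : T}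

theorem cube' (H : Tri3 σ z) (x : T) : σ (σ (σ x)) = x := by
  change (σ ^ 3) x = x
  rw [H.cube]; rfl

theorem surj (H : Tri3 σ z) (x : T) : ∃ y, y⁻¹ * σ y = x := by
  refine Finite.surjective_of_injective (f := fun y => y⁻¹ * σ y) (fun y w e => ?_) x
  have : σ (w * y⁻¹) = w * y⁻¹ := by
    rw [map_mul, map_inv]
    calc σ w * (σ y)⁻¹ = w * (w⁻¹ * σ w) * (σ y)⁻¹ := by group
      _ = _ := by rw [← show y⁻¹ * σ y = w⁻¹ * σ w from e]; group
  exact (mul_inv_eq_one.1 (H.fpf this)).symm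

theorem norm (H : Tri3 σ z) (x : T) : σ (σ x) = (x * σ x)⁻¹ := by
  obtain ⟨y, rfl⟩ := H.surj x
  simp only [map_mul, map_inv, H.cube']; group

theorem comm1 (H : Tri3 σ z) (x : T) : x * σ x = σ x * x := by
  have h := H.norm x⁻¹
  rw [map_inv, map_inv, H.norm, inv_inv, mul_inv_rev, inv_inv, inv_inv] at h
  exact h

theorem comm_conj (H : Tri3 σ z) (x k : T) : Commute x (k * σ x * k⁻¹) := by
  obtain ⟨y, rfl⟩ := H.surj k
  have h := H.comm1 (y * x * y⁻¹)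
  simp only [map_mul, map_inv] at h
  calc x * (y⁻¹ * σ y * σ x * (y⁻¹ * σ y)⁻¹)
      = y⁻¹ * (y * x * y⁻¹ * (σ y * σ x * (σ y)⁻¹)) * y := by group
    _ = _ := by rw [h]; group

theorem engel (H : Tri3 σ z) (x k : T) : Commute x (k * x * k⁻¹) := by
  have h1 := H.comm_conj x k
  have h2 : Commute x (k * σ (σ x) * k⁻¹) := by
    have h := (H.comm_conj (σ (σ x)) k⁻¹).eq
    rw [H.cube'] at h
    calc x * (k * σ (σ x) * k⁻¹) = k * (k⁻¹ * x * k⁻¹⁻¹ * σ (σ x)) * k⁻¹ := by group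
      _ = _ := by rw [← h]; group
  have : k * x * k⁻¹ = (k * σ x * k⁻¹ * (k * σ (σ x) * k⁻¹))⁻¹ := by
    rw [H.norm]; group
  rw [this]
  exact (h1.mul_right h2).inv_right

theorem mem_spn (H : Tri3 σ z) {x w : T} : w ∈ spn σ x ↔ ∃ i j : ℕ, w = x ^ i * σ x ^ j := by
  rw [spn, PG.mem_sup_zpowers_nat (cent_le_norm _ (by
    rw [cent_zpowers, mem_cent1, H.comm1]))]
  constructor
  · rintro ⟨h, hh, j, rfl⟩
    obtain ⟨i, rfl⟩ := PG.exists_nat_pow_of_mem_zpowers hh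
    exact ⟨i, j, rfl⟩
  · rintro ⟨i, j, rfl⟩
    exact ⟨_, pow_mem (mem_zpowers x) i, j, rfl⟩

theorem _root_.Cfsg.Agent.BS.self_mem_spn (x : T) : x ∈ spn σ x := mem_sup_left (mem_zpowers x)

theorem _root_.Cfsg.Agent.BS.next_mem_spn (x : T) : σ x ∈ spn σ x :=
  mem_sup_right (mem_zpowers _)

theorem spn_inv (H : Tri3 σ z) (x : T) : ∀ w ∈ spn σ x, σ w ∈ spn σ x := fun w hw => by
  obtain ⟨i, j, rfl⟩ := H.mem_spn.1 hw
  rw [map_mul, map_pow, map_pow, H.norm]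
  exact mul_mem (pow_mem (next_mem_spn x) i)
    (pow_mem (inv_mem (mul_mem (self_mem_spn x) (next_mem_spn x))) j)

theorem spn_inv' (H : Tri3 σ z) {x w : T} (h : σ w ∈ spn σ x) : w ∈ spn σ x := by
  rw [← H.cube' w]; exact H.spn_inv x _ (H.spn_inv x _ h)

theorem spn_comm (H : Tri3 σ z) {x a b : T} (ha : a ∈ spn σ x) (hb : b ∈ spn σ x) :
    a * b = b * a := by
  obtain ⟨i, j, rfl⟩ := H.mem_spn.1 ha
  obtain ⟨k, l, rfl⟩ := H.mem_spn.1 hb
  have c : Commute x (σ x) := H.comm1 x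
  exact (Commute.mul_left (((Commute.refl x).pow_pow i k).mul_right (c.pow_pow i l))
    ((c.symm.pow_pow j k).mul_right ((Commute.refl _).pow_pow j l))).eq

theorem disj (H : Tri3 σ z) {x y : T} {n : ℕ} (hx : orderOf x = 2 ^ (n + 1))
    (hy : orderOf y = 2 ^ (n + 1)) (h : x ^ 2 ^ n ≠ y ^ 2 ^ n) : zpowers x ⊓ zpowers y = ⊥ := by
  rw [eq_bot_iff]
  intro w hw
  by_contra h1
  obtain ⟨j, h1, h2⟩ := H.exists_invol h1
  rw [← pow_two] at h2
  have a1 := (Cls.eq_one_or_eq_of_sq hx (pow_mem hw.1 _) h2).resolve_left h1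
  have a2 := (Cls.eq_one_or_eq_of_sq hy (pow_mem hw.2 _) h2).resolve_left h1
  exact h (a1.symm.trans a2)

theorem card_spn (H : Tri3 σ z) {x : T} {n : ℕ} (hx : orderOf x = 2 ^ (n + 1))
    (h : x ^ 2 ^ n = z) : Nat.card (spn σ x) = 4 ^ (n + 1) := by
  have hy : orderOf (σ x) = 2 ^ (n + 1) := by rw [σ.orderOf_eq, hx]
  rw [spn, card_sup_of_inf_eq_bot (Or.inl (le_norm_of_cent (by
    rw [cent_zpowers, zpowers_le, mem_cent1, H.comm1]))) (H.disj hx hy (by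
      rw [← map_pow, h]; exact H.ne'.symm)), Nat.card_zpowers, Nat.card_zpowers, hx, hy, ← mul_pow]
  rfl

theorem exists_max (H : Tri3 σ z) :
    ∃ (n : ℕ) (x : T), orderOf x = 2 ^ (n + 1) ∧ x ^ 2 ^ n = z ∧ ∀ w : T, w ^ 2 ^ (n + 1) = 1 := by
  have : Fact (Nat.Prime 2) := ⟨Nat.prime_two⟩
  obtain ⟨x, hx⟩ := Finite.exists_max (orderOf : T → ℕ)
  obtain ⟨m, hm⟩ := IsPGroup.iff_orderOf.1 H.two x
  have h2 := hx z
  rw [orderOf_eq_two_of H.sq H.ne, hm] at h2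
  obtain ⟨n, rfl⟩ : ∃ n, m = n + 1 := ⟨m - 1, by
    rcases m with _ | m
    · omega
    · rfl⟩
  have hw : ∀ w : T, w ^ 2 ^ (n + 1) = 1 := fun w => by
    obtain ⟨k, hk⟩ := IsPGroup.iff_orderOf.1 H.two w
    have := hx w
    rw [hm, hk, Nat.pow_le_pow_iff_right one_lt_two] at this
    exact orderOf_dvd_iff_pow_eq_one.1 (hk ▸ pow_dvd_pow 2 this)
  have ho := Cls.orderOf_pow_two_pow hm
  rcases H.inv _ (mul_self_of_orderOf ho) with e | e | e | e
  · exact absurd e (ne_one_of_orderOf_two ho)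
  · exact ⟨n, x, hm, e, hw⟩
  · exact ⟨n, σ (σ x), by rw [σ.orderOf_eq, σ.orderOf_eq, hm], by
      rw [← map_pow, ← map_pow, e, H.cube'], hw⟩
  · exact ⟨n, σ x, by rw [σ.orderOf_eq, hm], by rw [← map_pow, e, H.rot2], hw⟩

theorem exp_four (H : Tri3 σ z) {x : T} {n : ℕ} (h : x ^ 2 ^ n = z)
    (hw : ∀ w : T, w ^ 2 ^ (n + 1) = 1) (hA : spn σ x ≠ ⊤) : n = 1 := by
  have : Fact (Nat.Prime 2) := ⟨Nat.prime_two⟩
  have x1 : x ≠ 1 := fun e => H.ne (by rw [← h, e, one_pow])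
  have hV : ∀ w, w * w = 1 → w ∈ spn σ x := fun w hw =>
    H.mem_of_inv (H.spn_inv x) (self_mem_spn x) x1 hw
  obtain ⟨y0, ⟨-, hy0⟩, hy1⟩ := SetLike.exists_of_lt
    (PG.lt_inf_norm (H.two.to_subgroup ⊤) (lt_top_iff_ne_top.2 hA))
  obtain ⟨j, hy, hy2⟩ := PG.exists_pow_not_mem_pow_mem (p := 2) (k := n + 1)
    (by rw [hw]; exact one_mem _) hy1
  have hyn : y0 ^ 2 ^ j ∈ N[spn σ x] := pow_mem hy0 _
  set y := y0 ^ 2 ^ j
  rw [pow_two] at hy2
  have hc : ∀ a ∈ spn σ x, ∃ c, c * c = 1 ∧ y * a * y⁻¹ = a * c := by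
    intro a ha
    refine ⟨a⁻¹ * (y * a * y⁻¹), ?_, by group⟩
    have e1 := (H.engel y a⁻¹).eq
    calc a⁻¹ * (y * a * y⁻¹) * (a⁻¹ * (y * a * y⁻¹))
        = a⁻¹ * y * a * (y⁻¹ * (a⁻¹ * y * a⁻¹⁻¹ * y) * y⁻¹ * y⁻¹) := by group
      _ = a⁻¹ * y * a⁻¹⁻¹ * (a⁻¹ * y * a⁻¹⁻¹) * (y * y)⁻¹ := by rw [← e1]; group
      _ = a⁻¹ * (y * y * a) * (y * y)⁻¹ := by group
      _ = 1 := by rw [H.spn_comm hy2 ha]; group
  obtain ⟨i, j, e⟩ := H.mem_spn.1 hy2
  have c : Commute x (σ x) := H.comm1 x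
  have e1 : z ^ i * σ z ^ j = 1 := by
    rw [← h, map_pow, ← pow_mul, ← pow_mul, mul_comm _ i, mul_comm _ j, pow_mul, pow_mul,
      ← (c.pow_pow i j).mul_pow, ← e, ← pow_two, ← pow_mul, ← pow_succ', hw]
  have pw : ∀ w : T, w * w = 1 → ∀ k, w ^ k = w ^ (k % 2) := fun w hw k =>
    pow_eq_pow_mod k (by rwa [pow_two])
  rw [pw z H.sq, pw _ H.sq1] at e1
  obtain ⟨i, rfl⟩ : 2 ∣ i := by
    rcases Nat.mod_two_eq_zero_or_one i with a | a
    · omega
    · rcases Nat.mod_two_eq_zero_or_one j with b | b <;> rw [a, b] at e1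
      · exact absurd (by simpa using e1) H.ne
      · exact absurd (by simpa using e1) H.ne2
  obtain ⟨j, rfl⟩ : 2 ∣ j := by
    rcases Nat.mod_two_eq_zero_or_one j with b | b
    · omega
    · rw [b, Nat.mul_mod_right] at e1
      exact absurd (by simpa using e1) H.ne1
  have hu : x ^ i * σ x ^ j ∈ spn σ x := H.mem_spn.2 ⟨i, j, rfl⟩
  have e2 : y * y = (x ^ i * σ x ^ j) * (x ^ i * σ x ^ j) := by
    rw [e, ← pow_two, (c.pow_pow i j).mul_pow, ← pow_mul, ← pow_mul, mul_comm i, mul_comm j]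
  set u := x ^ i * σ x ^ j
  obtain ⟨d, d1, d2⟩ := hc u⁻¹ (inv_mem hu)
  have e3 : y * u⁻¹ * (y * u⁻¹) = d := by
    calc y * u⁻¹ * (y * u⁻¹) = y * u⁻¹ * y⁻¹ * (y * y) * u⁻¹ := by group
      _ = d := by rw [d2, e2, H.cent d d1]; group
  have hy' : y * u⁻¹ ∉ spn σ x := fun h' => hy ((mul_mem_cancel_right (inv_mem hu)).1 h')
  have d3 : d ≠ 1 := fun h' => hy' (hV _ (e3.trans h'))
  rcases n with _ | _ | n
  · exact absurd (hV y (by simpa [pow_two] using hw y)) hy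
  · rfl
  exfalso
  obtain ⟨s, hs, hs'⟩ : ∃ s ∈ spn σ x, s ^ 2 ^ (n + 2) = d := by
    rcases H.inv d d1 with rfl | rfl | rfl | rfl
    · exact absurd rfl d3
    · exact ⟨x, self_mem_spn x, h⟩
    · exact ⟨σ x, next_mem_spn x, by rw [← map_pow, h]⟩
    · exact ⟨x * σ x, mul_mem (self_mem_spn x) (next_mem_spn x), by
        rw [c.mul_pow, ← map_pow, h]⟩
  have ht : s ^ 2 ^ n ∈ spn σ x := pow_mem hs _
  have e4 : s ^ 2 ^ n * s ^ 2 ^ n * (s ^ 2 ^ n * s ^ 2 ^ n) = d := by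
    rw [← hs', ← pow_add, ← pow_add]; congr 1; ring
  set t := s ^ 2 ^ n
  obtain ⟨f, f1, f2⟩ := hc t ht
  have e5 : y * (t * t) = t * t * y := by
    calc y * (t * t) = y * t * y⁻¹ * (y * t * y⁻¹) * y := by group
      _ = t * (f * t) * f * y := by rw [f2]; group
      _ = _ := by rw [← H.cent f f1, mul_assoc _ _ f, mul_assoc _ f, f1]; group
  have c2 : Commute (y * u⁻¹) (t * t) :=
    Commute.mul_left e5 (H.spn_comm (inv_mem hu) (mul_mem ht ht))
  refine hy' ((mul_mem_cancel_right (mul_mem ht ht)).1 (hV _ ?_))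
  rw [← pow_two, c2.mul_pow, pow_two, pow_two, e3, e4, d1]

theorem cm_self (H : Tri3 σ z) (a : T) : ⁅a, σ a⁆ = 1 :=
  commutatorElement_eq_one_iff_mul_comm.2 (H.comm1 a)

theorem cm_swap (H : Tri3 σ z) (E : E4 T) (a b : T) : ⁅a, σ b⁆ = ⁅σ a, b⁆ := by
  have h := H.cm_self (a * b)
  rw [map_mul, E.cm_mul_left, E.cm_mul_right, E.cm_mul_right, H.cm_self, H.cm_self, one_mul,
    mul_one, E.cm_symm b] at h
  rw [eq_inv_of_mul_eq_one_left h, inv_eq_of_mul_eq_one_right (E.cm_sq _ _)]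

theorem cm_next (H : Tri3 σ z) (E : E4 T) (a b : T) : ⁅σ a, b⁆ = σ (σ ⁅a, b⁆) := by
  have h : ⁅a * σ a * σ (σ a), b⁆ = 1 := by rw [H.norm, mul_inv_cancel]; simp
  rw [E.cm_mul_left, E.cm_mul_left, ← H.cm_swap E (σ a), ← map_commutatorElement] at h
  rw [H.norm, mul_inv_rev]
  calc ⁅σ a, b⁆ = ⁅a, b⁆⁻¹ * (⁅a, b⁆ * ⁅σ a, b⁆ * σ ⁅a, b⁆) * (σ ⁅a, b⁆)⁻¹ := by group
    _ = _ := by rw [h, mul_one, ← mul_inv_rev, ← mul_inv_rev, H.comm1]

theorem no_q8 (H : Tri3 σ z) (E : E4 T) {a b : T} (ha : a * a = z) (hb : b * b = z) :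
    ⁅a, b⁆ ≠ z := by
  intro h
  have h1 : σ a * b * (σ a * b) = 1 := by
    rw [E.sq_mul, H.cm_next E, h, ← map_mul, ha, hb, H.rot, H.comm, H.sq2]
  have h2 : ⁅a, σ a * b⁆ = 1 := commutatorElement_eq_one_iff_mul_comm.2 (H.cent _ h1 a)
  rw [E.cm_mul_right, H.cm_self, one_mul, h] at h2
  exact H.ne h2

theorem exists_nf (H : Tri3 σ z) (E : E4 T) {x : T} (hx : x * x = z) (hA : spn σ x ≠ ⊤) :
    ∃ y ∉ spn σ x, ⁅x, y⁆ = z ∧ y * y = σ z := by
  have x1 : x ≠ 1 := fun e => H.ne (by rw [← hx, e, one_mul])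
  have hV : ∀ w, w * w = 1 → w ∈ spn σ x := fun w hw =>
    H.mem_of_inv (H.spn_inv x) (self_mem_spn x) x1 hw
  have hx1 : σ x * σ x = σ z := by rw [← map_mul, hx]
  have nz : ∀ y ∉ spn σ x, ⁅x, y⁆ ≠ 1 := by
    intro y hy h
    have h' : ⁅σ x, y⁆ = 1 := by rw [H.cm_next E, h, map_one, map_one]
    rcases H.inv _ (E.four y) with e | e | e | e
    · exact hy (hV y e)
    · refine hy ((mul_mem_cancel_left (self_mem_spn x)).1 (hV _ ?_))
      rw [E.sq_mul, hx, e, h, H.sq, one_mul]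
    · refine hy ((mul_mem_cancel_left (next_mem_spn x)).1 (hV _ ?_))
      rw [E.sq_mul, hx1, e, h', H.sq1, one_mul]
    · refine hy ((mul_mem_cancel_left (mul_mem (self_mem_spn x) (next_mem_spn x))).1 (hV _ ?_))
      rw [E.sq_mul, E.sq_mul, E.cm_mul_left, hx, hx1, e, h, h', H.cm_self, mul_one, H.sq2,
        one_mul, one_mul]
  obtain ⟨y, hy, hc⟩ : ∃ y ∉ spn σ x, ⁅x, y⁆ = z := by
    obtain ⟨y, -, hy⟩ := SetLike.exists_of_lt (lt_top_iff_ne_top.2 hA)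
    rcases H.inv _ (E.cm_sq x y) with e | e | e | e
    · exact absurd e (nz y hy)
    · exact ⟨y, hy, e⟩
    · exact ⟨σ y, fun h => hy (H.spn_inv' h), by rw [H.cm_swap E, H.cm_next E, e, H.cube']⟩
    · exact ⟨σ (σ y), fun h => hy (H.spn_inv' (H.spn_inv' h)), by
        rw [H.cm_swap E, H.cm_next E, H.cm_swap E, H.cm_next E, e, H.rot2, H.cube']⟩
  rcases H.inv _ (E.four y) with e | e | e | e
  · exact absurd (hV y e) hy
  · exact absurd hc (H.no_q8 E hx e)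
  · exact ⟨y, hy, hc, e⟩
  · refine ⟨σ x * y, fun h => hy ((mul_mem_cancel_left (next_mem_spn x)).1 h), ?_, ?_⟩
    · rw [E.cm_mul_right, H.cm_self, one_mul, hc]
    · rw [E.sq_mul, hx1, e, H.cm_next E, hc, H.rot, mul_assoc, H.sq2, mul_one]

/-- Higman's theorem on Suzuki 2-groups with three involutions. -/
theorem higman (H : Tri3 σ z) :
    (∃ (n : ℕ) (x : T), orderOf x = 2 ^ (n + 1) ∧ x ^ 2 ^ n = z ∧ spn σ x = ⊤) ∨
    (E4 T ∧ Nat.card T = 64 ∧ ∃ x y : T, U34 z (σ z) x (σ x) y (σ y) ∧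
      closure {x, σ x, y, σ y} = ⊤) := by
  obtain ⟨n, x, h1, h2, h3⟩ := H.exists_max
  by_cases hA : spn σ x = ⊤
  · exact Or.inl ⟨n, x, h1, h2, hA⟩
  obtain rfl := H.exp_four h2 h3 hA
  have E : E4 T := ⟨H.cent, fun w => by
    rw [← h3 w, ← pow_two, ← pow_two, ← pow_mul]; rfl⟩
  have hx : x * x = z := by rw [← h2]; simp [pow_two]
  have c1 := H.card_spn h1 h2
  have b1 := E.card_le (H.card_le_four fun w hw => hw)
  have big : ∀ K : Subgroup T, (∀ w ∈ K, σ w ∈ K) → spn σ x < K → Nat.card K = 64 := by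
    intro K hK hlt
    obtain ⟨k, hk⟩ := H.card_mod hK
    have l1 := card_lt_of_lt hlt
    have l2 := K.card_le_card_group.trans b1
    rw [hk] at l1 l2 ⊢
    rw [c1, Nat.pow_lt_pow_iff_right (by norm_num)] at l1
    have a4 : k < 4 := by
      by_contra h
      have := Nat.pow_le_pow_right (show 0 < 4 by norm_num) (not_lt.1 h)
      omega
    obtain rfl : k = 3 := by omega
    rfl
  have c2 : Nat.card T = 64 := by
    rw [← card_top]; exact big ⊤ (fun _ _ => mem_top _) (lt_top_iff_ne_top.2 hA)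
  obtain ⟨y, hy, hc, hy2⟩ := H.exists_nf E hx hA
  refine Or.inr ⟨E, c2, x, y, ⟨H.sq, H.sq1, H.comm, H.cent z H.sq _, H.cent z H.sq _,
    H.cent z H.sq _, H.cent z H.sq _, H.cent _ H.sq1 _, H.cent _ H.sq1 _, H.cent _ H.sq1 _,
    H.cent _ H.sq1 _, hx, by rw [← map_mul, hx], hy2, by rw [← map_mul, hy2, H.rot],
    by rw [E.cm_symm, H.cm_self], by rw [E.cm_symm, hc],
    by rw [E.cm_symm, H.cm_swap E, H.cm_next E, hc, H.rot],
    by rw [E.cm_symm, H.cm_next E, hc, H.rot],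
    by rw [E.cm_symm, ← map_commutatorElement, hc], by rw [E.cm_symm, H.cm_self]⟩, ?_⟩
  have m1 : x ∈ closure {x, σ x, y, σ y} := subset_closure (by simp)
  have m2 : σ x ∈ closure {x, σ x, y, σ y} := subset_closure (by simp)
  have m3 : y ∈ closure {x, σ x, y, σ y} := subset_closure (by simp)
  have m4 : σ y ∈ closure {x, σ x, y, σ y} := subset_closure (by simp)
  refine eq_top_of_card_eq _ ((big _ (fun w hw => ?_) (lt_of_le_of_ne
    (sup_le (zpowers_le.2 m1) (zpowers_le.2 m2)) fun e => hy (e ▸ m3))).trans c2.symm)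
  have : closure {x, σ x, y, σ y} ≤ (closure {x, σ x, y, σ y}).comap σ.toMonoidHom := by
    rw [closure_le]
    rintro _ (rfl | rfl | rfl | rfl)
    · exact m2
    · exact mem_comap.2 (by
        rw [MulEquiv.coe_toMonoidHom, H.norm]; exact inv_mem (mul_mem m1 m2))
    · exact m4
    · exact mem_comap.2 (by
        rw [MulEquiv.coe_toMonoidHom, H.norm]; exact inv_mem (mul_mem m3 m4))
  exact this hw

/-- No automorphism whose square is trivial modulo the involutions induces a transposition. -/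
theorem no_swap (H : Tri3 σ z) (E : E4 T) {x y : T} (U : U34 z (σ z) x (σ x) y (σ y))
    (s : MulAut T) (t : T) (hs : ∀ w, s (s w) = t * w * t⁻¹) (h0 : s z = z)
    (h1 : s (σ z) ≠ σ z) : False := by
  have h2 : s (z * σ z) ≠ z * σ z := fun e => h1 (by rwa [map_mul, h0, mul_right_inj] at e)
  have key : ∀ w, s (w * w) ≠ w * w → w * s w * (w * s w) = z := by
    intro w hw
    have e1 : s (w * s w) = w * s w * (⁅s w, w⁆ * ⁅t, w⁆) := by
      rw [map_mul, hs, ← mul_assoc (w * s w), E.cent _ (E.cm_sq _ _) (w * s w),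
        show ⁅s w, w⁆ * (w * s w) = s w * w by group, mul_assoc (s w) w,
        E.cent _ (E.cm_sq _ _) w]
      group
    have e2 : s (w * s w * (w * s w)) = w * s w * (w * s w) := by
      have v := E.mul_sq (E.cm_sq (s w) w) (E.cm_sq t w)
      rw [map_mul, e1, E.sq_mul (w * s w), v, mul_one,
        commutatorElement_eq_one_iff_mul_comm.2 (E.cent _ v _), mul_one]
    rcases H.inv _ (E.four (w * s w)) with e | e | e | e
    · exfalso
      apply hw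
      have c : ⁅w, w * s w⁆ = 1 := commutatorElement_eq_one_iff_mul_comm.2 (E.cent _ e _)
      rw [E.cm_mul_right, commutatorElement_self, one_mul] at c
      rw [E.sq_mul, c, mul_one, ← map_mul] at e
      rw [eq_inv_of_mul_eq_one_right e, inv_eq_of_mul_eq_one_right (E.four w)]
    · exact e
    · rw [e] at e2; exact absurd e2 h1
    · rw [e] at e2; exact absurd e2 h2
  have a1 := key (σ x) (by rwa [U.bb])
  have a2 := key y (by rwa [U.cc])
  have a3 := key (σ x * y) (by rwa [E.sq_mul, U.bb, U.cc, H.sq1, one_mul, E.cm_symm, U.cb])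
  refine H.no_q8 E a1 a2 ?_
  have e : σ x * y * s (σ x * y) = σ x * s (σ x) * (y * s y) * ⁅y, s (σ x)⁆ := by
    rw [map_mul, E.cent _ (E.cm_sq _ _), ← mul_assoc ⁅y, s (σ x)⁆, ← mul_assoc ⁅y, s (σ x)⁆,
      ← E.cent _ (E.cm_sq _ _) (σ x)]
    group
  rw [e, E.sq_mul, E.cm_sq, mul_one, commutatorElement_eq_one_iff_mul_comm.2
    (E.cent _ (E.cm_sq _ _) _), mul_one] at a3
  rw [E.cm_eq, a1, a2, a3, H.sq, one_mul]

end Tri3

end Cfsg.Agent.BS
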