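import Cfsg.Agent.BS.Big

/-!
# Brauer–Suzuki: quaternion Sylow 2-subgroups of order 8
-/

set_option autoImplicit false
set_option linter.unusedSectionVars false

namespace Cfsg.Agent.BS

open Cfsg Cfsg.Agent.Char Cfsg.Agent.GT Subgroup
open scoped ComplexConjugate

universe u v

section
variable {G : Type u} [Group G]

/-- The extension of the faithful character of the quaternion group. -/
noncomputable def Phi (g : G) : ℂ := if Odd (orderOf g) then 2 else if 4 ∣ orderOf g then 0 else -2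

noncomputable def eta (g : G) : ℂ := if 4 ∣ orderOf g then 4 else 0

theorem phi_cases (g : G) :
    (Odd (orderOf g) ∧ ¬ 4 ∣ orderOf g ∧ Phi g = 2 ∧ eta g = 0) ∨
    (¬ Odd (orderOf g) ∧ 4 ∣ orderOf g ∧ Phi g = 0 ∧ eta g = 4) ∨
    (¬ Odd (orderOf g) ∧ ¬ 4 ∣ orderOf g ∧ Phi g = -2 ∧ eta g = 0) := by
  by_cases h : Odd (orderOf g)
  · have : ¬ 4 ∣ orderOf g := by rw [Nat.odd_iff] at h; omega
    simp [Phi, eta, h, this]
  · by_cases h' : 4 ∣ orderOf g <;> simp [Phi, eta, h, h']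

theorem Phi_odd {g : G} (h : Odd (orderOf g)) : Phi g = 2 := by simp [Phi, h]

theorem eta_odd {g : G} (h : Odd (orderOf g)) : eta g = 0 := by
  rcases phi_cases g with h1 | h1 | h1 <;> tauto

theorem Phi_two {g : G} (h : orderOf g = 2) : Phi g = -2 := by simp [Phi, h]

theorem eta_two {g : G} (h : orderOf g = 2) : eta g = 0 := by simp [eta, h]

theorem Phi_four {g : G} (h : orderOf g = 4) : Phi g = 0 := by
  simp only [Phi, h]; rw [if_neg (by decide), if_pos dvd_rfl]

theorem Phi_congr {H : Type v} [Group H] {g : G} {h : H} (e : orderOf g = orderOf h) :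
    Phi g = Phi h := by simp only [Phi, e]

theorem eta_congr {H : Type v} [Group H] {g : G} {h : H} (e : orderOf g = orderOf h) :
    eta g = eta h := by simp only [eta, e]

theorem Phi_class : IsClassFunction G Phi := fun g h => Phi_congr (GT.orderOf_conj h g)

theorem eta_class : IsClassFunction G eta := fun g h => eta_congr (GT.orderOf_conj h g)

theorem conj_Phi (g : G) : conj (Phi g) = Phi g := by
  rcases phi_cases g with h | h | h <;> simp [h, map_ofNat]

theorem conj_eta (g : G) : conj (eta g) = eta g := by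
  rcases phi_cases g with h | h | h <;> simp [h, map_ofNat]

theorem conjFun_Phi : conjFun (Phi : G → ℂ) = Phi := funext conj_Phi

theorem eta_eq : (eta : G → ℂ) = (fun _ => 4) - Phi * Phi := by
  ext g
  rcases phi_cases g with h | h | h <;> simp [h] <;> norm_num

theorem Phi_int (g : G) : ∃ n : ℤ, Phi g = n := by
  rcases phi_cases g with h | h | h
  exacts [⟨2, by simp [h]⟩, ⟨0, by simp [h]⟩, ⟨-2, by simp [h]⟩]

variable [Finite G]

theorem constt_order (g : G) : (Odd (orderOf (constt {2} g)) ↔ Odd (orderOf g)) ∧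
    ∀ k, (2 ^ k ∣ orderOf (constt {2} g) ↔ 2 ^ k ∣ orderOf g) := by
  have : Fintype G := Fintype.ofFinite G
  have h := piNat_two_compl.1 (piNat_constt {2}ᶜ g)
  rw [← orderOf_constt_mul {2} g]
  refine ⟨by rw [Nat.odd_mul]; tauto, fun k => ⟨fun h1 => h1.mul_right _, fun h1 => ?_⟩⟩
  exact (Nat.Coprime.pow_left _ (Nat.coprime_two_left.2 h)).dvd_of_dvd_mul_right h1

theorem Phi_constt (g : G) : Phi (constt {2} g) = Phi g := by
  have := (constt_order g).2 2
  simp only [Phi, (constt_order g).1, show 4 = 2 ^ 2 by norm_num, this]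

theorem Phi_sect {x y : G} (h : IsConj (constt {2} x) (constt {2} y)) : Phi x = Phi y := by
  rw [← Phi_constt x, ← Phi_constt y, Phi_class.eq_of_isConj h]

theorem Phi_mul_odd {w y : G} (hc : Commute w y) (hw : Odd (orderOf w)) : Phi (w * y) = Phi y := by
  have : Fintype G := Fintype.ofFinite G
  rw [← Phi_constt, constt_mul hc, constt_of_piNat_compl (piNat_two_compl.2 hw), one_mul, Phi_constt]

theorem four_dvd_of_real {χ : G → ℂ} (hχ : IsCharacter G χ) {f : G} (hf : orderOf f = 4)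
    (h : χ f = χ f⁻¹) : ∃ n : ℕ, χ 1 - χ (f * f) = 4 * n := by
  obtain ⟨s, hs, e⟩ := hχ.exists_eigenvalues f
  have key : ∃ n : ℕ, (s.map (fun z => z ^ (0 : ℤ))).sum - (s.map (fun z => z ^ (2 : ℤ))).sum -
      Complex.I * ((s.map (fun z => z ^ (1 : ℤ))).sum - (s.map (fun z => z ^ (-1 : ℤ))).sum) =
      4 * n := by
    clear e
    induction s using Multiset.induction_on with
    | empty => exact ⟨0, by simp⟩
    | cons a s ih =>
      obtain ⟨n, hn⟩ := ih fun z hz => hs z (Multiset.mem_cons_of_mem hz)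
      have ha := hs a (Multiset.mem_cons_self a s)
      rw [hf] at ha
      have : (a - 1) * (a + 1) * (a - Complex.I) * (a + Complex.I) = 0 := by
        linear_combination ha - (a ^ 2 - 1) * Complex.I_sq
      simp only [Multiset.map_cons, Multiset.sum_cons]
      simp only [mul_eq_zero, sub_eq_zero, add_eq_zero_iff_eq_neg] at this
      rcases this with ((rfl | rfl) | rfl) | rfl
      · exact ⟨n, by rw [← hn]; simp⟩
      · exact ⟨n, by rw [← hn]; simp [zpow_ofNat]⟩
      · refine ⟨n + 1, ?_⟩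
        push_cast
        rw [mul_add, ← hn]
        simp only [zpow_ofNat, zpow_neg, Complex.inv_I, pow_one, pow_zero]
        linear_combination (-3) * Complex.I_sq
      · refine ⟨n, ?_⟩
        rw [← hn]
        simp only [zpow_ofNat, zpow_neg, inv_neg, Complex.inv_I, pow_one, pow_zero]
        linear_combination Complex.I_sq
  obtain ⟨n, hn⟩ := key
  rw [← e, ← e, ← e, ← e, zpow_zero, zpow_one, zpow_neg, zpow_one, ← h, sub_self, mul_zero,
    sub_zero, zpow_two] at hn
  exact ⟨n, hn⟩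

theorem q8_struct (h : RankOne G) {T : Subgroup G} (hT : Nat.card T = 8) (hc : ¬ IsCyclic T) :
    ∃ z ∈ T, orderOf z = 2 ∧ (∀ c ∈ T, c = 1 ∨ c = z ∨ (orderOf c = 4 ∧ c * c = z)) ∧
      ∃ a ∈ T, orderOf a = 4 := by
  have : Fact (Nat.Prime 2) := ⟨Nat.prime_two⟩
  obtain ⟨a, ha, n, ho, hcard, h1⟩ := h.quat (PG.isPGroup_of_card_eq_pow (n := 3) hT) hc
  have hn : n = 0 := by
    rw [hT, show 8 = 2 ^ 3 by norm_num] at hcard
    have := Nat.pow_right_injective le_rfl hcard
    omega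
  subst hn
  have ho4 : orderOf a = 4 := ho
  have hz : orderOf (a * a) = 2 := by
    rw [← pow_two, orderOf_pow' _ two_ne_zero, ho4]; rfl
  have hcomm : ∀ c ∈ T, Commute c (a * a) := by
    intro c hc
    by_cases hca : c ∈ zpowers a
    · exact commute_of_mem_zpowers hca (mul_mem (mem_zpowers a) (mem_zpowers a))
    · have e := (h1 c hc hca).1
      have : c * (a * a) * c⁻¹ = a * a := by
        calc c * (a * a) * c⁻¹ = (c * a * c⁻¹) * (c * a * c⁻¹) := by group
          _ = (a * a)⁻¹ := by rw [e]; group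
          _ = _ := inv_eq_of_mul_eq_one_right (mul_self_of_orderOf hz)
      exact mul_inv_eq_iff_eq_mul.1 this
  refine ⟨a * a, mul_mem ha ha, hz, fun c hc => ?_, a, ha, ho4⟩
  have h4 : orderOf c ∣ 2 ^ 2 := by
    by_cases hca : c ∈ zpowers a
    · exact ho ▸ orderOf_dvd_of_mem_zpowers hca
    · rw [(h1 c hc hca).2]; rfl
  obtain ⟨k, hk, e⟩ := (Nat.dvd_prime_pow Nat.prime_two).1 h4
  interval_cases k
  · exact Or.inl (orderOf_eq_one_iff.1 e)
  · exact Or.inr (Or.inl (h _ _ e hz (hcomm c hc)))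
  · refine Or.inr (Or.inr ⟨e, h _ _ ?_ hz ((hcomm c hc).mul_left (hcomm c hc))⟩)
    rw [← pow_two, orderOf_pow' _ two_ne_zero, e]; rfl

theorem q8_inv (h : RankOne G) {T : Subgroup G} (hT : Nat.card T = 8) (hc : ¬ IsCyclic T)
    {f b : G} (hf : f ∈ T) (hf4 : orderOf f = 4) (hb : b ∈ T) (hb' : b ∉ zpowers f) :
    b * f * b⁻¹ = f⁻¹ := by
  obtain ⟨z, -, hz, h1, -⟩ := q8_struct h hT hc
  have hf2 : f * f = z := by
    rcases h1 f hf with rfl | rfl | e
    · simp at hf4
    · omega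
    · exact e.2
  have key : ∀ c ∈ T, c ∉ zpowers f → c * c = z := by
    intro c hc hc'
    rcases h1 c hc with rfl | rfl | e
    · exact absurd (one_mem _) hc'
    · exact absurd (hf2 ▸ mul_mem (mem_zpowers f) (mem_zpowers f)) hc'
    · exact e.2
  have e := key (f * b) (mul_mem hf hb) fun h' => hb' ((mul_mem_cancel_left (mem_zpowers f)).1 h')
  rw [← key b hb hb'] at e
  calc b * f * b⁻¹ = f⁻¹ * (f * b * (f * b)) * (b * b)⁻¹ := by group
    _ = f⁻¹ := by rw [e]; group

/-- The local consequences of having quaternion Sylow 2-subgroups of order 8. -/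
structure QHyp (G : Type u) [Group G] : Prop where
  rank : RankOne G
  no8 : ∀ g : G, ¬ 8 ∣ orderOf g
  conj_inv : ∀ f : G, orderOf f = 4 → ∃ y, y * f * y⁻¹ = f⁻¹
  cent : ∀ f g : G, orderOf f = 4 → g * f = f * g → PiNat {2} (orderOf g) → g ∈ zpowers f

theorem qhyp_of (h : RankOne G)
    (hs : ∀ P : Subgroup G, IsPGroup 2 P → ∃ T : Subgroup G, P ≤ T ∧ Nat.card T = 8 ∧ ¬ IsCyclic T) :
    QHyp G := by
  have : Fact (Nat.Prime 2) := ⟨Nat.prime_two⟩
  have h4 : ∀ f : G, orderOf f = 4 → IsPGroup 2 (zpowers f) := fun f hf =>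
    PG.isPGroup_of_card_eq_pow (n := 2) (by rw [Nat.card_zpowers, hf]; rfl)
  refine ⟨h, fun g hg => ?_, fun f hf => ?_, fun f g hf hc hg => ?_⟩
  · obtain ⟨T, h1, h2, h3⟩ := hs _ ((isPGroup_zpowers_iff Nat.prime_two).2 (piNat_constt {2} g))
    have := Nat.le_of_dvd (orderOf_pos _) (((constt_order g).2 3).2 hg)
    rw [← eq_of_le_of_card_ge h1 (by rw [Nat.card_zpowers, h2]; exact this)] at h3
    exact h3 inferInstance
  · obtain ⟨T, h1, h2, h3⟩ := hs _ (h4 f hf)
    obtain ⟨b, hb, hb'⟩ := SetLike.not_le_iff_exists.1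
      (fun h' : T ≤ zpowers f => h3 (PG.isCyclic_of_le' inferInstance h'))
    exact ⟨b, q8_inv h h2 h3 (h1 (mem_zpowers f)) hf hb hb'⟩
  · obtain ⟨T, h1, h2, h3⟩ := hs (zpowers f ⊔ zpowers g) (IsPGroup.to_sup_of_normal_left'
      (h4 f hf) ((isPGroup_zpowers_iff Nat.prime_two).2 hg) (le_norm_of_cent (by
        rw [cent_zpowers, zpowers_le, mem_cent1]; exact hc)))
    by_contra hn
    have e := q8_inv h h2 h3 (h1 (mem_sup_left (mem_zpowers f))) hf
      (h1 (mem_sup_right (mem_zpowers g))) hn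
    rw [hc, mul_inv_cancel_right] at e
    have : f ^ 2 = 1 := by rw [pow_two]; nth_rewrite 1 [e]; simp
    have := orderOf_dvd_of_pow_eq_one this
    rw [hf] at this
    exact absurd this (by norm_num)

theorem QHyp.cent1 (h : QHyp G) {z : G} (hz : orderOf z = 2) : QHyp C1[z] := by
  refine ⟨h.rank.subgroup _, fun g => by rw [← orderOf_coe]; exact h.no8 _, fun f hf => ?_,
    fun f g hf hc hg => ?_⟩
  · rw [← orderOf_coe] at hf
    obtain ⟨y, hy⟩ := h.conj_inv f hf
    have h2 : orderOf ((f : G) * f) = 2 := by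
      rw [← pow_two, orderOf_pow' _ two_ne_zero, hf]; rfl
    have h3 : (f : G) * f = z := h.rank _ _ h2 hz (mem_cent1.1 (mul_mem f.2 f.2))
    have h4 : y * z * y⁻¹ = z := by
      calc y * z * y⁻¹ = y * (f * f) * y⁻¹ := by rw [h3]
        _ = (y * f * y⁻¹) * (y * f * y⁻¹) := by group
        _ = ((f : G) * f)⁻¹ := by rw [hy]; group
        _ = z⁻¹ := by rw [h3]
        _ = z := inv_eq_of_mul_eq_one_right (mul_self_of_orderOf hz)
    exact ⟨⟨y, mem_cent1.2 (mul_inv_eq_iff_eq_mul.1 h4)⟩, Subtype.ext hy⟩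
  · obtain ⟨k, hk⟩ := h.cent f g (by simpa using hf) (congrArg Subtype.val hc) (by simpa using hg)
    exact ⟨k, Subtype.ext (by simpa using hk)⟩

end

variable {G : Type u} [Group G] [Fintype G]

theorem Phi_virt (h : RankOne G)
    (hs : ∀ P : Subgroup G, IsPGroup 2 P → ∃ T : Subgroup G, P ≤ T ∧ Nat.card T = 8 ∧ ¬ IsCyclic T) :
    IsGeneralizedCharacter G Phi := by
  classical
  have hint : ∀ g : G, IsIntegral ℤ (Phi g) := fun g => by
    obtain ⟨n, hn⟩ := Phi_int g
    rw [hn]; exact Char.isIntegral_intCast n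
  refine ZC.virt_of_rational (zc_of_elementary Phi Phi_class hint fun l hl w hw P hP hPw => ?_)
    Phi_int fun g k hk => Phi_congr (odd_orderOf_pow hk)
  have hc : ∀ y : P, Commute w y := fun y => (mem_cent1.1 (hPw y.2)).symm
  by_cases hl2 : l = 2
  · subst hl2
    have e : (fun y : P => Phi (w * y)) = fun y : P => Phi (y : G) :=
      funext fun y => Phi_mul_odd (hc y) (piNat_two_compl.1 hw)
    rw [e]
    obtain ⟨T, h1, h2, h3⟩ := hs P hP
    suffices ZC (fun y : T => Phi (y : G)) from this.comp (inclusion h1)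
    obtain ⟨z, hzT, hz, h4, a, haT, ha⟩ := q8_struct h h2 h3
    obtain ⟨b, hb, hb'⟩ := SetLike.not_le_iff_exists.1
      (fun h' : T ≤ zpowers a => h3 (PG.isCyclic_of_le' inferInstance h'))
    have hab := q8_inv h h2 h3 haT ha hb hb'
    have ha2 : a * a = z := by
      rcases h4 a haT with rfl | rfl | e
      · simp at ha
      · omega
      · exact e.2
    refine zc_of_ci (Phi_class.restrict T) fun χ hχ => ?_
    obtain ⟨n, hn⟩ := four_dvd_of_real hχ.isCharacter (f := ⟨a, haT⟩) (by simpa using ha) (by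
      rw [← hχ.isClassFunction ⟨a, haT⟩ ⟨b, hb⟩]; congr 1; exact Subtype.ext hab)
    have e1 : (⟨a, haT⟩ * ⟨a, haT⟩ : T) = ⟨z, hzT⟩ := Subtype.ext ha2
    rw [e1] at hn
    rw [ci_def, Fintype.sum_eq_add (1 : T) ⟨z, hzT⟩
      (fun e => ne_one_of_orderOf_two hz (congrArg Subtype.val e).symm), h2]
    · simp only [OneMemClass.coe_one, Phi_two hz, Phi_odd (g := (1 : G)) (by simp)]
      have := congrArg conj hn
      simp only [map_sub, map_mul, map_ofNat, Complex.conj_natCast] at this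
      convert Char.isIntegral_natCast n using 1
      push_cast
      linear_combination this / 4
    · rintro ⟨c, hc⟩ ⟨h5, h6⟩
      rcases h4 c hc with rfl | rfl | e
      · exact absurd rfl h5
      · exact absurd rfl h6
      · simp [Phi_four e.1]
  · have e : (fun y : P => Phi (w * y)) = fun _ : P => Phi w := by
      funext y
      have : Fact l.Prime := ⟨hl⟩
      rw [(hc y).eq]
      exact Phi_mul_odd (hc y).symm
        (Odd.of_dvd_nat (PG.odd_card_of_isPGroup hl2 hP) (P.orderOf_dvd_natCard y.2))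
    rw [e]; exact zc_const (hint w)

theorem ci_congr {φ ψ φ' ψ' : G → ℂ} {c : ℂ} (h : ∀ g, φ g * conj (ψ g) = c * (φ' g * conj (ψ' g))) :
    ⟪φ, ψ⟫ = c * ⟪φ', ψ'⟫ := by
  simp only [ci_def, h, ← Finset.mul_sum]; ring

theorem ci_eta_eta : ⟪(eta : G → ℂ), eta⟫ = 4 * ⟪(eta : G → ℂ), fun _ => 1⟫ :=
  ci_congr fun g => by rcases phi_cases g with h | h | h <;> simp [h, map_ofNat]

theorem ci_eta_one : ⟪(eta : G → ℂ), fun _ => 1⟫ = 4 - ⟪(Phi : G → ℂ), Phi⟫ := by
  have e : ⟪(fun _ => 4 : G → ℂ), fun _ => 1⟫ = 4 * ⟪(fun _ => 1 : G → ℂ), fun _ => 1⟫ :=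
    ci_congr fun g => by simp
  rw [eta_eq, ci_sub_left, e, ci_one_one, mul_one, ci_mul_left, conjFun_Phi]
  congr 2; ext; simp

theorem ci_Phi_mul (φ ψ : G → ℂ) : ⟪Phi * φ, ψ⟫ = ⟪φ, Phi * ψ⟫ := by
  rw [mul_comm, ci_mul_left, conjFun_Phi]

theorem ci_Phi_mul_one (φ : G → ℂ) : ⟪Phi * φ, fun _ => 1⟫ = ⟪φ, Phi⟫ := by
  rw [ci_Phi_mul]; congr 1; ext; simp

theorem ci_Phi_mul_eta (φ : G → ℂ) : ⟪Phi * φ, eta⟫ = 0 := by
  rw [ci_congr (c := 0) (φ' := 0) (ψ' := 0), zero_mul]
  intro g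
  rcases phi_cases g with h | h | h <;> simp [h]

theorem ci_parity {z : G} {F φ : G → ℂ} {ε : ℂ} (hε : ε = 1 ∨ ε = -1)
    (hF : ∀ g, F (z * g) = ε * F g) (hφ : ∀ g, φ (z * g) = -ε * φ g) : ⟪F, φ⟫ = 0 := by
  have h1 : ⟪F ∘ Equiv.mulLeft z, φ ∘ Equiv.mulLeft z⟫ = ⟪F, φ⟫ := ci_comp_equiv _ _ _
  have h2 : ⟪F ∘ Equiv.mulLeft z, φ ∘ Equiv.mulLeft z⟫ = -1 * ⟪F, φ⟫ := ci_congr fun g => by
    simp only [Function.comp, Equiv.coe_mulLeft, hF, hφ]
    rcases hε with rfl | rfl <;> simp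
  linear_combination (h2 - h1) / 2

theorem sirr_parity {z : G} (hz : z * z = 1) (hc : ∀ g, g * z = z * g) {φ : G → ℂ}
    (hφ : IsSIrr G φ) : (∀ g, φ (z * g) = φ g) ∨ ∀ g, φ (z * g) = -φ g := by
  have aux : ∀ χ, IsIrrCharacter G χ → (∀ g, χ (z * g) = χ g) ∨ ∀ g, χ (z * g) = -χ g := by
    intro χ hχ
    have h0 := hχ.apply_one_ne_zero
    have h1 := hχ.mul_of_central hc z
    rw [hz] at h1
    rcases mul_self_eq_mul_self_iff.1 h1.symm with e | e
    · exact Or.inl fun g => mul_left_cancel₀ h0 (by rw [hχ.mul_of_central hc, e])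
    · exact Or.inr fun g => mul_left_cancel₀ h0 (by rw [hχ.mul_of_central hc, e]; ring)
  rcases hφ with h | h
  · exact aux φ h
  · simpa [neg_eq_iff_eq_neg] using aux _ h

theorem ci_eq_zero_of_add {p q φ : G → ℂ} (hp : IsSIrr G p) (hφ : IsSIrr G φ) (hpq : ⟪p, q⟫ = 0)
    (h : ⟪p + q, φ⟫ = 0) : ⟪p, φ⟫ = 0 := by
  rw [ci_add_left] at h
  by_contra hne
  rcases hp.eq_or_eq_neg_of_ci_ne_zero hφ hne with rfl | rfl
  · rw [ci_eq_zero_symm hpq, hp.ci_self] at h; norm_num at h
  · rw [ci_neg_left, neg_eq_zero] at hpq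
    rw [ci_eq_zero_symm hpq, ci_neg_left, hφ.ci_self] at h; norm_num at h

theorem exists_orth_three {α : G → ℂ} (hα : IsGeneralizedCharacter G α) (h3 : nsq α = 3) :
    ∃ p : Fin 3 → G → ℂ, (∀ i, IsSIrr G (p i)) ∧ (∀ i j, ⟪p i, p j⟫ = if i = j then 1 else 0) ∧
      α = ∑ i, p i := by
  obtain ⟨φ, hφ, -, h1, h2⟩ := hα.exists_sirr_one (fun e => by
    rw [nsq_eq_zero.2 e] at h3; norm_num at h3) (by rw [h3]; norm_num)
  obtain ⟨p, q, hp, hq, hpq, e⟩ := (hα.sub hφ.virt).exists_of_nsq_two (by rw [h2, h3]; norm_num)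
  rw [e] at h1
  have a1 := ci_eq_zero_of_add hp hφ hpq h1
  have a2 := ci_eq_zero_of_add hq hφ (ci_eq_zero_symm hpq) (by rwa [add_comm])
  refine ⟨![φ, p, q], fun i => by fin_cases i <;> simpa, fun i j => ?_, ?_⟩
  · fin_cases i <;> fin_cases j <;>
      simp [hφ.ci_self, hp.ci_self, hq.ci_self, a1, a2, hpq, ci_eq_zero_symm a1,
        ci_eq_zero_symm a2, ci_eq_zero_symm hpq]
  · simp only [Fin.sum_univ_three, Matrix.cons_val_zero, Matrix.cons_val_one, Matrix.cons_val]
    rw [add_assoc, ← e]; abel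

/-- Three virtual characters vanishing on the elements of odd order. -/
structure Tri (β : Fin 3 → G → ℂ) : Prop where
  virt : ∀ i, IsGeneralizedCharacter G (β i)
  odd : ∀ i g, Odd (orderOf g) → β i g = 0
  gram : ∀ i j, ⟪β i, β j⟫ = if i = j then 3 else 1
  one : ∀ i, ⟪β i, fun _ => 1⟫ = 1
  eta : ∀ i, ⟪β i, eta⟫ = 2
  sum : ∑ i, β i = (fun _ => 2) + BS.eta - Phi
  mul : ∀ i, Phi * β i = (-2 : ℂ) • β i + BS.eta

theorem exists_tri (h : QHyp G) {z : G} (hz : orderOf z = 2) (hc : ∀ g, g * z = z * g)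
    (hΦ : IsGeneralizedCharacter G Phi) (h3 : ⟪(Phi : G → ℂ), Phi⟫ = 3) :
    ∃ β : Fin 3 → G → ℂ, Tri β := by
  classical
  have hzz := mul_self_of_orderOf hz
  have h2part : ∀ g : G, 4 ∣ orderOf g → orderOf (constt {2} g) = 4 := by
    intro g hg
    obtain ⟨k, hk⟩ := (piNat_single_iff Nat.prime_two (orderOf_pos _).ne').1 (piNat_constt {2} g)
    have a1 := ((constt_order g).2 2).2 hg
    have a2 := fun e => h.no8 g (((constt_order g).2 3).1 e)
    rw [hk, Nat.pow_dvd_pow_iff_le_right one_lt_two] at a1 a2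
    have : k = 2 := by by_contra; exact a2 (by omega)
    rw [hk, this]; rfl
  have hsq : ∀ f : G, orderOf f = 4 → f * f = z := fun f hf => h.rank _ _
    (by rw [← pow_two, orderOf_pow' _ two_ne_zero, hf]; rfl) hz (hc _)
  have hzc : constt {2} z = z := constt_of_piNat (by rw [hz]; exact piNat_single_self Nat.prime_two)
  have hΦz : ∀ g : G, Phi (z * g) = -Phi g := by
    intro g
    rw [← Phi_constt, ← Phi_constt g, constt_mul (hc g).symm, hzc]
    rcases phi_cases g with h1 | h1 | h1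
    · rw [constt_of_piNat_compl (piNat_two_compl.2 h1.1), mul_one, Phi_two hz, Phi_odd (by simp)]
    · have a1 := h2part g h1.2.1
      have : z * constt {2} g = (constt {2} g)⁻¹ := by
        rw [eq_inv_iff_mul_eq_one, mul_assoc, hsq _ a1, hzz]
      rw [this, Phi_four a1, Phi_four (by rw [orderOf_inv, a1]), neg_zero]
    · obtain ⟨k, hk⟩ := (piNat_single_iff Nat.prime_two (orderOf_pos _).ne').1 (piNat_constt {2} g)
      have a1 := fun e => h1.2.1 (((constt_order g).2 2).1 e)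
      have a2 := ((constt_order g).2 1).2 (by
        rw [pow_one, ← even_iff_two_dvd, ← Nat.not_odd_iff_even]; exact h1.1)
      rw [hk, Nat.pow_dvd_pow_iff_le_right one_lt_two] at a1 a2
      have : k = 1 := by by_contra; exact a1 (by omega)
      rw [this, pow_one] at hk
      rw [h.rank _ _ hk hz (hc _), hzz, Phi_two hz, Phi_odd (by simp), neg_neg]
  have hηz : ∀ g : G, eta (z * g) = eta g := fun g => by simp [eta_eq, hΦz]
  have hηv : IsGeneralizedCharacter G eta := by
    rw [eta_eq]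
    refine IsGeneralizedCharacter.sub ?_ (hΦ.mul hΦ)
    convert virt_one.nsmul 4 using 1; ext; simp
  have η1 : ⟪(eta : G → ℂ), fun _ => 1⟫ = 1 := by rw [ci_eta_one, h3]; norm_num
  have ηη : ⟪(eta : G → ℂ), eta⟫ = 4 := by rw [ci_eta_eta, η1, mul_one]
  obtain ⟨p, hp, hpp, hsum⟩ := exists_orth_three hΦ (nsq_eq_of_ci (by rw [h3]; norm_num))
  have hΦp : ∀ i, ⟪Phi, p i⟫ = 1 := fun i => by
    rw [hsum, ci_sum_left]; simp [hpp]
  have hpΦ : ∀ i, ⟪p i, Phi⟫ = 1 := fun i => by rw [← hΦ.ci_comm (hp i).virt, hΦp]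
  have hodd : ∀ i g, p i (z * g) = -p i g := fun i => by
    refine (sirr_parity hzz hc (hp i)).resolve_left fun e => ?_
    have := ci_parity (z := z) (F := Phi) (φ := p i) (ε := -1) (Or.inr rfl)
      (fun g => by rw [hΦz]; ring)
      (fun g => by rw [e]; ring)
    rw [hΦp] at this; exact one_ne_zero this
  have hB : ∀ i, ∃ χ ∈ B0 G, ∃ ε : ℂ, p i = ε • χ := fun i => by
    obtain ⟨ε, χ, -, hχ, e⟩ := (hp i).exists_sign
    refine ⟨χ, ?_, ε, e⟩
    by_contra hn
    have := ci_mul_eq_zero_of_not_mem (F := Phi) (fun x y => Phi_sect) one_mem_B0 hχ hn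
    rw [show (Phi * fun _ => 1 : G → ℂ) = Phi by ext; simp] at this
    have h1 := hΦp i
    rw [e, ci_smul_right, this, mul_zero] at h1
    exact zero_ne_one h1
  have hvan : ∀ i g, 4 ∣ orderOf g → p i g = 0 := by
    intro i g hg
    have a1 := h2part g hg
    obtain ⟨χ, hχ, ε, e⟩ := hB i
    have a2 : p i g = p i (constt {2} g) := by
      rw [e]
      simp only [Pi.smul_apply]
      congr 1
      nth_rewrite 1 [← constt_mul_constt_compl {2} g]
      refine B0_apply_mul_core (piNat_constt _ _) hχ (mem_core_of_cyclic (fun P hP hP2 => ?_)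
        (mem_cent1.2 (commute_constt_constt _ _ g).eq) (piNat_two_compl.1 (piNat_constt _ _)))
      exact PG.isCyclic_of_le' inferInstance fun x hx => h.cent _ x a1 (mem_cent1.1 (hP hx))
        ((isPi_of_isPGroup Nat.prime_two hP2).orderOf hx)
    obtain ⟨y, hy⟩ := h.conj_inv _ a1
    have a3 : z * constt {2} g = (constt {2} g)⁻¹ := by
      rw [eq_inv_iff_mul_eq_one, mul_assoc, hsq _ a1, hzz]
    have a4 := hodd i (constt {2} g)
    rw [a3, ← hy, (hp i).isClassFunction] at a4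
    rw [a2]; linear_combination a4 / 2
  have γγ : ∀ i j, ⟪Phi * p i, Phi * p j⟫ = 4 * if i = j then 1 else 0 := fun i j => by
    rw [← hpp]
    refine ci_congr fun g => ?_
    rcases phi_cases g with h1 | h1 | h1
    · simp [h1, map_ofNat]; ring
    · simp [h1, hvan i g h1.2.1]
    · simp [h1, map_ofNat]; ring
  have γz : ∀ i g, (Phi * p i : G → ℂ) (z * g) = (Phi * p i : G → ℂ) g := fun i g => by
    simp [hΦz, hodd]
  have γp : ∀ i j, ⟪Phi * p i, p j⟫ = 0 := fun i j =>
    ci_parity (z := z) (ε := 1) (Or.inl rfl) (fun g => by rw [γz, one_mul]) (fun g => by rw [hodd]; ring)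
  have ηp : ∀ j, ⟪eta, p j⟫ = 0 := fun j =>
    ci_parity (z := z) (ε := 1) (Or.inl rfl) (fun g => by rw [hηz, one_mul]) (fun g => by rw [hodd]; ring)
  have p1 : ∀ j, ⟪p j, fun _ => 1⟫ = 0 := fun j =>
    ci_parity (z := z) (ε := -1) (Or.inr rfl) (fun g => by rw [hodd]; ring) (fun g => by simp)
  have γ1 : ∀ i, ⟪Phi * p i, fun _ => 1⟫ = 1 := fun i => by rw [ci_Phi_mul_one, hpΦ]
  have hhalf : ∀ i, IsGeneralizedCharacter G ((2⁻¹ : ℂ) • (Phi * p i + eta)) := by
    intro i
    have hγ := hΦ.mul (hp i).virt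
    have n4 : nsq (Phi * p i) = 4 := nsq_eq_of_ci (by rw [γγ]; simp)
    have hle : ∀ χ ∈ Irr G, zi (Phi * p i) χ ^ 2 ≤ zi eta χ ^ 2 := by
      intro χ hχ
      rw [mem_Irr] at hχ
      by_cases e : χ = fun _ => 1
      · rw [e, zi_eq_of_ci (n := 1) (by rw [γ1]; simp), zi_eq_of_ci (n := 1) (by rw [η1]; simp)]
      by_cases h0 : zi (Phi * p i) χ = 0
      · rw [h0]; positivity
      have h0' : ⟪Phi * p i, χ⟫ ≠ 0 := by
        rw [hγ.ci_eq_zi hχ.virt]; exact_mod_cast h0
      have c1 : ⟪fun _ => 1, χ⟫ = 0 := isIrrCharacter_one.ci_of_ne hχ (Ne.symm e)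
      have hχB : χ ∈ B0 G := by
        by_contra hn
        obtain ⟨ψ, hψ, ε, e'⟩ := hB i
        have := ci_mul_eq_zero_of_not_mem (F := Phi) (fun x y => Phi_sect) hψ hχ hn
        rw [e', mul_smul_comm, ci_smul_left, this, mul_zero] at h0'
        exact h0' rfl
      have hev : ∀ g, χ (z * g) = χ g := by
        refine (sirr_parity hzz hc hχ.isSIrr).resolve_right fun e' => h0' ?_
        exact ci_parity (z := z) (ε := 1) (Or.inl rfl) (fun g => by rw [γz, one_mul])
          (fun g => by rw [e']; ring)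
      have c2 : ⟪χ, Phi⟫ = 0 := ci_parity (z := z) (ε := 1) (Or.inl rfl) (fun g => by rw [hev, one_mul])
          (fun g => by rw [hΦz]; ring)
      have c3 : ⟪eta, χ⟫ ≠ 0 := by
        intro c3
        obtain ⟨-, n, hn, hω⟩ := mem_B0.1 hχB
        have e1 : (oddInd : G → ℂ) = (8⁻¹ : ℂ) • ((4 : ℂ) • (fun _ => 1) - eta + (2 : ℂ) • Phi) := by
          ext g
          rcases phi_cases g with h1 | h1 | h1 <;> simp [oddInd, h1] <;> norm_num
        have e2 : ⟪χ, oddInd⟫ = 0 := by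
          rw [e1, ci_smul_right, ci_add_right, ci_sub_right, ci_smul_right, ci_smul_right, c2,
            ci_eq_zero_symm c1, ci_eq_zero_symm c3]; simp
        have e3 : ∑ g, oddInd g * χ g = 0 := by
          rw [← mul_zero (Nat.card G : ℂ), ← e2, card_mul_ci]
          exact Finset.sum_congr rfl fun g _ => by simp only [oddInd]; split_ifs <;> simp
        rw [omega, e3, zero_div] at hω
        have : n = 0 := by exact_mod_cast hω.symm
        rw [this] at hn; exact absurd hn (by decide)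
      have c4 : zi eta χ ≠ 0 := by
        intro e'; rw [hηv.ci_eq_zi hχ.virt, e'] at c3; exact c3 (by simp)
      have c5 : ((zi (Phi * p i) χ : ℤ) : ℝ) ^ 2 ≤ 3 := by
        have a1 : nsq (Phi * p i - fun _ => 1) = 3 := by
          rw [nsq_sub, n4, γ1, isIrrCharacter_one.nsq]; norm_num
        rw [← a1]
        exact sq_le_nsq_of_ci hχ.ci_self (by rw [ci_sub_left, c1, sub_zero, hγ.ci_eq_zi hχ.virt])
      have c6 : zi (Phi * p i) χ ^ 2 ≤ 3 := by exact_mod_cast c5
      have c7 : 1 ≤ zi eta χ ^ 2 := by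
        have := sq_pos_of_ne_zero c4
        omega
      have c8 : zi (Phi * p i) χ ≤ 1 := by nlinarith
      have c9 : -1 ≤ zi (Phi * p i) χ := by nlinarith
      nlinarith
    have hs : ∑ χ ∈ Irr G, zi (Phi * p i) χ ^ 2 = ∑ χ ∈ Irr G, zi eta χ ^ 2 := by
      have a1 := hγ.nsq_eq_sum_zi
      have a2 := hηv.nsq_eq_sum_zi
      rw [n4] at a1
      rw [nsq_eq_of_ci (r := 4) (by rw [ηη]; norm_num), a1] at a2
      exact_mod_cast a2
    refine virt_of_ci_int ((hγ.add hηv).isClassFunction.smul _) fun χ hχ => ?_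
    have a1 := (Finset.sum_eq_sum_iff_of_le hle).1 hs χ (mem_Irr.2 hχ)
    rw [ci_smul_left, ci_add_left, hγ.ci_eq_zi hχ.virt, hηv.ci_eq_zi hχ.virt]
    rcases sq_eq_sq_iff_eq_or_eq_neg.1 a1 with e | e
    · exact ⟨zi eta χ, by rw [e]; ring⟩
    · exact ⟨0, by rw [e]; simp⟩
  refine ⟨fun i => (2⁻¹ : ℂ) • (Phi * p i + eta) - p i, fun i => (hhalf i).sub (hp i).virt,
    fun i g hg => by simp [Phi_odd hg, eta_odd hg], fun i j => ?_, fun i => ?_, fun i => ?_, ?_,
    fun i => ?_⟩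
  · simp only [ci_sub_left, ci_sub_right, ci_smul_left, ci_smul_right, ci_add_left, ci_add_right,
      γγ, γp, ηp, ηη, ci_Phi_mul_eta, ci_eq_zero_symm (ci_Phi_mul_eta _), ci_eq_zero_symm (γp _ _),
      ci_eq_zero_symm (ηp _), hpp, map_inv₀, map_ofNat]
    split_ifs <;> norm_num
  · simp only [ci_sub_left, ci_smul_left, ci_add_left, γ1, η1, p1]; norm_num
  · simp only [ci_sub_left, ci_smul_left, ci_add_left, ci_Phi_mul_eta, ηη, ci_eq_zero_symm (ηp _)]
    norm_num
  · ext g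
    have := congrFun hsum g
    simp only [Fin.sum_univ_three, Pi.add_apply] at this
    simp only [Fin.sum_univ_three, Pi.add_apply, Pi.sub_apply, Pi.smul_apply, Pi.mul_apply,
      smul_eq_mul]
    have e := congrFun (eta_eq (G := G)) g
    simp only [Pi.sub_apply, Pi.mul_apply] at e
    linear_combination (1 - Phi g / 2) * this + e / 2
  · ext g
    rcases phi_cases g with h1 | h1 | h1
    · simp [h1]
    · simp [h1, hvan i g h1.2.1]
    · simp [h1]

end Cfsg.Agent.BS
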