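import Cfsg.Agent.BS.Higman2
import Cfsg.Agent.BS.Q8
import Cfsg.Agent.PF.LinChar
import Cfsg.Agent.Cl.SimpleBasic

/-!
# Brauer: simple groups with homocyclic Sylow 2-subgroups of rank two
-/

set_option autoImplicit false
set_option linter.unusedSectionVars false

namespace Cfsg.Agent.BS

open Cfsg Cfsg.Agent.Char Cfsg.Agent.GT Cfsg.Agent.PF Subgroup
open scoped ComplexConjugate

universe u v

theorem cubic_int {a b : ℤ} (ha : Odd a) (hb : Odd b)
    (h : (1 + a + b) * (a * b + a + b) = 9 * a * b) : a = 1 := by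
  by_contra h1
  have e : (2 * (a + 1) * b + (a ^ 2 - 6 * a + 1)) ^ 2 = (a - 1) ^ 2 * (a ^ 2 - 14 * a + 1) := by
    linear_combination 4 * (a + 1) * h
  obtain ⟨d, hd⟩ : (a - 1) ∣ 2 * (a + 1) * b + (a ^ 2 - 6 * a + 1) :=
    (Int.pow_dvd_pow_iff two_ne_zero).1 ⟨_, e⟩
  rw [hd, mul_pow] at e
  have e1 := mul_left_cancel₀ (pow_ne_zero 2 (sub_ne_zero.2 h1)) e
  obtain ⟨k, rfl⟩ := ha
  obtain ⟨l, rfl⟩ := hb
  have e2 : (2 * k - 6 - d) * (2 * k - 6 + d) = 48 := by linear_combination -e1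
  have b1 := Int.le_of_dvd (by norm_num) (Dvd.intro _ e2)
  have b2 := Int.le_of_dvd (by norm_num) ((Int.neg_dvd).2 (Dvd.intro _ e2))
  obtain ⟨m, hm⟩ : ∃ m, 2 * k - 6 - d = m := ⟨_, rfl⟩
  have e3 : 2 * k - 6 + d = 4 * k - 12 - m := by omega
  rw [e3, hm] at e2
  rw [hm] at b1 b2
  have b3 : -48 ≤ m := by omega
  have : k = 7 ∨ k = -1 := by
    interval_cases m <;> omega
  rcases this with rfl | rfl
  · have : (2 * l + 7) * (4 * l + 7) = 0 := by linarith
    rcases mul_eq_zero.1 this with h | h <;> omega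
  · omega

variable {G : Type u} [Group G] [Fintype G]

theorem ZC.virt_of_galois {F : G → ℂ} (hF : ZC F)
    (h : ∀ (σ : ℂ →+* ℂ) (k : ℕ), k.Coprime (Nat.card G) →
      (∀ z : ℂ, z ^ Nat.card G = 1 → σ z = z ^ k) → ∀ g, σ (F g) = F (g ^ k)) :
    IsGeneralizedCharacter G F := by
  refine virt_of_ci_int hF.isClassFunction fun χ hχ => ?_
  refine exists_int_of_forall_ringEquiv (hF.ci_char hχ.isCharacter) fun σ => ?_
  obtain ⟨k, hk, hσ⟩ := exists_pow_of_ringHom (σ : ℂ →+* ℂ) (Nat.card_pos (α := G))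
  have e := ci_map_ringHom (σ : ℂ →+* ℂ) F hχ.virt
  have e2 : (fun g => (σ : ℂ →+* ℂ) (χ g)) = fun g => χ (g ^ k) := by
    ext g
    refine hχ.isCharacter.ringHom_apply _ fun z hz => hσ z ?_
    obtain ⟨c, hc⟩ := orderOf_dvd_natCard g
    rw [hc, pow_mul, hz, one_pow]
  rw [funext (h σ k hk hσ), e2] at e
  change (σ : ℂ →+* ℂ) _ = _
  rw [← e, ← ci_comp_equiv (powCoprime hk.symm) F χ]
  rfl

theorem sunflower {ι : Type*} (α : ι → G → ℂ) (hv : ∀ i, IsGeneralizedCharacter G (α i))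
    (h3 : ∀ i, ⟪α i, α i⟫ = 3) (h2 : ∀ i j, ⟪α i, α j⟫ = 2 ∨ ⟪α i, α j⟫ = 3)
    (big : ∀ i j k l, ∃ m, ⟪α i, α m⟫ = 2 ∧ ⟪α j, α m⟫ = 2 ∧ ⟪α k, α m⟫ = 2 ∧ ⟪α l, α m⟫ = 2)
    (i₀ : ι) : ∃ a b c : G → ℂ, IsSIrr G a ∧ IsSIrr G b ∧ IsSIrr G c ∧ ⟪a, b⟫ = 0 ∧ ⟪a, c⟫ = 0 ∧
      ⟪b, c⟫ = 0 ∧ α i₀ = a + b + c ∧ ∀ i, ⟪α i, a⟫ = 1 ∧ ⟪α i, b⟫ = 1 := by
  obtain ⟨p, hp, hpp, hs⟩ := exists_orth_three (hv i₀) (nsq_eq_of_ci (by rw [h3]; norm_num))
  let k : ι → Fin 3 → ℤ := fun i t => zi (α i) (p t)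
  have hk : ∀ i t, ⟪α i, p t⟫ = k i t := fun i t => (hv i).ci_eq_zi (hp t).virt
  have bes : ∀ (φ : G → ℂ) (c : Fin 3 → ℤ) (n : ℤ), (∀ t, ⟪φ, p t⟫ = c t) → ⟪φ, φ⟫ = n →
      c 0 ^ 2 + c 1 ^ 2 + c 2 ^ 2 ≤ n := by
    intro φ c n h1 h2
    have := bessel_orthonormal Finset.univ p (fun i _ j _ => hpp i j) φ
    rw [nsq_eq_of_ci (r := n) (by rw [h2]; simp)] at this
    simp only [Fin.sum_univ_three, h1, Complex.norm_intCast, sq_abs] at this
    exact_mod_cast this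
  have hsum : ∀ i, ⟪α i, α i₀⟫ = (k i 0 + k i 1 + k i 2 : ℤ) := fun i => by
    rw [hs, ci_sum_right]; simp [Fin.sum_univ_three, hk]
  have cases : ∀ i, (⟪α i, α i₀⟫ = 3 ∧ ∀ t, k i t = 1) ∨
      ∃ t, k i t = 0 ∧ ∀ t', t' ≠ t → k i t' = 1 := by
    intro i
    have b := bes (α i) (k i) 3 (hk i) (by rw [h3]; simp)
    have b0 : k i 0 ≤ 1 := by nlinarith
    have b1 : k i 1 ≤ 1 := by nlinarith
    have b2 : k i 2 ≤ 1 := by nlinarith
    rcases h2 i i₀ with e | e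
    · rw [hsum] at e
      have e' : k i 0 + k i 1 + k i 2 = 2 := by exact_mod_cast e
      right
      by_cases a0 : k i 0 = 0
      · exact ⟨0, a0, fun t ht => by fin_cases t <;> simp at ht ⊢ <;> omega⟩
      by_cases a1 : k i 1 = 0
      · exact ⟨1, a1, fun t ht => by fin_cases t <;> simp at ht ⊢ <;> omega⟩
      · exact ⟨2, by omega, fun t ht => by fin_cases t <;> simp at ht ⊢ <;> omega⟩
    · refine Or.inl ⟨e, fun t => ?_⟩
      rw [hsum] at e
      have e' : k i 0 + k i 1 + k i 2 = 3 := by exact_mod_cast e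
      fin_cases t <;> simp <;> omega
  have key : ∀ i j t, ⟪α i, α j⟫ = 2 → (k i t = 0 ∧ ∀ t', t' ≠ t → k i t' = 1) →
      (k j t = 0 ∧ ∀ t', t' ≠ t → k j t' = 1) → ∀ l t', t' ≠ t → k l t' = 1 := by
    intro i j t e hi hj l t' ht'
    rcases cases l with h | ⟨s, h0, h1⟩
    · exact h.2 t'
    refine h1 t' ?_
    rintro rfl
    obtain ⟨x, hx, hx'⟩ : ∃ x : ℤ, ⟪α i, α l⟫ = x ∧ 2 ≤ x := by
      rcases h2 i l with e | e
      exacts [⟨2, by simpa using e, le_rfl⟩, ⟨3, by simpa using e, by norm_num⟩]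
    obtain ⟨y, hy, hy'⟩ : ∃ x : ℤ, ⟪α j, α l⟫ = x ∧ 2 ≤ x := by
      rcases h2 j l with e | e
      exacts [⟨2, by simpa using e, le_rfl⟩, ⟨3, by simpa using e, by norm_num⟩]
    have b := bes (α i + α j - α l - α l) (fun t => k i t + k j t - 2 * k l t)
      (22 - 4 * x - 4 * y) (fun t => by
        simp only [ci_sub_left, ci_add_left, hk]; push_cast; ring) (by
        simp only [ci_sub_left, ci_add_left, ci_sub_right, ci_add_right, h3, e, hx, hy,
          ci_symm_of_int hx, ci_symm_of_int hy, ← (hv i).ci_comm (hv j)]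
        push_cast; ring)
    have a1 := hi.1
    have a2 := hj.1
    have a3 := hi.2 t' ht'
    have a4 := hj.2 t' ht'
    have a5 := h1 t ht'.symm
    fin_cases t <;> fin_cases t' <;> simp at ht' a1 a2 a3 a4 a5 h0 <;>
      simp only [a1, a2, a3, a4, a5, h0] at b <;> nlinarith
  have miss : ∀ i, ⟪α i₀, α i⟫ = 2 → ∃ t, k i t = 0 ∧ ∀ t', t' ≠ t → k i t' = 1 := fun i e =>
    (cases i).resolve_left fun h => by
      rw [(hv i₀).ci_comm (hv i), h.1] at e; norm_num at e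
  obtain ⟨j1, e1, -⟩ := big i₀ i₀ i₀ i₀
  obtain ⟨j2, e2, e12, -⟩ := big i₀ j1 i₀ i₀
  obtain ⟨j3, e3, e13, e23, -⟩ := big i₀ j1 j2 i₀
  obtain ⟨j4, e4, e14, e24, e34⟩ := big i₀ j1 j2 j3
  obtain ⟨t1, m1⟩ := miss _ e1
  obtain ⟨t2, m2⟩ := miss _ e2
  obtain ⟨t3, m3⟩ := miss _ e3
  obtain ⟨t4, m4⟩ := miss _ e4
  obtain ⟨t, ht⟩ : ∃ t, ∀ l t', t' ≠ t → k l t' = 1 := by
    have : t1 = t2 ∨ t1 = t3 ∨ t1 = t4 ∨ t2 = t3 ∨ t2 = t4 ∨ t3 = t4 := by omega
    rcases this with rfl | rfl | rfl | rfl | rfl | rfl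
    exacts [⟨_, key _ _ _ e12 m1 m2⟩, ⟨_, key _ _ _ e13 m1 m3⟩, ⟨_, key _ _ _ e14 m1 m4⟩,
      ⟨_, key _ _ _ e23 m2 m3⟩, ⟨_, key _ _ _ e24 m2 m4⟩, ⟨_, key _ _ _ e34 m3 m4⟩]
  obtain ⟨u, v, h1, h2, h3, h4⟩ : ∃ u v : Fin 3, u ≠ t ∧ v ≠ t ∧ u ≠ v ∧
      ∑ i, p i = p u + p v + p t := by
    fin_cases t
    · exact ⟨1, 2, by simp, by simp, by simp, by simp [Fin.sum_univ_three]; abel⟩
    · exact ⟨0, 2, by simp, by simp, by simp, by simp [Fin.sum_univ_three]; abel⟩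
    · exact ⟨0, 1, by simp, by simp, by simp, by simp [Fin.sum_univ_three]⟩
  exact ⟨p u, p v, p t, hp u, hp v, hp t, by simp [hpp, h3], by simp [hpp, h1], by simp [hpp, h2],
    hs.trans h4, fun i => ⟨by simp [hk, ht i u h1], by simp [hk, ht i v h2]⟩⟩

/-- An abelian Sylow 2-subgroup whose automizer is generated by a fixed point free element of
order three. -/
structure Homo (S : Subgroup G) (σ : MulAut S) (z : S) : Prop where
  syl : IsPiHallOf {2} S ⊤
  comm : IsMulCommutative S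
  tri : Tri3 σ z
  cnj : ∀ s : S, IsConj (s : G) (σ s)
  nrm : ∀ n ∈ N[S], (∀ s : S, n * s * n⁻¹ = s) ∨ (∀ s : S, n * s * n⁻¹ = σ s) ∨
    ∀ s : S, n * s * n⁻¹ = σ (σ s)

open Classical in
/-- The extension of a function on `S` which is constant on the 2-sections. -/
noncomputable def hat (S : Subgroup G) (θ : S → ℂ) (g : G) : ℂ :=
  if h : ∃ s : S, IsConj (constt {2} g) s then θ h.choose else 0

namespace Homo
variable {S : Subgroup G} {σ : MulAut S} {z : S}

theorem le_cent (H : Homo S σ z) : S ≤ C[S] := isMulCommutative_iff_le_cent.1 H.comm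

theorem fus (H : Homo S σ z) {s s' : S} (h : IsConj (s : G) s') :
    s' = s ∨ s' = σ s ∨ s' = σ (σ s) := by
  obtain ⟨g, hg⟩ := isConj_iff.1 h
  obtain ⟨n, hn, c, hc, rfl⟩ := syl_fusion_cent Nat.prime_two H.syl (mem_top g) (Y := {(s : G)})
    (by rintro _ rfl; exact H.le_cent s.2) (by rintro _ rfl; rw [hg]; exact H.le_cent s'.2)
  have e : n * s * n⁻¹ = s' := by
    rw [← hg, mul_assoc n c, mem_cent1.1 hc.2]; group
  rcases H.nrm n hn.2 with h | h | h <;> rw [h] at e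
  exacts [Or.inl (Subtype.ext e.symm), Or.inr (Or.inl (Subtype.ext e.symm)),
    Or.inr (Or.inr (Subtype.ext e.symm))]

theorem exists_conj (H : Homo S σ z) {u : G} (hu : PiNat {2} (orderOf u)) :
    ∃ s : S, IsConj u s := by
  obtain ⟨g, -, hg⟩ := syl_exists_conj_le Nat.prime_two H.syl
    ((isPGroup_zpowers_iff Nat.prime_two).2 hu) le_top
  exact ⟨⟨_, hg (conj_mem_conj.2 (mem_zpowers u))⟩, isConj_iff.2 ⟨g, rfl⟩⟩

theorem piNat (H : Homo S σ z) (s : S) : PiNat {2} (orderOf (s : G)) :=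
  (isPi_of_isPGroup Nat.prime_two (syl_isPGroup Nat.prime_two H.syl)).orderOf s.2

theorem core (H : Homo S σ z) {u : G} (hu : PiNat {2} (orderOf u)) (h1 : u ≠ 1) :
    (∀ v ∈ C1[u], PiNat {2}ᶜ (orderOf v) ↔ v ∈ piCoreOf {2}ᶜ C1[u]) ∧
      Nat.card (piCoreOf {2}ᶜ C1[u]) * Nat.card S = Nat.card C1[u] := by
  obtain ⟨s, hs⟩ := H.exists_conj hu
  obtain ⟨g, rfl⟩ := isConj_iff.1 hs.symm
  have s1 : s ≠ 1 := fun e => h1 (by simp [e])
  have a1 : IsPiHallOf {2} S C1[(s : G)] := H.syl.of_le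
    (fun x hx => cent_le_cent1 s.2 (H.le_cent hx)) le_top
  have a2 : C1[(s : G)] ⊓ N[S] ≤ C[S] := by
    rintro n ⟨h1, h2⟩
    have e : n * s * n⁻¹ = s := by rw [mem_cent1.1 h1]; group
    rcases H.nrm n h2 with h | h | h
    · exact mem_centralizer_iff.2 fun x hx => (mul_inv_eq_iff_eq_mul.1 (h ⟨x, hx⟩)).symm
    · exact absurd (H.tri.fpf (Subtype.ext ((h s).symm.trans e))) s1
    · have e' : σ (σ s) = s := Subtype.ext ((h s).symm.trans e)
      exact absurd (H.tri.fpf ((congrArg σ e').symm.trans (H.tri.cube' s))) s1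
  have b1 := (Burnside_hall Nat.prime_two a1 a2).conj g
  have b2 := ((Burnside_normal_complement Nat.prime_two a1 a2).conj g).card_mul
  rw [conj_piCoreOf, conj_cent1] at b1 b2
  rw [card_conj] at b2
  exact ⟨fun v hv => ⟨b1.mem_of_normal (self_le_norm_piCoreOf _ _) hv, b1.isPi.orderOf⟩, b2⟩

theorem B0_constt (H : Homo S σ z) {χ : G → ℂ} (hχ : χ ∈ B0 G) {g : G} (hg : constt {2} g ≠ 1) :
    χ g = χ (constt {2} g) := by
  nth_rewrite 1 [← constt_mul_constt_compl {2} g]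
  exact B0_apply_mul_core (piNat_constt _ _) hχ (((H.core (piNat_constt _ _) hg).1 _
    (mem_cent1.2 (commute_constt_constt _ _ g).eq)).1 (piNat_constt _ _))

theorem sum_eq (H : Homo S σ z) [Fintype S] {F : G → ℂ} (hF : IsClassFunction G F)
    (h : ∀ g, F g = F (constt {2} g)) (h1 : F 1 = 0) :
    3 * (Nat.card S : ℂ) * ∑ g, F g = Nat.card G * ∑ s : S, F s := by
  classical
  have e1 : ∑ g, F g = ∑ u, F u * Nat.card {g // constt {2} g = u} := by
    simp only [natCard_subtype_eq_sum_ite, Finset.mul_sum]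
    rw [Finset.sum_comm]
    exact Finset.sum_congr rfl fun g _ => by simp [h g]
  have e2 : Nat.card G * ∑ s : S, F s =
      ∑ u, F u * ∑ s : S, (Nat.card {x : G // x⁻¹ * u * x = s} : ℂ) := by
    simp only [natCard_subtype_eq_sum_ite, Finset.mul_sum]
    rw [Finset.sum_comm]
    refine Finset.sum_congr rfl fun s _ => ?_
    rw [Finset.sum_comm, Nat.card_eq_fintype_card, ← nsmul_eq_mul, ← Finset.card_univ,
      ← Finset.sum_const]
    refine Finset.sum_congr rfl fun x _ => ?_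
    rw [Finset.sum_eq_single (x * s * x⁻¹), if_pos (by group), mul_one, hF]
    · intro u _ hu
      rw [if_neg, mul_zero]
      intro e; exact hu (by rw [← e]; group)
    · simp
  rw [e1, e2, Finset.mul_sum]
  refine Finset.sum_congr rfl fun u _ => ?_
  by_cases u1 : u = 1
  · simp [u1, h1]
  rw [mul_left_comm]
  congr 1
  by_cases hu : PiNat {2} (orderOf u)
  swap
  · have : IsEmpty {g // constt {2} g = u} := ⟨fun g => hu (g.2 ▸ piNat_constt _ _)⟩
    rw [Nat.card_of_isEmpty (α := {g // constt {2} g = u}), Finset.sum_eq_zero, Nat.cast_zero,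
      mul_zero]
    intro s _
    rw [card_conj_eq_zero_of_not_isConj, Nat.cast_zero]
    intro e
    obtain ⟨c, hc⟩ := isConj_iff.1 e
    exact hu (by rw [← orderOf_conj c u, hc]; exact H.piNat s)
  obtain ⟨c1, c2⟩ := H.core hu u1
  have e3 : Nat.card {g // constt {2} g = u} = Nat.card (piCoreOf {2}ᶜ C1[u]) := by
    refine Nat.card_congr ⟨fun g => ⟨constt {2}ᶜ g, (c1 _ (mem_cent1.2 ?_)).1 (piNat_constt _ _)⟩,
      fun v => ⟨u * v, constt_eq_of_mul (mem_cent1.1 (piCoreOf_le _ _ v.2)).symm hu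
        ((c1 _ (piCoreOf_le _ _ v.2)).2 v.2) rfl⟩, fun g => Subtype.ext ?_, fun v => Subtype.ext ?_⟩
    · obtain ⟨g, rfl⟩ := g
      exact (commute_constt_constt _ _ _).eq
    · obtain ⟨g, rfl⟩ := g
      exact constt_mul_constt_compl _ _
    · change constt {2}ᶜ (u * v) = v
      exact constt_eq_of_mul (mem_cent1.1 (piCoreOf_le _ _ v.2))
        ((c1 _ (piCoreOf_le _ _ v.2)).2 v.2) (by rwa [compl_compl])
        (mem_cent1.1 (piCoreOf_le _ _ v.2)).symm
  obtain ⟨s, hs⟩ := H.exists_conj hu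
  have s1 : s ≠ 1 := fun e => u1 (by simpa [e] using hs)
  have n1 : σ s ≠ s := fun e => s1 (H.tri.fpf e)
  have n2 : σ (σ s) ≠ σ s := fun e => n1 (σ.injective e)
  have n3 : σ (σ s) ≠ s := fun e => n1 ((congrArg σ e).symm.trans (H.tri.cube' s))
  rw [e3, ← Finset.sum_subset (Finset.subset_univ {s, σ s, σ (σ s)}), Finset.sum_insert
    (by simp [n1.symm, n3.symm]), Finset.sum_pair n2.symm, card_conj_eq_of_isConj hs,
    card_conj_eq_of_isConj (hs.trans (H.cnj s)),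
    card_conj_eq_of_isConj ((hs.trans (H.cnj s)).trans (H.cnj _)), ← c2]
  · push_cast; ring
  · intro t _ ht
    rw [card_conj_eq_zero_of_not_isConj, Nat.cast_zero]
    intro e
    exact ht (by simpa using H.fus (hs.symm.trans e))

variable {θ : S → ℂ}

theorem hat_eq (H : Homo S σ z) (hθ : ∀ s, θ (σ s) = θ s) {g : G} {s : S}
    (h : IsConj (constt {2} g) s) : hat S θ g = θ s := by
  have e : ∃ s : S, IsConj (constt {2} g) s := ⟨s, h⟩
  rw [hat, dif_pos e]
  rcases H.fus (h.symm.trans e.choose_spec) with e | e | e <;> simp only [e, hθ]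

theorem hat_coe (H : Homo S σ z) (hθ : ∀ s, θ (σ s) = θ s) (s : S) : hat S θ s = θ s :=
  H.hat_eq hθ (by rw [constt_of_piNat (H.piNat s)])

theorem hat_sect (H : Homo S σ z) (hθ : ∀ s, θ (σ s) = θ s) {x y : G}
    (h : IsConj (constt {2} x) (constt {2} y)) : hat S θ x = hat S θ y := by
  obtain ⟨s, hs⟩ := H.exists_conj (piNat_constt {2} y)
  rw [H.hat_eq hθ hs, H.hat_eq hθ (h.trans hs)]

theorem hat_class (H : Homo S σ z) (hθ : ∀ s, θ (σ s) = θ s) : IsClassFunction G (hat S θ) :=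
  fun g h => H.hat_sect hθ (by rw [constt_conj]; exact (isConj_iff.2 ⟨h, rfl⟩).symm)

theorem hat_constt (H : Homo S σ z) (hθ : ∀ s, θ (σ s) = θ s) (g : G) :
    hat S θ g = hat S θ (constt {2} g) :=
  H.hat_sect hθ (by rw [constt_of_piNat (piNat_constt _ _)])

theorem hat_virt (H : Homo S σ z) (hθ : ∀ s, θ (σ s) = θ s) (hv : IsGeneralizedCharacter S θ) :
    IsGeneralizedCharacter G (hat S θ) := by
  have hint : ∀ g, IsIntegral ℤ (hat S θ g) := fun g => by
    obtain ⟨s, hs⟩ := H.exists_conj (piNat_constt {2} g)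
    rw [H.hat_eq hθ hs]; exact hv.isIntegral s
  refine ZC.virt_of_galois (zc_of_elementary _ (H.hat_class hθ) hint fun l hl w hw P hP hPw => ?_)
    fun τ k hk hτ g => ?_
  · have hc : ∀ y : P, Commute w y := fun y => (mem_cent1.1 (hPw y.2)).symm
    by_cases hl2 : l = 2
    · subst hl2
      obtain ⟨g, -, hg⟩ := syl_exists_conj_le Nat.prime_two H.syl hP le_top
      convert (zc_virt hv).comp ((inclusion hg).comp (conjEquiv g P).toMonoidHom) using 2 with y
      refine H.hat_eq hθ ?_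
      rw [constt_mul (hc y), constt_of_piNat_compl hw, one_mul,
        constt_of_piNat ((isPi_of_isPGroup Nat.prime_two hP).orderOf y.2)]
      exact isConj_iff.2 ⟨g, rfl⟩
    · have : Fact l.Prime := ⟨hl⟩
      convert zc_const (hint w) using 2 with y
      refine H.hat_sect hθ ?_
      rw [constt_mul (hc y), constt_of_piNat_compl (x := (y : G)) (piNat_two_compl.2
        (Odd.of_dvd_nat (PG.odd_card_of_isPGroup hl2 hP) (P.orderOf_dvd_natCard y.2))), mul_one]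
  · obtain ⟨s, hs⟩ := H.exists_conj (piNat_constt {2} g)
    rw [H.hat_eq hθ hs, H.hat_eq hθ (s := s ^ k) (by rw [constt_pow]; exact hs.pow k)]
    refine hv.ringHom_apply τ fun x hx => hτ x ?_
    obtain ⟨c, hc⟩ := orderOf_dvd_natCard (s : G)
    rw [hc, orderOf_coe, pow_mul, hx, one_pow]

theorem ci_hat (H : Homo S σ z) [Fintype S] (hθ : ∀ s, θ (σ s) = θ s) (h1 : θ 1 = 0) {φ : G → ℂ}
    (hφ : IsClassFunction G φ) (h : ∀ g, constt {2} g ≠ 1 → φ g = φ (constt {2} g)) :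
    3 * ⟪hat S θ, φ⟫ = ⟪θ, fun s => φ s⟫ := by
  have e1 : hat S θ 1 = 0 := (H.hat_coe hθ 1).trans h1
  have := H.sum_eq ((H.hat_class hθ).mul hφ.conjFun) (fun g => by
    by_cases e : constt {2} g = 1
    · simp [H.hat_constt hθ g, e, e1]
    · simp only [Pi.mul_apply, conjFun_apply, ← h g e, ← H.hat_constt hθ g]) (by simp [e1])
  simp only [Pi.mul_apply, conjFun_apply, H.hat_coe hθ] at this
  rw [← card_mul_ci, ← card_mul_ci θ fun s => φ s] at this
  have h0 := card_ne_zero_complex G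
  have h0' := card_ne_zero_complex S
  refine mul_left_cancel₀ (mul_ne_zero h0 h0') ?_
  linear_combination this

theorem tz_hat (H : Homo S σ z) (hθ : ∀ s, θ (σ s) = θ s) (h : ∀ s, s * s = 1 → θ s = 0) :
    tz (z : G) (hat S θ) = 0 := by
  rw [tz, Finset.sum_eq_zero, mul_zero]
  intro x _
  have hz : (z : G) * z = 1 := congrArg Subtype.val H.tri.sq
  have hx : x * z * x⁻¹ * (x * z * x⁻¹) = 1 := by
    calc x * z * x⁻¹ * (x * z * x⁻¹) = x * (z * z) * x⁻¹ := by group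
      _ = 1 := by rw [hz]; group
  obtain ⟨k, hk⟩ := PG.exists_nat_pow_of_mem_zpowers (constt_mem_zpowers {2} (x * z * x⁻¹ * z))
  have e := invol_mul_pow' hx hz k
  rw [← hk] at e
  have hu := piNat_constt {2} (x * z * x⁻¹ * z)
  set u := constt {2} (x * z * x⁻¹ * z) with hu'
  obtain ⟨g, -, hg⟩ := syl_exists_conj_le Nat.prime_two H.syl (Q := zpowers u ⊔ zpowers (z : G))
    (IsPGroup.to_sup_of_normal_left' ((isPGroup_zpowers_iff Nat.prime_two).2 hu)
      ((isPGroup_zpowers_iff Nat.prime_two).2 (H.piNat z)) (zpowers_le.2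
        (mem_normalizer_of_conj_le (by
          rw [conj_zpowers, zpowers_le, e, mul_inv_cancel_right]
          exact inv_mem (mem_zpowers u))))) le_top
  have m1 := hg (conj_mem_conj.2 (mem_sup_left (mem_zpowers u)))
  have m2 := hg (conj_mem_conj.2 (mem_sup_right (mem_zpowers (z : G))))
  have c := isMulCommutative_iff_forall.1 H.comm _ m1 _ m2
  have c' : (z : G) * u = u * z := by
    calc (z : G) * u = g⁻¹ * (g * z * g⁻¹ * (g * u * g⁻¹)) * g := by group
      _ = _ := by rw [← c]; group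
  rw [c', mul_left_inj] at e
  rw [H.hat_eq hθ (s := ⟨_, m1⟩) (isConj_iff.2 ⟨g, rfl⟩)]
  refine h _ (Subtype.ext ?_)
  calc g * u * g⁻¹ * (g * u * g⁻¹) = g * (u * u) * g⁻¹ := by group
    _ = 1 := by nth_rewrite 1 [e]; group

/-- Brauer's theorem. -/
theorem false (H : Homo S σ z) [IsSimpleGroup G] (hG : ¬ IsMulCommutative G)
    (h16 : 16 ≤ Nat.card S) : False := by
  classical
  have := H.comm
  have : Fintype S := Fintype.ofFinite S
  have : Fintype (S →* ℂˣ) := Fintype.ofFinite _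
  let ν : (S →* ℂˣ) → (S →* ℂˣ) := fun ω => ω.comp σ.toMonoidHom
  have ν3 : ∀ ω, ν (ν (ν ω)) = ω := fun ω => MonoidHom.ext fun s => congrArg ω (H.tri.cube' s)
  have νi : Function.Injective ν := fun a b e => by rw [← ν3 a, e, ν3]
  have ν1 : ν 1 = 1 := rfl
  have νf : ∀ ω, ν ω = ω → ω = 1 := fun ω e => MonoidHom.ext fun s => by
    obtain ⟨y, rfl⟩ := H.tri.surj s
    rw [map_mul, map_inv, show ω (σ y) = ω y from DFunLike.congr_fun e y]; simp
  let th : (S →* ℂˣ) → S → ℂ := fun ω => lc 1 + lc 1 + lc 1 - lc ω - lc (ν ω) - lc (ν (ν ω))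
  have tv : ∀ ω, IsGeneralizedCharacter S (th ω) := fun ω =>
    (((((lc_virt _).add (lc_virt _)).add (lc_virt _)).sub (lc_virt _)).sub (lc_virt _)).sub
      (lc_virt _)
  have ta : ∀ ω s, th ω s = 3 - ω s - ω (σ s) - ω (σ (σ s)) := fun ω s => by
    simp [th, lc, ν]; norm_num
  have ts : ∀ ω s, th ω (σ s) = th ω s := fun ω s => by rw [ta, ta, H.tri.cube']; ring
  have t1 : ∀ ω, th ω 1 = 0 := fun ω => by rw [ta]; simp; norm_num
  have tn : ∀ ω, th (ν ω) = th ω := fun ω => by simp only [th, ν3]; abel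
  have st : ∀ f : S → ℂ, (∀ s, f (σ s) = f s) → ∀ ω,
      ⟪f, th ω⟫ = 3 * ⟪f, lc 1⟫ - 3 * ⟪f, lc ω⟫ := by
    intro f hf ω
    have : ∀ ω, ⟪f, lc (ν ω)⟫ = ⟪f, lc ω⟫ := fun ω => by
      rw [← ci_comp_equiv σ.toEquiv f (lc ω)]
      congr 1
      exact (funext hf).symm
    simp only [th, ci_sub_right, ci_add_right, this]; ring
  have c1 : ∀ ω, ω ≠ 1 → ⟪th ω, lc 1⟫ = 3 := fun ω h => by
    have a1 : ν ω ≠ 1 := fun e => h (νi e)
    have a2 : ν (ν ω) ≠ 1 := fun e => a1 (νi e)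
    simp only [th, ci_sub_left, ci_add_left, ci_lc_self, ci_lc_of_ne h, ci_lc_of_ne a1,
      ci_lc_of_ne a2]
    norm_num
  have hcl : ∀ ω ω', 3 * ⟪hat S (th ω), hat S (th ω')⟫ = ⟪th ω, th ω'⟫ := fun ω ω' => by
    rw [H.ci_hat (ts ω) (t1 ω) (H.hat_class (ts ω')) fun g _ => H.hat_constt (ts ω') g]
    simp only [H.hat_coe (ts ω')]
  have hc1 : ∀ ω, ω ≠ 1 → ⟪hat S (th ω), fun _ => 1⟫ = 1 := fun ω h => by
    have := H.ci_hat (ts ω) (t1 ω) (isClassFunction_const 1) fun _ _ => rfl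
    have h' := c1 ω h
    rw [lc_one] at h'
    linear_combination (this + h') / 3
  have hv : ∀ ω, IsGeneralizedCharacter G (hat S (th ω)) := fun ω => H.hat_virt (ts ω) (tv ω)
  let α : {ω : S →* ℂˣ // ω ≠ 1} → G → ℂ := fun ω => hat S (th ω) - fun _ => 1
  have ga : ∀ ω ω', 3 * ⟪α ω, α ω'⟫ = 6 - 3 * ⟪th ω, lc ω'.1⟫ := fun ω ω' => by
    simp only [α, ci_sub_left, ci_sub_right, hc1 _ ω.2, ci_one_one,
      virt_one.ci_comm (hv _), hc1 _ ω'.2]
    linear_combination hcl ω ω' + st _ (ts ω) ω' + 3 * c1 _ ω.2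
  have g3 : ∀ ω, ⟪α ω, α ω⟫ = 3 := fun ω => by
    have a1 : ν ω ≠ ω := fun e => ω.2 (νf _ e)
    have a2 : ν (ν ω) ≠ ω := fun e => a1 ((congrArg ν e).symm.trans (ν3 _))
    have := ga ω ω
    simp only [th, ci_sub_left, ci_add_left, ci_lc_self, ci_lc_of_ne ω.2.symm, ci_lc_of_ne a1,
      ci_lc_of_ne a2] at this
    linear_combination this / 3
  have g2 : ∀ ω ω' : {ω : S →* ℂˣ // ω ≠ 1},
      ω.1 ≠ ω'.1 → ν ω ≠ ω'.1 → ν (ν ω) ≠ ω'.1 → ⟪α ω, α ω'⟫ = 2 :=
    fun ω ω' a0 a1 a2 => by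
      have := ga ω ω'
      simp only [th, ci_sub_left, ci_add_left, ci_lc_of_ne ω'.2.symm, ci_lc_of_ne a0,
        ci_lc_of_ne a1, ci_lc_of_ne a2] at this
      linear_combination this / 3
  obtain ⟨x, hx⟩ : ∃ x : S, x * x ≠ 1 := by
    by_contra h
    push Not at h
    have := H.tri.card_le_four (V := ⊤) fun w _ => h w
    rw [card_top] at this; omega
  obtain ⟨μ, -, hμ⟩ := exists_Ann_apply_ne (N := ⊥) (w := x * x) (by simpa using hx)
  have μ1 : μ * μ ≠ 1 := fun e => hμ (by rw [map_mul]; exact DFunLike.congr_fun e x)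
  have μ0 : ∀ s, s * s = 1 → th (μ * μ) s = 0 := fun s hs => by
    have : ∀ s, s * s = 1 → (μ * μ) s = 1 := fun s hs => by
      rw [MonoidHom.mul_apply, ← map_mul, hs, map_one]
    rw [ta, this s hs, this _ (by rw [← map_mul, hs, map_one]),
      this _ (by rw [← map_mul, ← map_mul, hs, map_one, map_one])]
    norm_num
  obtain ⟨a, b, c, ha, hb, hc, ab, ac, bc, e, h1⟩ := sunflower α (fun ω => (hv ω).sub virt_one) g3
    (fun ω ω' => by
      by_cases a0 : ω.1 = ω'.1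
      · exact Or.inr (by rw [Subtype.ext a0, g3])
      by_cases a1 : ν ω = ω'.1
      · exact Or.inr (by rw [← g3 ω]; simp only [α, ← a1, tn])
      by_cases a2 : ν (ν ω) = ω'.1
      · exact Or.inr (by rw [← g3 ω]; simp only [α, ← a2, tn])
      exact Or.inl (g2 _ _ a0 a1 a2))
    (fun i j k l => by
      let O : (S →* ℂˣ) → Finset (S →* ℂˣ) := fun ω => {ω, ν ω, ν (ν ω)}
      have o : ∀ ω, (O ω).card ≤ 3 := fun ω => Finset.card_le_three
      obtain ⟨m, -, hm⟩ := Finset.exists_mem_notMem_of_card_lt_card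
        (s := insert 1 (O i ∪ O j ∪ O k ∪ O l)) (t := Finset.univ) (by
          rw [Finset.card_univ, ← Nat.card_eq_fintype_card, card_linChar]
          have b1 := Finset.card_insert_le 1 (O i ∪ O j ∪ O k ∪ O l)
          have b2 := Finset.card_union_le (O i ∪ O j ∪ O k) (O l)
          have b3 := Finset.card_union_le (O i ∪ O j) (O k)
          have b4 := Finset.card_union_le (O i) (O j)
          have := o i; have := o j; have := o k; have := o l
          omega)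
      simp only [O, Finset.mem_insert, Finset.mem_union, Finset.mem_singleton, not_or] at hm
      refine ⟨⟨m, hm.1⟩, g2 _ _ ?_ ?_ ?_, g2 _ _ ?_ ?_ ?_, g2 _ _ ?_ ?_ ?_, g2 _ _ ?_ ?_ ?_⟩ <;>
        refine Ne.symm ?_ <;> tauto) ⟨_, μ1⟩
  have o1 : ⟪a + b + c, fun _ => 1⟫ = 0 := by
    rw [← e]; simp only [α, ci_sub_left, hc1 _ μ1, ci_one_one, sub_self]
  have one := (isIrrCharacter_one (G := G)).isSIrr
  have oa : ⟪a, fun _ => 1⟫ = 0 := ci_eq_zero_of_add (q := b + c) ha one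
    (by rw [ci_add_right, ab, ac, add_zero]) (by rw [← add_assoc, o1])
  have ob : ⟪b, fun _ => 1⟫ = 0 := ci_eq_zero_of_add (q := a + c) hb one
    (by rw [ci_add_right, ci_eq_zero_symm ab, bc, add_zero]) (by rw [add_left_comm, ← add_assoc, o1])
  have val : ∀ a : G → ℂ, IsSIrr G a → ⟪a, fun _ => 1⟫ = 0 → (∀ ω, ⟪α ω, a⟫ = 1) →
      a z = 1 ∧ ∃ n : ℤ, Odd n ∧ n ≠ 1 ∧ a 1 = n := by
    intro a ha oa h1
    have h2 : ∀ ω, ω ≠ 1 → ⟪hat S (th ω), a⟫ = 1 := fun ω h => by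
      rw [← h1 ⟨ω, h⟩]; simp only [α, ci_sub_left, ci_eq_zero_symm oa, sub_zero]
    obtain ⟨ε, χ, hε, hχ, e⟩ := ha.exists_sign
    have hB : χ ∈ B0 G := by
      by_contra hn
      have := ci_mul_eq_zero_of_not_mem (F := hat S (th (μ * μ)))
        (fun x y => H.hat_sect (ts _)) one_mem_B0 hχ hn
      rw [show (hat S (th (μ * μ)) * fun _ => 1 : G → ℂ) = hat S (th (μ * μ)) by ext; simp] at this
      have h3 := h2 _ μ1
      rw [e, ci_smul_right, this, mul_zero] at h3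
      exact zero_ne_one h3
    have h3 : ∀ ω, ω ≠ 1 → ⟪fun s : S => a s, lc ω⟫ = ⟪fun s : S => a s, lc 1⟫ - 1 := by
      intro ω h
      have a1 := H.ci_hat (ts ω) (t1 ω) ha.isClassFunction fun g hg => by
        simp only [e, Pi.smul_apply, H.B0_constt hB hg]
      rw [h2 ω h, (tv ω).ci_comm (β := fun s : S => a s) (ha.virt.comp S.subtype), st _ fun s =>
        (ha.isClassFunction.eq_of_isConj (H.cnj s)).symm] at a1
      linear_combination a1 / 3
    have h4 : ∀ ω : S →* ℂˣ, ⟪fun s : S => if s = 1 then (Nat.card S : ℂ) else 0, lc ω⟫ = 1 := by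
      intro ω
      have := card_ne_zero_complex S
      rw [ci_def]; simp [lc]
    have h5 := congrFun (eq_sum_lc ((fun s : S => a s) - lc 1 -
      (⟪fun s : S => a s, lc 1⟫ - 1) • fun s : S => if s = 1 then (Nat.card S : ℂ) else 0)) z
    rw [Finset.sum_eq_zero fun ω _ => by
      rw [ci_sub_left, ci_sub_left, ci_smul_left, h4]
      by_cases h : ω = 1
      · simp [h, ci_lc_self]
      · simp [h3 ω h, ci_lc_of_ne (Ne.symm h)]] at h5
    have h6 : a z = 1 := by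
      simp [H.tri.ne, lc] at h5
      linear_combination h5
    obtain ⟨d, -, hd⟩ := hχ.exists_degree
    have εε : (ε : ℂ) * ε = 1 := by rcases hε with rfl | rfl <;> simp
    have h7 : χ z = ε := by
      rw [e, Pi.smul_apply, smul_eq_mul] at h6
      linear_combination ε * h6 - χ z * εε
    have h8 := hχ.isCharacter.prime_dvd_degree_sub Nat.prime_two (g := (z : G)) (k := 1) (d := d)
      (by rw [pow_one, pow_two]; exact congrArg Subtype.val H.tri.sq) (by simpa using hd) h7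
    refine ⟨h6, ε * d, ?_, fun e' => ?_, by simp [e, hd]⟩
    · rcases hε with rfl | rfl <;> rw [Int.odd_iff] <;> omega
    · obtain ⟨rfl, rfl⟩ : ε = 1 ∧ d = 1 := by rcases hε with rfl | rfl <;> omega
      obtain ⟨f, rfl⟩ := hχ.isCharacter.exists_hom_of_degree_one (by simpa using hd)
      simp only [Cl.hom_eq_one_of_comm hG f] at e
      rw [e] at oa
      simp [ci_smul_left, ci_one_one] at oa
  obtain ⟨az, m, hm, m1, am⟩ := val a ha oa fun ω => (h1 ω).1
  obtain ⟨bz, n, hn, -, bn⟩ := val b hb ob fun ω => (h1 ω).2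
  have e' : hat S (th (μ * μ)) = (fun _ => 1) + a + b + c := by
    rw [add_assoc, add_assoc, ← add_assoc a, ← e]; simp [α]
  have f1 := congrFun e' (1 : S)
  have f2 := congrFun e' z
  have f3 := H.tz_hat (ts _) μ0
  rw [H.hat_coe (ts _), μ0 _ (by simp)] at f1
  rw [H.hat_coe (ts _), μ0 _ H.tri.sq] at f2
  rw [e', tz_add, tz_add, tz_add] at f3
  have u0 := tz_sirr (z := (z : G)) one
  have u1 := tz_sirr (z := (z : G)) ha
  have u2 := tz_sirr (z := (z : G)) hb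
  have u3 := tz_sirr (z := (z : G)) hc
  simp only [Pi.add_apply, OneMemClass.coe_one, am, bn, az, bz] at f1 f2 u1 u2
  have e1 : c 1 = -(1 + m + n) := by linear_combination -f1
  have e2 : c z = -3 := by linear_combination -f2
  rw [e1, e2] at u3
  refine m1 (cubic_int hm hn ?_)
  have : (1 + m + n : ℂ) * (m * n + m + n) = 9 * m * n := by
    linear_combination (1 + m + n : ℂ) * m * n * f3 - (1 + m + n : ℂ) * m * n * u0 -
      (1 + m + n : ℂ) * n * u1 - (1 + m + n : ℂ) * m * u2 + m * n * u3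
  exact_mod_cast this

end Homo

end Cfsg.Agent.BS
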