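import Cfsg.Agent.BS.Brauer

/-!
# Traces of idempotent matrices commuting with a permutation, over a local ring of residue
characteristic two
-/

set_option autoImplicit false
set_option linter.unusedSectionVars false

namespace Cfsg.Agent.BS

open Matrix IsLocalRing

universe u v

section Abstract

variable {R : Type u} [CommRing R] [IsDomain R] [IsLocalRing R] {Ω : Type v} [Fintype Ω]
  [DecidableEq Ω]

theorem isUnit_det_of_map_residue {U : Matrix Ω Ω R} (h : (residue R).mapMatrix U = 1) :
    IsUnit U.det := by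
  have h1 : residue R U.det = 1 := by rw [RingHom.map_det, h, det_one]
  by_contra hn
  have : residue R U.det = 0 := (residue_eq_zero_iff _).2 hn
  rw [this] at h1
  exact zero_ne_one h1

theorem trace_perm_idem (h2 : (2 : R) ≠ 0) (P D E : Matrix Ω Ω R) (hD : D * D = 1)
    (hD1 : (residue R).mapMatrix D = 1) (hDP : D * P = -(P * D)) (hE : E * E = E)
    (hPE : P * E = E * P) : trace (P * E) = 0 := by
  obtain ⟨E', hE'⟩ : ∃ E', E' = D * E * D := ⟨_, rfl⟩
  have hPD : P * D = -(D * P) := by rw [hDP, neg_neg]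
  have hE'2 : E' * E' = E' := by
    rw [hE']
    calc D * E * D * (D * E * D) = D * E * (D * D) * E * D := by noncomm_ring
      _ = D * (E * E) * D := by rw [hD]; noncomm_ring
      _ = D * E * D := by rw [hE]
  have hPE' : P * E' = E' * P := by
    rw [hE']
    calc P * (D * E * D) = (P * D) * E * D := by noncomm_ring
      _ = -(D * (P * E) * D) := by rw [hPD]; noncomm_ring
      _ = -(D * E * (P * D)) := by rw [hPE]; noncomm_ring
      _ = D * E * D * P := by rw [hPD]; noncomm_ring
  have htr : trace (P * E') = -trace (P * E) := by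
    rw [hE']
    calc trace (P * (D * E * D)) = trace (P * D * E * D) := by congr 1; noncomm_ring
      _ = trace (D * (P * D * E)) := trace_mul_comm _ _
      _ = trace (-(P * (D * D) * E)) := by
          congr 1
          calc D * (P * D * E) = (D * P) * D * E := by noncomm_ring
            _ = _ := by rw [hDP]; noncomm_ring
      _ = -trace (P * E) := by rw [hD, trace_neg, mul_one]
  obtain ⟨U, hU⟩ : ∃ U, U = E' * E + (1 - E') * (1 - E) := ⟨_, rfl⟩
  have hU1 : (residue R).mapMatrix U = 1 := by
    have e1 : (residue R).mapMatrix E' = (residue R).mapMatrix E := by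
      rw [hE', map_mul, map_mul, hD1, one_mul, mul_one]
    have e2 : (residue R).mapMatrix E * (residue R).mapMatrix E = (residue R).mapMatrix E := by
      rw [← map_mul, hE]
    rw [hU, map_add, map_mul, map_mul, map_sub, map_sub, map_one, e1]
    calc _ = 1 + 2 * ((residue R).mapMatrix E * (residue R).mapMatrix E) -
        2 * (residue R).mapMatrix E := by noncomm_ring
      _ = 1 := by rw [e2]; noncomm_ring
  have hUE : U * E = E' * U := by
    rw [hU]
    calc (E' * E + (1 - E') * (1 - E)) * E = E' * (E * E) + (1 - E') * (E - E * E) := by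
          noncomm_ring
      _ = E' * E := by rw [hE]; noncomm_ring
      _ = (E' * E') * E + (E' - E' * E') * (1 - E) := by rw [hE'2]; noncomm_ring
      _ = _ := by noncomm_ring
  have hUP : U * P = P * U := by
    rw [hU]
    calc (E' * E + (1 - E') * (1 - E)) * P
        = E' * (E * P) + (1 - E') * (P - E * P) := by noncomm_ring
      _ = (E' * P) * E + (P - E' * P) * (1 - E) := by rw [← hPE]; noncomm_ring
      _ = _ := by rw [← hPE']; noncomm_ring
  have hdet := isUnit_det_of_map_residue hU1
  obtain ⟨W, h1, h1'⟩ : ∃ W, W * U = 1 ∧ U * W = 1 :=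
    ⟨_, nonsing_inv_mul _ hdet, mul_nonsing_inv _ hdet⟩
  have h3 : trace (P * E) = trace (P * E') := by
    calc trace (P * E) = trace (W * (U * P * E)) := by
          congr 1
          calc P * E = (W * U) * P * E := by rw [h1, one_mul]
            _ = _ := by noncomm_ring
      _ = trace (W * (P * E' * U)) := by
          congr 2
          calc U * P * E = P * (U * E) := by rw [hUP]; noncomm_ring
            _ = _ := by rw [hUE]; noncomm_ring
      _ = trace (P * E' * U * W) := trace_mul_comm _ _
      _ = trace (P * E') := by rw [mul_assoc, h1', mul_one]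
  have h4 : 2 * trace (P * E) = 0 := by rw [htr] at h3; linear_combination h3
  exact (mul_eq_zero.1 h4).resolve_left h2

theorem trace_brauer (h2 : (2 : R) ≠ 0) (P D Q F : Matrix Ω Ω R) (hD : D * D = 1)
    (hD1 : (residue R).mapMatrix D = 1) (hQ : Q * Q = Q) (hPQ : P * Q = Q * P)
    (hDP : D * (P * Q) = -(P * Q * D)) (hF : F * F = F) (hPF : P * F = F * P)
    (h0 : (residue R).mapMatrix ((1 - Q) * F * (1 - Q)) = 0) : trace (P * F) = 0 := by
  obtain ⟨N, hN⟩ : ∃ N, N = F * (1 - Q) * F := ⟨_, rfl⟩
  have hNN : (residue R).mapMatrix (N * N) = 0 := by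
    have : N * N = F * ((1 - Q) * F * (1 - Q)) * F := by
      rw [hN]
      calc F * (1 - Q) * F * (F * (1 - Q) * F) = F * (1 - Q) * (F * F) * (1 - Q) * F := by
            noncomm_ring
        _ = _ := by rw [hF]; noncomm_ring
    rw [this, map_mul, map_mul, h0]; simp
  have hdet : IsUnit (1 - N).det := by
    have h1 : (residue R).mapMatrix ((1 - N) * (1 + N)) = 1 := by
      have : (1 - N) * (1 + N) = 1 - N * N := by noncomm_ring
      rw [this, map_sub, hNN, map_one, sub_zero]
    have := isUnit_det_of_map_residue h1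
    rw [det_mul] at this
    exact isUnit_of_mul_isUnit_left this
  obtain ⟨W, h1, h1'⟩ : ∃ W, W * (1 - N) = 1 ∧ (1 - N) * W = 1 :=
    ⟨_, nonsing_inv_mul _ hdet, mul_nonsing_inv _ hdet⟩
  have comm : ∀ X : Matrix Ω Ω R, X * N = N * X → X * W = W * X := by
    intro X hX
    calc X * W = W * (1 - N) * X * W := by rw [h1, one_mul]
      _ = W * (X - N * X) * W := by noncomm_ring
      _ = W * X * ((1 - N) * W) := by rw [← hX]; noncomm_ring
      _ = W * X := by rw [h1', mul_one]
  have hFN : F * N = N := by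
    rw [hN]; calc F * (F * (1 - Q) * F) = (F * F) * (1 - Q) * F := by noncomm_ring
      _ = _ := by rw [hF]
  have hNF : N * F = N := by
    rw [hN]; calc F * (1 - Q) * F * F = F * (1 - Q) * (F * F) := by noncomm_ring
      _ = _ := by rw [hF]
  have hFW : F * W = W * F := comm F (by rw [hFN, hNF])
  have hPW : P * W = W * P := by
    refine comm P ?_
    rw [hN]
    calc P * (F * (1 - Q) * F) = (P * F) * (1 - Q) * F := by noncomm_ring
      _ = F * (P - P * Q) * F := by rw [hPF]; noncomm_ring
      _ = F * (1 - Q) * (P * F) := by rw [hPQ]; noncomm_ring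
      _ = _ := by rw [hPF]; noncomm_ring
  have hFQF : F * Q * F * W = F := by
    have : F * Q * F = F * (1 - N) := by
      rw [mul_sub, hFN, hN]
      calc F * Q * F = F * F - F * (1 - Q) * F := by noncomm_ring
        _ = _ := by rw [hF, mul_one]
    rw [this, mul_assoc, h1', mul_one]
  obtain ⟨F', hF'⟩ : ∃ F', F' = Q * F * W * Q := ⟨_, rfl⟩
  have hF'2 : F' * F' = F' := by
    rw [hF']
    calc Q * F * W * Q * (Q * F * W * Q) = Q * (F * W) * (Q * Q) * F * W * Q := by noncomm_ring
      _ = Q * W * (F * Q * F * W) * Q := by rw [hFW, hQ]; noncomm_ring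
      _ = Q * (W * F) * Q := by rw [hFQF]; noncomm_ring
      _ = _ := by rw [← hFW]; noncomm_ring
  have hPF' : P * Q * F' = F' * (P * Q) := by
    rw [hF']
    calc P * Q * (Q * F * W * Q) = P * (Q * Q) * F * W * Q := by noncomm_ring
      _ = Q * (P * F) * W * Q := by rw [hQ, hPQ]; noncomm_ring
      _ = Q * F * (P * W) * Q := by rw [hPF]; noncomm_ring
      _ = Q * F * W * (P * (Q * Q)) := by rw [hPW, hQ]; noncomm_ring
      _ = Q * F * W * ((P * Q) * Q) := by noncomm_ring
      _ = Q * F * W * ((Q * P) * Q) := by rw [hPQ]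
      _ = _ := by noncomm_ring
  have key := trace_perm_idem h2 (P * Q) D F' hD hD1 hDP hF'2 hPF'
  rw [← key, hF']
  symm
  calc trace (P * Q * (Q * F * W * Q)) = trace ((P * (Q * Q) * F * W) * Q) := by
        congr 1; noncomm_ring
    _ = trace (Q * (P * Q * F * W)) := by rw [hQ]; exact trace_mul_comm _ _
    _ = trace ((P * Q * F * W) * F) := by
        congr 1
        calc Q * (P * Q * F * W) = (Q * P) * Q * F * W := by noncomm_ring
          _ = P * (Q * Q) * (F * F) * W := by rw [← hPQ, hF]; noncomm_ring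
          _ = P * Q * F * (F * W) := by rw [hQ]; noncomm_ring
          _ = _ := by rw [hFW]; noncomm_ring
    _ = trace (F * (P * Q * F * W)) := trace_mul_comm _ _
    _ = trace (P * F) := by
        congr 1
        calc F * (P * Q * F * W) = (F * P) * Q * F * W := by noncomm_ring
          _ = P * (F * Q * F * W) := by rw [← hPF]; noncomm_ring
          _ = _ := by rw [hFQF]

end Abstract

theorem exists_sign {Ω : Type v} [Finite Ω] (σ : Equiv.Perm Ω) (S : Ω → Prop)
    (hS : ∀ a, S (σ a) ↔ S a) (h : ∀ a, ¬ S a → ∀ j : ℕ, Odd j → (σ ^ j) a ≠ a) :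
    ∃ d : Ω → ℤ, (∀ a, d a = 1 ∨ d a = -1) ∧ ∀ a, ¬ S a → d (σ a) = -d a := by
  classical
  have hSn : ∀ (n : ℕ) a, S ((σ ^ n) a) ↔ S a := by
    intro n
    induction n with
    | zero => intro a; rfl
    | succ n ih => intro a; rw [pow_succ', Equiv.Perm.mul_apply, hS, ih]
  let s : Setoid Ω := ⟨σ.SameCycle, ⟨Equiv.Perm.SameCycle.refl σ, fun h => h.symm,
    fun h h' => h.trans h'⟩⟩
  let r : Ω → Ω := fun a => (Quotient.mk s a).out
  have hr : ∀ a, ∃ n : ℕ, (σ ^ n) (r a) = a := by
    intro a
    have : σ.SameCycle (r a) a := Quotient.mk_out (s := s) a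
    obtain ⟨n, -, hn⟩ := this.exists_pow_eq'
    exact ⟨n, hn⟩
  choose n hn using hr
  have hpar : ∀ (b : Ω) (i j : ℕ), ¬ S b → (σ ^ i) b = (σ ^ j) b → (-1 : ℤ) ^ i = (-1) ^ j := by
    have aux : ∀ (b : Ω) (i k : ℕ), ¬ S b → (σ ^ i) b = (σ ^ (i + k)) b →
        (-1 : ℤ) ^ i = (-1) ^ (i + k) := by
      intro b i k hb e
      rcases Nat.even_or_odd k with hk | hk
      · rw [pow_add, hk.neg_one_pow, mul_one]
      · exfalso
        refine h ((σ ^ i) b) (fun h' => hb ((hSn i b).1 h')) k hk ?_
        rw [← Equiv.Perm.mul_apply, ← pow_add, add_comm, ← e]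
    intro b i j hb e
    rcases le_total i j with hij | hij
    · obtain ⟨k, rfl⟩ := Nat.exists_eq_add_of_le hij
      exact aux b i k hb e
    · obtain ⟨k, rfl⟩ := Nat.exists_eq_add_of_le hij
      exact (aux b j k hb e.symm).symm
  refine ⟨fun a => (-1) ^ n a, fun a => neg_one_pow_eq_or ℤ _, fun a ha => ?_⟩
  have hra : r (σ a) = r a := by
    have : Quotient.mk s (σ a) = Quotient.mk s a :=
      Quotient.sound (show σ.SameCycle (σ a) a from
        Equiv.Perm.sameCycle_apply_left.2 (Equiv.Perm.SameCycle.refl σ a))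
    simp only [r, this]
  have hb : ¬ S (r a) := fun h' => ha (by rw [← hn a]; exact (hSn _ _).2 h')
  have e : (σ ^ n (σ a)) (r a) = (σ ^ (n a + 1)) (r a) := by
    rw [pow_succ', Equiv.Perm.mul_apply, hn a, ← hra, hn]
  have := hpar _ _ _ hb e
  simp only [this, pow_succ]
  ring

section Concrete

variable {R : Type u} [CommRing R] [IsDomain R] [IsLocalRing R] {G : Type v} [Group G]
  [Fintype G]

theorem sum_conj_eq_zero (h2 : (2 : R) ≠ 0) (h2' : residue R 2 = 0) (x y : G) (S : G → Prop)
    (hS : ∀ a, S (x * a * y⁻¹) ↔ S a)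
    (h : ∀ a, ¬ S a → ∀ j : ℕ, Odd j → x ^ j * a * (y ^ j)⁻¹ ≠ a) (f : G → R)
    (hf : ∀ g, ∑ c, f c * f (c⁻¹ * g) = f g) (hx : ∀ g, f (x * g * x⁻¹) = f g)
    (h0 : ∀ a b, S a → S b → residue R (f (a * b⁻¹)) = 0) :
    ∑ a, f (x⁻¹ * a * y * a⁻¹) = 0 := by
  classical
  let σ : Equiv.Perm G := (Equiv.mulLeft x).trans (Equiv.mulRight y⁻¹)
  have hσ : ∀ a, σ a = x * a * y⁻¹ := fun a => rfl
  have hσn : ∀ (j : ℕ) a, (σ ^ j) a = x ^ j * a * (y ^ j)⁻¹ := by
    intro j
    induction j with
    | zero => intro a; simp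
    | succ j ih => intro a; rw [pow_succ', Equiv.Perm.mul_apply, hσ, ih]; group
  obtain ⟨d, hd, hd'⟩ := exists_sign σ S hS (fun a ha j hj => by rw [hσn]; exact h a ha j hj)
  let P : Matrix G G R := Matrix.of fun a b => if a = x * b * y⁻¹ then 1 else 0
  let D : Matrix G G R := Matrix.diagonal fun a => (d a : R)
  let Q : Matrix G G R := Matrix.diagonal fun a => if S a then 0 else 1
  let F : Matrix G G R := Matrix.of fun a b => f (a * b⁻¹)
  have hPl : ∀ M : Matrix G G R, ∀ a b, (P * M) a b = M (x⁻¹ * a * y) b := by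
    intro M a b
    rw [Matrix.mul_apply, Finset.sum_eq_single (x⁻¹ * a * y)]
    · simp only [P, Matrix.of_apply]; rw [if_pos (by group), one_mul]
    · intro c _ hc
      simp only [P, Matrix.of_apply]
      rw [if_neg, zero_mul]
      intro e; apply hc; rw [e]; group
    · simp
  have hPr : ∀ M : Matrix G G R, ∀ a b, (M * P) a b = M a (x * b * y⁻¹) := by
    intro M a b
    rw [Matrix.mul_apply, Finset.sum_eq_single (x * b * y⁻¹)]
    · simp [P]
    · intro c _ hc
      simp only [P, Matrix.of_apply]
      rw [if_neg hc, mul_zero]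
    · simp
  have key := trace_brauer h2 P D Q F ?_ ?_ ?_ ?_ ?_ ?_ ?_ ?_
  · rw [← key, Matrix.trace]
    refine Finset.sum_congr rfl fun a _ => ?_
    rw [Matrix.diag_apply, hPl]; rfl
  · simp only [D]
    rw [Matrix.diagonal_mul_diagonal, ← Matrix.diagonal_one]
    congr 1
    ext a
    rcases hd a with e | e <;> simp [e]
  · ext a b
    simp only [D, RingHom.mapMatrix_apply, Matrix.map_apply, Matrix.diagonal_apply,
      Matrix.one_apply]
    split_ifs
    · rcases hd a with e | e
      · simp [e]
      · rw [e]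
        have : residue R (-1) = 1 - residue R 2 := by
          rw [← map_one (residue R), ← map_sub]; congr 1; ring
        simpa [h2'] using this
    · simp
  · simp only [Q]
    rw [Matrix.diagonal_mul_diagonal]
    congr 1
    ext a
    split_ifs <;> simp
  · ext a b
    simp only [Q, Matrix.mul_diagonal, Matrix.diagonal_mul, P, Matrix.of_apply]
    by_cases e : a = x * b * y⁻¹
    · subst e; simp [hS]
    · simp [e]
  · ext a b
    simp only [Q, D, Matrix.mul_diagonal, Matrix.diagonal_mul, P, Matrix.of_apply,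
      Matrix.neg_apply]
    by_cases e : a = x * b * y⁻¹
    · subst e
      by_cases hb : S b
      · simp [hb]
      · have := hd' b hb
        rw [hσ] at this
        simp [hb, this]
    · simp [e]
  · ext a b
    simp only [F, Matrix.mul_apply, Matrix.of_apply]
    rw [← hf (a * b⁻¹)]
    refine Fintype.sum_equiv ((Equiv.inv G).trans (Equiv.mulLeft a)) _ _ fun c => ?_
    simp only [Equiv.trans_apply, Equiv.inv_apply, Equiv.coe_mulLeft]
    congr 2; group
  · ext a b
    rw [hPl, hPr]
    simp only [F, Matrix.of_apply]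
    rw [← hx]; congr 1; group
  · have e : (1 : Matrix G G R) - Q = Matrix.diagonal fun a => if S a then 1 else 0 := by
      simp only [Q]
      rw [← Matrix.diagonal_one, Matrix.diagonal_sub]
      congr 1
      ext a
      split_ifs <;> simp
    ext a b
    rw [e]
    simp only [RingHom.mapMatrix_apply, Matrix.map_apply, Matrix.mul_diagonal,
      Matrix.diagonal_mul, F, Matrix.of_apply, Matrix.zero_apply]
    by_cases ha : S a
    · by_cases hb : S b
      · simp [ha, hb, h0 a b ha hb]
      · simp [hb]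
    · simp [ha]

end Concrete

end Cfsg.Agent.BS
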