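import Cfsg.Agent.BS.Block2

/-!
# Products of involutions and the three-term lemma
-/

set_option autoImplicit false
set_option linter.unusedSectionVars false

namespace Cfsg.Agent.BS

open Cfsg Cfsg.Agent.Char Cfsg.Agent.GT
open scoped ComplexConjugate

universe u v

section
variable {G : Type u} [Group G] {a b : G}

theorem mul_self_of_orderOf (ha : orderOf a = 2) : a * a = 1 := by
  rw [← pow_two, ← ha, pow_orderOf_eq_one]

theorem orderOf_eq_two_of (ha : a * a = 1) (h1 : a ≠ 1) : orderOf a = 2 :=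
  orderOf_eq_prime (by rw [pow_two, ha]) h1

theorem ne_one_of_orderOf_two (ha : orderOf a = 2) : a ≠ 1 := by
  rintro rfl; simp at ha

theorem invol_mul_pow (ha : a * a = 1) (hb : b * b = 1) (k : ℕ) :
    a * (a * b) ^ k = ((a * b) ^ k)⁻¹ * a := by
  have ha' : a⁻¹ = a := inv_eq_of_mul_eq_one_right ha
  have hb' : b⁻¹ = b := inv_eq_of_mul_eq_one_right hb
  have : a * (a * b) * a⁻¹ = (a * b)⁻¹ := by
    rw [← mul_assoc, ha, one_mul, mul_inv_rev, ha', hb']
  rw [← inv_pow, ← this, conj_pow]; group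

theorem invol_mul_pow' (ha : a * a = 1) (hb : b * b = 1) (k : ℕ) :
    b * (a * b) ^ k = ((a * b) ^ k)⁻¹ * b := by
  have ha' : a⁻¹ = a := inv_eq_of_mul_eq_one_right ha
  have hb' : b⁻¹ = b := inv_eq_of_mul_eq_one_right hb
  have : b * (a * b) * b⁻¹ = (a * b)⁻¹ := by
    rw [mul_inv_rev, ha', mul_assoc, mul_assoc, mul_inv_cancel, mul_one, hb']
  rw [← inv_pow, ← this, conj_pow]; group

theorem invol_mul_pow_even (ha : a * a = 1) (hb : b * b = 1) (k : ℕ) :
    a * (a * b) ^ (2 * k) = ((a * b) ^ k)⁻¹ * a * (a * b) ^ k := by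
  rw [← invol_mul_pow ha hb, two_mul, pow_add, mul_assoc]

theorem invol_mul_pow_odd (ha : a * a = 1) (hb : b * b = 1) (k : ℕ) :
    a * (a * b) ^ (2 * k + 1) = ((a * b) ^ k)⁻¹ * b * (a * b) ^ k := by
  have : a * (a * b) = b := by rw [← mul_assoc, ha, one_mul]
  calc a * (a * b) ^ (2 * k + 1) = a * (a * b) ^ k * ((a * b) * (a * b) ^ k) := by
        rw [mul_assoc, ← pow_succ', ← pow_add]; congr 2; ring
    _ = ((a * b) ^ k)⁻¹ * (a * (a * b)) * (a * b) ^ k := by
        rw [invol_mul_pow ha hb]; simp only [mul_assoc]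
    _ = _ := by rw [this]

theorem conj_of_odd (ha : a * a = 1) (hb : b * b = 1) (h : Odd (orderOf (a * b))) :
    ∃ k : ℕ, a = ((a * b) ^ k)⁻¹ * b * (a * b) ^ k := by
  obtain ⟨k, hk⟩ := h
  exact ⟨k, by rw [← invol_mul_pow_odd ha hb, ← hk, pow_orderOf_eq_one, mul_one]⟩

theorem central_of_even [Finite G] (ha : a * a = 1) (hb : b * b = 1)
    (h : Even (orderOf (a * b))) :
    ∃ k : ℕ, orderOf (a * b) = 2 * k ∧ orderOf ((a * b) ^ k) = 2 ∧
      (a * b) ^ k * a = a * (a * b) ^ k ∧ (a * b) ^ k * b = b * (a * b) ^ k := by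
  obtain ⟨k, hk⟩ := h
  have hpos := orderOf_pos (a * b)
  have h1 : (a * b) ^ k * (a * b) ^ k = 1 := by rw [← pow_add, ← hk, pow_orderOf_eq_one]
  have h2 : ((a * b) ^ k)⁻¹ = (a * b) ^ k := inv_eq_of_mul_eq_one_right h1
  refine ⟨k, by omega, orderOf_eq_two_of h1 (pow_ne_one_of_lt_orderOf (by omega) (by omega)),
    by rw [invol_mul_pow ha hb, h2], by rw [invol_mul_pow' ha hb, h2]⟩

/-- Commuting involutions are equal (2-rank at most one). -/
def RankOne (G : Type u) [Group G] : Prop :=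
  ∀ a b : G, orderOf a = 2 → orderOf b = 2 → a * b = b * a → a = b

theorem RankOne.odd_mul [Finite G] (h : RankOne G) (ha : orderOf a = 2) (hb : orderOf b = 2) :
    Odd (orderOf (a * b)) := by
  by_contra hn
  obtain ⟨k, -, h2, h3, h4⟩ := central_of_even (mul_self_of_orderOf ha) (mul_self_of_orderOf hb)
    (Nat.not_odd_iff_even.1 hn)
  have e : a = b := (h _ _ h2 ha h3).symm.trans (h _ _ h2 hb h4)
  rw [← e, mul_self_of_orderOf ha] at h2
  simp at h2

theorem RankOne.isConj [Finite G] (h : RankOne G) (ha : orderOf a = 2) (hb : orderOf b = 2) :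
    IsConj a b := by
  obtain ⟨k, hk⟩ := conj_of_odd (mul_self_of_orderOf ha) (mul_self_of_orderOf hb) (h.odd_mul ha hb)
  exact isConj_iff.2 ⟨(a * b) ^ k, by nth_rewrite 2 [hk]; group⟩

theorem RankOne.subgroup (h : RankOne G) (H : Subgroup G) : RankOne H := by
  intro a b ha hb e
  exact Subtype.ext (h a b (by simpa using ha) (by simpa using hb) (congrArg Subtype.val e))

theorem mem_core_of_cyclic [Finite G] {H : Subgroup G}
    (h : ∀ P : Subgroup G, P ≤ H → IsPGroup 2 P → IsCyclic P) {x : G} (hx : x ∈ H)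
    (ho : Odd (orderOf x)) : x ∈ piCoreOf {2}ᶜ H := by
  obtain ⟨S, hS⟩ := exists_syl Nat.prime_two H
  have h1 := Burnside_hall Nat.prime_two hS (cyclic_pdiv_norm_le_cent Nat.prime_two hS
    (h S (syl_le hS) (syl_isPGroup Nat.prime_two hS)) fun q hq _ => hq.two_le)
  have := h1.constt_mem (self_le_norm_piCoreOf _ _) hx
  have : Fintype G := Fintype.ofFinite G
  rwa [constt_of_piNat (piNat_two_compl.2 ho)] at *

end

variable {G : Type u} [Group G] [Fintype G] {z : G}

/-- The average over products of two conjugates of `z`. -/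
noncomputable def tz (z : G) (α : G → ℂ) : ℂ := (Nat.card G : ℂ)⁻¹ * ∑ x, α (x * z * x⁻¹ * z)

theorem tz_add (α β : G → ℂ) : tz z (α + β) = tz z α + tz z β := by
  simp only [tz, Pi.add_apply, Finset.sum_add_distrib, mul_add]

theorem tz_neg (α : G → ℂ) : tz z (-α) = -tz z α := by
  simp only [tz, Pi.neg_apply, Finset.sum_neg_distrib, mul_neg]

theorem tz_sirr {φ : G → ℂ} (h : IsSIrr G φ) : φ 1 * tz z φ = φ z ^ 2 := by
  have aux : ∀ χ, IsIrrCharacter G χ → χ 1 * tz z χ = χ z ^ 2 := by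
    intro χ hχ
    have := hχ.sum_conj_mul z z
    have h0 := card_ne_zero_complex G
    rw [tz, mul_left_comm, this]; field_simp
  rcases h with h | h
  · exact aux φ h
  · have := aux _ h
    rw [tz_neg] at this
    simpa using this

theorem tz_of_odd (h : RankOne G) (hz : orderOf z = 2) {α : G → ℂ} {c : ℂ}
    (hα : ∀ g, Odd (orderOf g) → α g = c) : tz z α = c := by
  have h0 := card_ne_zero_complex G
  rw [tz, Finset.sum_congr rfl fun x _ => hα _ (h.odd_mul (by rw [orderOf_conj', hz]) hz)]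
  simp only [Finset.sum_const, Finset.card_univ, nsmul_eq_mul, ← Nat.card_eq_fintype_card]
  field_simp

theorem three_term (h : RankOne G) (hz : orderOf z = 2) {u p : G → ℂ} (hu : IsSIrr G u)
    (hp : IsSIrr G p) (hodd : ∀ g, Odd (orderOf g) → p g = 1 + u g)
    (hpz : p z ^ 2 = (1 + u z) ^ 2) : u z = u 1 := by
  have h1 := tz_sirr (z := z) hu
  have h2 := tz_sirr (z := z) hp
  have h3 := hodd 1 (by simp)
  have h4 : tz z (p + -u) = 1 := tz_of_odd h hz fun g hg => by simp [hodd g hg]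
  rw [tz_add, tz_neg] at h4
  have : (u z - u 1) ^ 2 = 0 := by
    have e : tz z p = 1 + tz z u := by linear_combination h4
    rw [e, h3, hpz] at h2
    linear_combination u 1 * h2 - (1 + u 1) * h1
  exact sub_eq_zero.1 (pow_eq_zero_iff two_ne_zero |>.1 this)

theorem two_term (h : RankOne G) (hz : orderOf z = 2) {p q : G → ℂ} (hp : IsSIrr G p)
    (hq : IsSIrr G q) (hodd : ∀ g, Odd (orderOf g) → p g + q g = 2)
    (hpz : p z + q z = -2) : p z = -p 1 := by
  have h1 := tz_sirr (z := z) hp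
  have h2 := tz_sirr (z := z) hq
  have h3 := hodd 1 (by simp)
  have h4 : tz z (p + q) = 2 := tz_of_odd h hz fun g hg => by simp [hodd g hg]
  rw [tz_add] at h4
  have : (p z + p 1) ^ 2 = 0 := by
    have e1 : q 1 = 2 - p 1 := by linear_combination h3
    have e2 : q z = -2 - p z := by linear_combination hpz
    have e3 : tz z q = 2 - tz z p := by linear_combination h4
    rw [e1, e2, e3] at h2
    linear_combination (-(2 - p 1) * h1 - p 1 * h2) / 2
  exact eq_neg_of_add_eq_zero_left (pow_eq_zero_iff two_ne_zero |>.1 this)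

/-- `z` lies in the kernel of a nontrivial irreducible character. -/
def KerZ (z : G) : Prop := ∃ χ, IsIrrCharacter G χ ∧ χ ≠ (fun _ => 1) ∧ χ z = χ 1

theorem kerZ_of_sirr {u : G → ℂ} (hu : IsSIrr G u) (h1 : ⟪u, fun _ => 1⟫ = 0) (h : u z = u 1) :
    KerZ z := by
  rcases hu with hu | hu
  · refine ⟨u, hu, ?_, h⟩
    rintro rfl
    rw [ci_one_one] at h1; exact one_ne_zero h1
  · refine ⟨-u, hu, fun e => ?_, by simp [h]⟩
    have : ⟪-u, fun _ => 1⟫ = 0 := by rw [ci_neg_left, h1, neg_zero]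
    rw [e, ci_one_one] at this; exact one_ne_zero this

theorem kerZ_of_neg {p : G → ℂ} (hp : IsSIrr G p) (h : p z = -p 1) {f : G} (hf : f * f = z)
    (hc : IsConj f f⁻¹) : KerZ z := by
  obtain ⟨χ, hχ, h⟩ : ∃ χ, IsIrrCharacter G χ ∧ χ z = -χ 1 := by
    rcases hp with hp | hp
    · exact ⟨p, hp, h⟩
    · exact ⟨-p, hp, by simp [h]⟩
  by_contra hn
  have hψ := hχ.isCharacter.mul hχ.isCharacter.conjFun
  have h1 : ⟪χ * conjFun χ, fun _ => 1⟫ = 1 := by
    rw [ci_mul_left, conjFun_conjFun]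
    convert hχ.ci_self using 2
    ext; simp
  have h2 : χ * conjFun χ = fun _ => 1 := by
    refine hψ.isClassFunction.ext_irr (isClassFunction_const 1) fun ψ hψ' => ?_
    by_cases e : ψ = fun _ => 1
    · rw [e, h1, ci_one_one]
    · rw [isIrrCharacter_one.ci_of_ne hψ' (Ne.symm e)]
      by_contra hne
      refine hn ⟨ψ, hψ', e, hψ.apply_eq_of_ci_ne_zero hψ' hne ?_⟩
      simp [conjFun_apply, h]
  obtain ⟨n, hn0, hn⟩ := hχ.exists_degree
  have h3 := congrFun h2 1
  simp only [Pi.mul_apply, conjFun_apply, hn, Complex.conj_natCast] at h3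
  have h4 : n = 1 := by
    have : n * n = 1 := by exact_mod_cast h3
    exact Nat.eq_one_of_mul_eq_one_right this
  rw [h4, Nat.cast_one] at hn
  obtain ⟨l, hl⟩ := hχ.isCharacter.exists_hom_of_degree_one hn
  have h5 := hχ.isClassFunction.eq_of_isConj hc
  rw [hn, ← hf] at h
  rw [hl] at h h5
  simp only [map_mul, Units.val_mul] at h h5
  nth_rewrite 1 [h5] at h
  rw [← Units.val_mul, ← map_mul, inv_mul_cancel, map_one, Units.val_one] at h
  norm_num at h

theorem KerZ.exists_normal (h : KerZ z) : ∃ N : Subgroup G, N.Normal ∧ z ∈ N ∧ N ≠ ⊤ := by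
  obtain ⟨χ, hχ, h1, h2⟩ := h
  refine ⟨chKer χ, chKer_normal hχ.isClassFunction, hχ.isCharacter.mem_chKer_iff.2 h2, fun e => ?_⟩
  exact h1 (hχ.eq_one_of_forall fun g => apply_eq_of_mem_chKer (by rw [e]; trivial))

/-- A virtual character `1 + α` of norm three. -/
theorem exists_of_nsq_three {b : G → ℂ} (hb : IsGeneralizedCharacter G b) (h3 : ⟪b, b⟫ = 3)
    (h1 : ⟪b, fun _ => 1⟫ = 1) : ∃ u p : G → ℂ, IsSIrr G u ∧ IsSIrr G p ∧ ⟪u, p⟫ = 0 ∧
      ⟪u, fun _ => 1⟫ = 0 ∧ ⟪p, fun _ => 1⟫ = 0 ∧ b = (fun _ => 1) + u - p := by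
  have h1' : ⟪fun _ => 1, b⟫ = 1 := by rw [← hb.ci_comm virt_one, h1]
  have h2 : nsq (b - fun _ => 1) = 2 := nsq_eq_of_ci (by
    rw [ci_sub_left, ci_sub_right, ci_sub_right, h3, h1, h1', ci_one_one]; norm_num)
  obtain ⟨u, q, hu, hq, huq, e⟩ := (hb.sub virt_one).exists_of_nsq_two h2
  have h4 : ⟪u, fun _ => 1⟫ + ⟪q, fun _ => 1⟫ = 0 := by
    rw [← ci_add_left, ← e, ci_sub_left, h1, ci_one_one, sub_self]
  have h5 : ⟪u, fun _ => 1⟫ = 0 := by
    by_contra hne
    rcases hu.eq_or_eq_neg_of_ci_ne_zero isIrrCharacter_one.isSIrr hne with rfl | rfl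
    · rw [ci_eq_zero_symm huq, ci_one_one] at h4; norm_num at h4
    · rw [ci_neg_left, neg_eq_zero] at huq
      rw [ci_eq_zero_symm huq, ci_neg_left, ci_one_one] at h4; norm_num at h4
  refine ⟨u, -q, hu, hq.neg, by rw [ci_neg_right, huq, neg_zero], h5, ?_, ?_⟩
  · rw [h5, zero_add] at h4; rw [ci_neg_left, h4, neg_zero]
  · rw [sub_neg_eq_add, add_assoc, ← e]; abel

end Cfsg.Agent.BS
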