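import Cfsg.Agent.Cl.SimpleUniq
import Cfsg.Agent.GT.Transfer
import Cfsg.Agent.PG.Critical
import Cfsg.Agent.Char.Burnside

/-! Tools for excluding small orders of simple groups, and the numerical sieve. -/

set_option autoImplicit false

namespace Cfsg.Agent.BS

open MulAction Subgroup Cfsg.Agent.GT Cfsg.Agent.Cl

section general
variable {G : Type*} [Group G]

theorem sm_prime_dvd_moved {X : Type*} [MulAction G X] {c : G} {r : ℕ} (hr : r.Prime)
    (hc : orderOf c = r) : r ∣ {y : X | c • y ≠ y}.ncard := by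
  rw [← hc, ← Nat.card_zpowers]
  refine card_dvd_moved ?_ ?_
  · rintro h ⟨k, rfl⟩
    exact (Commute.refl c).zpow_right k
  · intro h hh y hy hhy
    by_contra h1
    have h2 : zpowers c = zpowers h :=
      eq_zpowers_of_card_prime (by rw [Nat.card_zpowers, hc]; exact hr) hh h1
    have h3 : c ∈ stabilizer G y :=
      (zpowers_le.2 (mem_stabilizer_iff.2 hhy)) (h2 ▸ mem_zpowers c)
    exact hy h3

theorem sm_moved_add_fixed {X : Type*} [Finite X] [MulAction G X] (c : G) :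
    {y : X | c • y ≠ y}.ncard + {y : X | c • y = y}.ncard = Nat.card X := by
  rw [add_comm]
  exact Set.ncard_add_ncard_compl {y : X | c • y = y}

theorem sm_dvd_ncard_of_index {H X : Type*} [Group H] [Finite X] [MulAction H X] (d : ℕ) (T : Set X)
    (hT : ∀ (h : H), ∀ x ∈ T, h • x ∈ T) (h : ∀ x ∈ T, d ∣ (stabilizer H x).index) :
    d ∣ T.ncard := by
  classical
  induction hn : T.ncard using Nat.strong_induction_on generalizing T with
  | _ n ih =>
    rcases T.eq_empty_or_nonempty with rfl | ⟨x, hx⟩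
    · rw [← hn]; simp
    have hsub : orbit H x ⊆ T := by
      rintro _ ⟨g, rfl⟩; exact hT g x hx
    have h1 : (T \ orbit H x).ncard + (orbit H x).ncard = T.ncard :=
      Set.ncard_sdiff_add_ncard_of_subset hsub
    have h2 : (orbit H x).ncard = (stabilizer H x).index := (index_stabilizer H x).symm
    have h3 : 0 < (orbit H x).ncard := (Set.ncard_pos (Set.toFinite _)).2 ⟨x, mem_orbit_self x⟩
    have h4 := ih (T \ orbit H x).ncard (by omega) (T \ orbit H x) (fun g y hy =>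
      ⟨hT g y hy.1, fun hh => hy.2 (by
        obtain ⟨k, hk⟩ := hh
        exact ⟨g⁻¹ * k, by simp only [mul_smul] at hk ⊢; rw [hk, inv_smul_smul]⟩)⟩)
      (fun y hy => h y hy.1) rfl
    rw [← hn, ← h1]
    exact dvd_add h4 (h2 ▸ h x hx)

variable [Finite G]

theorem sm_sylow_dvd_moved {p : ℕ} [Fact p.Prime] {P : Sylow p G} (hP : Nat.card P = p) {c : G}
    (hc : c ∈ C[(P : Subgroup G)]) : p ∣ {y : Sylow p G | c • y ≠ y}.ncard := by
  have h0 : c • P = P := Sylow.smul_eq_iff_mem_normalizer.2 (cent_le_norm _ hc)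
  have := card_dvd_moved (Ω := Sylow p G) (H := (P : Subgroup G)) (c := c)
    (fun h hh => (hc h hh).symm) (fun h hh y hy hhy => by
      have : y ≠ P := by rintro rfl; exact hy h0
      exact eq_one_of_smul_sylow_eq (sylow_inf_eq_bot_of_prime hP this) hh hhy)
  rwa [show Nat.card (P : Subgroup G) = p from hP] at this

theorem sm_fixed_bound {p : ℕ} [Fact p.Prime] {P : Sylow p G} (hP : Nat.card P = p) {t : G}
    (ht : t ∈ N[(P : Subgroup G)]) (h : ∀ y ∈ (P : Subgroup G), t * y = y * t → y = 1) :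
    p * {y : Sylow p G | t • y = y}.ncard + 1 ≤ Nat.card (Sylow p G) + p := by
  have h0 : t • P = P := Sylow.smul_eq_iff_mem_normalizer.2 ht
  set F := {y : Sylow p G | t • y = y}
  have h1 : (F \ {P}).ncard + 1 = F.ncard := Set.ncard_sdiff_singleton_add_one h0
  have h2 : ({P}ᶜ : Set (Sylow p G)).ncard + 1 = Nat.card (Sylow p G) := by
    have := Set.ncard_add_ncard_compl ({P} : Set (Sylow p G))
    rw [Set.ncard_singleton] at this; omega
  have h3 : (((P : Subgroup G) : Set G) ×ˢ (F \ {P})).ncard ≤ ({P}ᶜ : Set (Sylow p G)).ncard := by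
    refine Set.ncard_le_ncard_of_injOn (fun q => q.1 • q.2) ?_ ?_
    · rintro ⟨y, Q⟩ ⟨hy, hQ⟩ e
      exact hQ.2 (smul_left_cancel y (Eq.trans e (smul_sylow_self hy).symm))
    · rintro ⟨y, Q⟩ ⟨hy, hQ⟩ ⟨y', Q'⟩ ⟨hy', hQ'⟩ e
      change y • Q = y' • Q' at e
      have hw : y'⁻¹ * y ∈ (P : Subgroup G) := mul_mem (inv_mem hy') hy
      have e1 : (y'⁻¹ * y) • Q = Q' := by rw [mul_smul, e, inv_smul_smul]
      set w := y'⁻¹ * y with hwdef
      have hQt : t⁻¹ • Q = Q := by
        have : t • Q = Q := hQ.1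
        rw [inv_smul_eq_iff, this]
      have e2 : (w⁻¹ * (t * w * t⁻¹)) • Q = Q := by
        have : t • Q' = Q' := hQ'.1
        rw [mul_smul, mul_smul, mul_smul, hQt, e1, this, ← e1, inv_smul_smul]
      have e3 := eq_one_of_smul_sylow_eq (sylow_inf_eq_bot_of_prime hP hQ.2)
        (mul_mem (inv_mem hw) (conj_mem_of_mem_norm ht hw)) e2
      have e4 : w = 1 := h w hw (by
        rw [inv_mul_eq_one] at e3
        calc t * w = t * w * t⁻¹ * t := by group
          _ = w * t := by rw [← e3])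
      have e5 : y = y' := (inv_mul_eq_one.1 e4).symm
      rw [e4, one_smul] at e1
      rw [e5, e1]
  rw [Set.ncard_prod, ← Nat.card_coe_set_eq] at h3
  have h4 : Nat.card ((P : Subgroup G) : Set G) = p := hP
  rw [h4] at h3
  rw [← h1, ← h2]
  nlinarith

theorem sm_cent_or {P : Subgroup G} (hP : (Nat.card P).Prime) (t : G) :
    t ∈ C[P] ∨ ∀ y ∈ P, t * y = y * t → y = 1 := by
  by_cases h : ∀ y ∈ P, t * y = y * t → y = 1
  · exact Or.inr h
  push Not at h
  obtain ⟨y, hy, h1, h2⟩ := h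
  left
  rw [cent_eq_cent1_of_card_prime hP hy h2, mem_cent1]
  exact h1

theorem sm_card_norm {p m : ℕ} [Fact p.Prime] (P : Sylow p G) (hn : Nat.card G = p ^ 1 * m)
    (hk : Nat.card (Sylow p G) ∣ m) :
    Nat.card N[(P : Subgroup G)] = p * (m / Nat.card (Sylow p G)) := by
  have h1 := (N[(P : Subgroup G)]).card_mul_index
  obtain ⟨e, he⟩ := hk
  have hpos : 0 < Nat.card (Sylow p G) := Nat.card_pos
  have h2 : (N[(P : Subgroup G)]).index = Nat.card (Sylow p G) := P.card_eq_index_normalizer.symm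
  rw [h2, hn, pow_one] at h1
  refine Nat.eq_of_mul_eq_mul_right hpos ?_
  rw [h1]
  conv_rhs => rw [he, Nat.mul_div_cancel_left _ hpos]
  rw [mul_assoc, mul_comm e, ← he]

/-- `|N(P)| = |C(P)| e` with `e ∣ p - 1`. -/
theorem sm_norm_cent {p : ℕ} [hp : Fact p.Prime] {P : Sylow p G} (hP : Nat.card P = p) :
    ∃ e, e ∣ p - 1 ∧ Nat.card C[(P : Subgroup G)] * e = Nat.card N[(P : Subgroup G)] :=
  ⟨_, PG.relIndex_cent_dvd_of_card_prime hp.out hP le_rfl, card_mul_relIndex (cent_le_norm _)⟩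

theorem sm_exists_meet {p a m : ℕ} [hp : Fact p.Prime] (hn : Nat.card G = p ^ (a + 2) * m)
    (hm : ¬ p ∣ m) (hk : Nat.card (Sylow p G) % p ^ 2 ≠ 1) :
    ∃ P Q : Sylow p G, P ≠ Q ∧ Nat.card ((P : Subgroup G) ⊓ Q : Subgroup G) = p ^ (a + 1) := by
  by_contra! h
  obtain ⟨P⟩ : Nonempty (Sylow p G) := inferInstance
  have hP : Nat.card (P : Subgroup G) = p ^ (a + 2) := card_sylow_of_card_eq P hn hm
  have h1 := sm_dvd_ncard_of_index (H := (P : Subgroup G)) (p ^ 2) ({P}ᶜ : Set (Sylow p G))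
    (fun g Q hQ e => hQ (smul_left_cancel (g : G) (Eq.trans e (smul_sylow_self g.2).symm)))
    (fun Q hQ => by
      have e : stabilizer (P : Subgroup G) Q = (Q : Subgroup G).subgroupOf P := by
        ext g
        rw [mem_stabilizer_iff, mem_subgroupOf]
        change (g : G) • Q = Q ↔ _
        rw [Sylow.smul_eq_iff_mem_normalizer]
        have := P.isPGroup'.inf_normalizer_sylow Q
        constructor
        · intro hg
          have h2 : (g : G) ∈ (P : Subgroup G) ⊓ normalizer Q := ⟨g.2, hg⟩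
          rw [this] at h2; exact h2.2
        · intro hg; exact le_normalizer hg
      rw [e]
      have h2 := card_inf_mul_relIndex (Q : Subgroup G) P
      rw [hP, inf_comm] at h2
      obtain ⟨i, hi, h3⟩ := (Nat.dvd_prime_pow hp.out).1 (Dvd.intro _ h2)
      have hne : P ≠ Q := fun e => hQ e.symm
      have h4 : i ≠ a + 1 := fun e => h P Q hne (e ▸ h3)
      have h5 : i ≠ a + 2 := fun e => by
        have h6 := eq_of_le_of_card_ge (inf_le_left : (P : Subgroup G) ⊓ Q ≤ P) (by rw [h3, hP, e])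
        exact hne (Sylow.ext (P.is_maximal' Q.isPGroup' (inf_eq_left.1 h6))).symm
      obtain ⟨j, rfl⟩ : ∃ j, a = i + j := ⟨a - i, by omega⟩
      rw [h3, show p ^ (i + j + 2) = p ^ i * (p ^ 2 * p ^ j) by ring] at h2
      exact ⟨_, Nat.eq_of_mul_eq_mul_left (pow_pos hp.out.pos i) h2⟩)
  have h2 := Set.ncard_add_ncard_compl ({P} : Set (Sylow p G))
  rw [Set.ncard_singleton] at h2
  obtain ⟨c, hc⟩ := h1
  apply hk
  rw [← h2, hc, Nat.add_mul_mod_self_left]
  exact Nat.mod_eq_of_lt (Nat.one_lt_pow two_ne_zero hp.out.one_lt)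

variable [IsSimpleGroup G]

theorem sm_moved_pos {X : Type*} [Finite X] [MulAction G X] (h : ∃ (g : G) (x : X), g • x ≠ x)
    {c : G} (hc : c ≠ 1) : 0 < {y : X | c • y ≠ y}.ncard := by
  rw [Set.ncard_pos (Set.toFinite _)]
  by_contra h0
  refine hc (eq_one_of_forall_smul_eq h fun x => ?_)
  by_contra hx
  exact h0 ⟨x, hx⟩

theorem sm_cent_bound (hG : ¬ IsMulCommutative G) {p : ℕ} [hp : Fact p.Prime] {P : Sylow p G}
    (hP : Nat.card P = p) {c : G} (hc : c ∈ C[(P : Subgroup G)]) (hc1 : c ≠ 1) {d : ℕ}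
    (hd : d ∣ {y : Sylow p G | c • y ≠ y}.ncard) (hco : Nat.Coprime p d) :
    p * d < Nat.card (Sylow p G) := by
  have h1 := hco.mul_dvd_of_dvd_of_dvd (sm_sylow_dvd_moved hP hc) hd
  have hpd : p ∣ Nat.card G := hP ▸ card_subgroup_dvd_card (P : Subgroup G)
  have h2 := Nat.le_of_dvd (sm_moved_pos (exists_smul_sylow_ne hG hpd) hc1) h1
  have h3 := sm_moved_add_fixed (X := Sylow p G) c
  have h4 : 0 < {y : Sylow p G | c • y = y}.ncard := (Set.ncard_pos (Set.toFinite _)).2
    ⟨P, Sylow.smul_eq_iff_mem_normalizer.2 (cent_le_norm _ hc)⟩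
  omega

theorem sm_cent_odd (hG : ¬ IsMulCommutative G) {p : ℕ} [hp : Fact p.Prime] {P : Sylow p G}
    (hP : Nat.card P = p) (hp2 : p ≠ 2) (hk : Nat.card (Sylow p G) ≤ 4 * p) {c : G}
    (hc : c ∈ C[(P : Subgroup G)]) (hc2 : orderOf c = 2) : False := by
  have := sm_cent_bound hG hP hc (by rintro rfl; simp at hc2)
    (four_dvd_moved hG (hc2 ▸ pow_orderOf_eq_one c))
    (Nat.Coprime.pow_right 2 ((Nat.coprime_primes hp.out Nat.prime_two).2 hp2))
  omega

/-- Thompson's transfer lemma for simple groups. -/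
theorem sm_thompson (hG : ¬ IsMulCommutative G) {M : Subgroup G} (hM : ¬ 4 ∣ M.index) {t : G}
    (ht : t ^ 2 = 1) : ∃ g : G, g⁻¹ * t * g ∈ M := by
  by_contra! h
  have h1 := four_dvd_moved (X := G ⧸ M) hG ht
  have : {y : G ⧸ M | t • y ≠ y} = Set.univ := by
    refine Set.eq_univ_of_forall fun y => ?_
    obtain ⟨g, rfl⟩ := QuotientGroup.mk_surjective y
    intro e
    have e' : ((t * g : G) : G ⧸ M) = (g : G ⧸ M) := e
    rw [eq_comm, QuotientGroup.eq] at e'
    exact h g (by rwa [mul_assoc])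
  rw [this, Set.ncard_univ] at h1
  exact hM h1

end general

/-- Necessary conditions on the number `k` of Sylow `p`-subgroups. -/
def sylOK (n p a m k : ℕ) : Prop :=
  k ∣ m ∧ k % p = 1 ∧ k ≠ 1 ∧ idxOK n k ∧
    (a = 0 → Nat.gcd (m / k) (p - 1) ≠ 1) ∧ (a ≤ 1 → k ≠ m) ∧
    (a = 0 → p % 4 = 3 → k ≤ 4 * p → ¬ 4 ∣ m / k) ∧
    (a = 0 → p % 4 = 3 → k = p + 1 → ¬ 2 ∣ m / k) ∧
    (a = 0 → 5 ∣ m / k → 5 ∣ p - 1 ∨ p * 5 < k) ∧
    (1 ≤ a → k % p ^ 2 ≠ 1 → ∃ t ≤ m, meetOK n p (a + 1) m t)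

instance decSylOK (n p a m k : ℕ) : Decidable (sylOK n p a m k) := by
  unfold sylOK; infer_instance

theorem sylOK_card {G : Type*} [Group G] [Finite G] [IsSimpleGroup G] (hG : ¬ IsMulCommutative G)
    {p a m : ℕ} [hp : Fact p.Prime] (hn : Nat.card G = p ^ (a + 1) * m) (hm : ¬ p ∣ m) :
    sylOK (Nat.card G) p a m (Nat.card (Sylow p G)) := by
  obtain ⟨h1, h2, h3, h4⟩ := card_sylow_cases hG hn hm
  obtain ⟨P⟩ : Nonempty (Sylow p G) := inferInstance
  have hP : Nat.card (P : Subgroup G) = p ^ (a + 1) := card_sylow_of_card_eq P hn hm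
  have hpd : p ∣ Nat.card G := ⟨p ^ a * m, by rw [hn]; ring⟩
  have hB := not_normalizer_le_centralizer hG hpd P
  have hmk : ¬ p ∣ m / Nat.card (Sylow p G) := fun h => hm (h.trans (Nat.div_dvd_of_dvd h1))
  refine ⟨h1, h2, h3, h4, ?_, ?_, ?_, ?_, ?_, ?_⟩
  · rintro rfl hg
    rw [zero_add, pow_one] at hP
    obtain ⟨e, he, he'⟩ := sm_norm_cent (P := P) hP
    rw [sm_card_norm P hn h1] at he'
    have hco : Nat.Coprime e p := Nat.Coprime.coprime_dvd_left he
      (by have := hp.out.one_lt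
          obtain ⟨q, rfl⟩ : ∃ q, p = q + 1 := ⟨p - 1, by omega⟩
          simp)
    have h5 : e ∣ m / Nat.card (Sylow p G) := hco.dvd_of_dvd_mul_left (Dvd.intro_left _ he')
    have h6 : e = 1 := Nat.eq_one_of_dvd_one (hg ▸ Nat.dvd_gcd h5 he)
    rw [h6, mul_one, ← sm_card_norm P hn h1] at he'
    exact hB (eq_of_le_of_card_ge (cent_le_norm (P : Subgroup G)) he'.ge).ge
  · intro ha hk
    have hc : IsMulCommutative (P : Subgroup G) :=
      PG.isMulCommutative_of_card_dvd_sq (p := p) (hP ▸ pow_dvd_pow _ (by omega))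
    have h7 := (normalizer (P : Set G)).card_mul_index
    rw [← P.card_eq_index_normalizer, hk, hn] at h7
    have hm0 : 0 < m := Nat.pos_of_ne_zero (by rintro rfl; simp at hm)
    have h8 : (P : Subgroup G) = normalizer (P : Set G) :=
      eq_of_le_of_card_ge le_normalizer (by
        rw [hP]; exact (Nat.eq_of_mul_eq_mul_right hm0 h7).le)
    refine hB ?_
    rw [← h8]
    exact le_centralizer (P : Subgroup G)
  · rintro rfl h34 hk ⟨c, hc⟩
    rw [zero_add, pow_one] at hP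
    obtain ⟨e, ⟨e', he⟩, he'⟩ := sm_norm_cent (P := P) hP
    rw [sm_card_norm P hn h1, hc] at he'
    have h5 : 2 ∣ Nat.card C[(P : Subgroup G)] := by
      by_contra h5
      have h6 : Nat.Coprime 4 (Nat.card C[(P : Subgroup G)]) :=
        Nat.Coprime.pow_left 2 ((Nat.Prime.coprime_iff_not_dvd Nat.prime_two).2 h5)
      obtain ⟨f, rfl⟩ : 4 ∣ e := h6.dvd_of_dvd_mul_left ⟨p * c, by rw [he']; ring⟩
      rw [mul_assoc] at he
      omega
    obtain ⟨x, hx, hx2⟩ := exists_mem_orderOf_eq Nat.prime_two h5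
    exact sm_cent_odd hG hP (by omega) hk hx hx2
  · rintro rfl h34 hk h5
    rw [zero_add, pow_one] at hP
    obtain ⟨x, hx, hx2⟩ := exists_mem_orderOf_eq (H := N[(P : Subgroup G)]) Nat.prime_two
      (by rw [sm_card_norm P hn h1]; exact h5.mul_left _)
    rcases sm_cent_or (P := (P : Subgroup G)) (by rw [hP]; exact hp.out) x with h6 | h6
    · exact sm_cent_odd hG hP (by omega) (by omega) h6 hx2
    have h7 := sm_fixed_bound hP hx h6
    have h8 := four_dvd_moved (X := Sylow p G) hG (hx2 ▸ pow_orderOf_eq_one x)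
    have h9 := sm_moved_add_fixed (X := Sylow p G) x
    have h10 : 0 < {y : Sylow p G | x • y = y}.ncard := (Set.ncard_pos (Set.toFinite _)).2
      ⟨P, Sylow.smul_eq_iff_mem_normalizer.2 hx⟩
    have h11 : {y : Sylow p G | x • y = y}.ncard ≤ 2 := by
      by_contra h11
      have : p * 3 ≤ p * {y : Sylow p G | x • y = y}.ncard := Nat.mul_le_mul_left _ (by omega)
      omega
    omega
  · rintro rfl h5
    rw [zero_add, pow_one] at hP
    by_cases h6 : 5 ∣ p - 1
    · exact Or.inl h6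
    right
    have h5' : Nat.Prime 5 := by norm_num
    obtain ⟨e, he, he'⟩ := sm_norm_cent (P := P) hP
    rw [sm_card_norm P hn h1] at he'
    have h7 : 5 ∣ Nat.card C[(P : Subgroup G)] :=
      ((Nat.Prime.dvd_mul h5').1 (he' ▸ h5.mul_left p)).resolve_right fun h => h6 (h.trans he)
    obtain ⟨x, hx, hx2⟩ := exists_mem_orderOf_eq h5' h7
    exact sm_cent_bound hG hP hx (by rintro rfl; simp at hx2) (sm_prime_dvd_moved h5' hx2)
      ((Nat.coprime_primes hp.out h5').2 (by rintro rfl; exact hmk h5))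
  · intro ha hk
    obtain ⟨b, rfl⟩ : ∃ b, a = b + 1 := ⟨a - 1, by omega⟩
    obtain ⟨P, Q, hPQ, hD⟩ := sm_exists_meet hn hm hk
    obtain ⟨t, ht, -⟩ := exists_meetOK hG hn hm hPQ hD
    exact ⟨t, Nat.le_of_dvd (Nat.pos_of_ne_zero (by rintro rfl; simp at hm)) ht.1, ht⟩

end Cfsg.Agent.BS
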