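import Cfsg.Agent.BS.Small
import Cfsg.Agent.PG.Power

/-! There are no simple groups of orders 612, 756, 1008, 1040, 1080. -/

set_option autoImplicit false

namespace Cfsg.Agent.BS

open MulAction Subgroup Cfsg.Agent.GT Cfsg.Agent.Cl Cfsg.Agent.Char
open scoped commutatorElement

variable {G : Type*} [Group G] [Finite G]

theorem sm_relIndex_mod {p : ℕ} [hp : Fact p.Prime] (P : Sylow p G) {H : Subgroup G}
    (h : (P : Subgroup G) ≤ H) : (N[(P : Subgroup G)]).relIndex H % p = 1 := by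
  have h1 := card_sylow_modEq_one p H
  rw [(P.subtype h).card_eq_index_normalizer] at h1
  have h2 : normalizer ((P.subtype h : Sylow p H) : Set H) = (N[(P : Subgroup G)]).subgroupOf H :=
    (subgroupOf_normalizer_eq h).symm
  rw [h2] at h1
  exact Eq.trans h1 (Nat.mod_eq_of_lt hp.out.one_lt)

theorem sm_exists_comm_eight {S : Subgroup G} (h : Nat.card S = 16) :
    ∃ M ≤ S, IsMulCommutative M ∧ Nat.card M = 8 := by
  have : Fact (Nat.Prime 2) := ⟨Nat.prime_two⟩
  have hS : IsPGroup 2 S := PG.isPGroup_of_card_eq_pow (n := 4) h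
  obtain ⟨E, hE, hEn, hEc⟩ := PG.exists_normal_card_eq hS le_rfl le_normalizer (n := 2)
    (by rw [h]; norm_num)
  have hEa : IsMulCommutative E := PG.isMulCommutative_of_card_dvd_sq (p := 2) (hEc ▸ dvd_rfl)
  have h1 := PG.card_le_mul_card_inf_cent_of_card_sq hS hEn hEc
  have h2 : E < S ⊓ C[E] := lt_of_le_of_ne (le_inf hE (isMulCommutative_iff_le_cent.1 hEa))
    fun e => by rw [← e, hEc, h] at h1; norm_num at h1
  obtain ⟨L, hL1, hL2, -, hL3⟩ := PG.exists_card_eq_mul_of_lt (hS.to_le inf_le_left) h2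
  obtain ⟨x, hx, -, hx2⟩ := PG.exists_eq_sup_zpowers_of_card_eq_mul Nat.prime_two hL1 hL3
  refine ⟨L, hL2.trans inf_le_left, ?_, by rw [hL3, hEc]; rfl⟩
  rw [hx2]
  exact PG.isMulCommutative_sup_zpowers hEa (hL2 hx).2

theorem sm_inv {P : Subgroup G} (hP : (Nat.card P).Prime) {a : G} (ha : a ∈ N[P])
    (ha2 : a * a = 1) (h : a ∉ C[P]) {y : G} (hy : y ∈ P) : a * y * a⁻¹ = y⁻¹ := by
  have h1 := (sm_cent_or hP a).resolve_left h
  have hc := isMulCommutative_iff_forall.1
    (isMulCommutative_of_isCyclic (isCyclic_of_card_prime hP))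
  have hy' := conj_mem_of_mem_norm ha hy
  have hi : a⁻¹ = a := inv_eq_of_mul_eq_one_left ha2
  have h2 := h1 _ (mul_mem hy hy') (by
    have := hc _ hy _ hy'
    rw [hi] at this ⊢
    calc a * (y * (a * y * a)) = a * (a * y * a * y) := by rw [this]
      _ = (a * a) * y * a * y := by group
      _ = y * a * y * (a * a) := by rw [ha2]; group
      _ = _ := by group)
  exact (eq_inv_of_mul_eq_one_right h2)

variable [IsSimpleGroup G]

theorem sm_self_norm (hG : ¬ IsMulCommutative G) {p m : ℕ} [hp : Fact p.Prime]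
    (hn : Nat.card G = p ^ 3 * m) (hm : ¬ p ∣ m) (hk : Nat.card (Sylow p G) = m)
    (h : ∀ P Q : Sylow p G, P ≠ Q → Nat.card ((P : Subgroup G) ⊓ Q : Subgroup G) ≠ p ^ 2) :
    False := by
  obtain ⟨P⟩ : Nonempty (Sylow p G) := inferInstance
  have hP : Nat.card (P : Subgroup G) = p ^ 3 := card_sylow_of_card_eq P hn hm
  have h7 := (normalizer (P : Set G)).card_mul_index
  rw [← P.card_eq_index_normalizer, hk, hn] at h7
  have hm0 : 0 < m := Nat.pos_of_ne_zero (by rintro rfl; simp at hm)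
  have hN : (P : Subgroup G) = N[(P : Subgroup G)] :=
    eq_of_le_of_card_ge le_normalizer (by
      rw [hP]; exact (Nat.eq_of_mul_eq_mul_right hm0 h7).le)
  have key : ∀ A R : Subgroup G, A ≤ P → A ≤ R → IsPGroup p R → p ^ 2 ≤ Nat.card A → R ≤ P := by
    intro A R h1 h2 h3 h4
    obtain ⟨Q, hQ⟩ := h3.exists_le_sylow
    by_cases e : P = Q
    · rw [e]; exact hQ
    exfalso
    have h5 := card_le_of_le (le_inf h1 (h2.trans hQ))
    obtain ⟨i, hi, h6⟩ := (Nat.dvd_prime_pow hp.out).1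
      (hP ▸ card_dvd_of_le (inf_le_left : (P : Subgroup G) ⊓ Q ≤ P))
    have h8 : 2 ≤ i := (Nat.pow_le_pow_iff_right hp.out.one_lt).1 (h6 ▸ h4.trans h5)
    have h9 : i ≠ 2 := fun e' => h P Q e (e' ▸ h6)
    have h10 := eq_of_le_of_card_ge (inf_le_left : (P : Subgroup G) ⊓ Q ≤ P)
      (by rw [h6, hP, show i = 3 by omega])
    exact e (Sylow.ext (P.is_maximal' Q.isPGroup' (inf_eq_left.1 h10))).symm
  have hP1 : (P : Subgroup G) ≠ ⊥ := fun e => by
    rw [e, card_bot] at hP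
    exact absurd hP.symm (Nat.one_lt_pow (by omega) hp.out.one_lt).ne'
  have hc : ∀ x ∈ (P : Subgroup G), p ^ 2 ≤ Nat.card ((P : Subgroup G) ⊓ C1[x] : Subgroup G) := by
    intro x hx
    by_contra! hlt
    have h1 := PG.card_le_pow_of_lt_pow_succ (P.isPGroup'.to_le inf_le_left) hlt
    have h2 : ((P : Subgroup G) ⊓ C[(P : Subgroup G)] : Subgroup G) ≤ (P : Subgroup G) ⊓ C1[x] :=
      inf_le_inf_left _ (cent_le_cent1 hx)
    have h3 := PG.p_le_card_of_ne_bot (P.isPGroup'.to_le inf_le_left)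
      (PG.center_ne_bot P.isPGroup' hP1)
    have h4 := eq_of_le_of_card_ge h2 (by rw [pow_one] at h1; omega)
    have h5 : x ∈ ((P : Subgroup G) ⊓ C[(P : Subgroup G)] : Subgroup G) :=
      h4 ▸ ⟨hx, self_mem_cent1 x⟩
    rw [inf_eq_left.2 (mem_cent_iff_le_cent1.1 h5.2), hP] at hlt
    exact absurd ((Nat.pow_lt_pow_iff_right hp.out.one_lt).1 hlt) (by omega)
  have hf := focal_subgroup_le (X := ⁅(P : Subgroup G), (P : Subgroup G)⁆) hp.out
    (syl_top_of_sylow hp.out P) (fun x hx u _ hux => by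
      obtain ⟨R, hR, hBR⟩ := exists_syl_ge (M := C1[u * x * u⁻¹]) hp.out
        (P.isPGroup'.to_le (inf_le_left : (P : Subgroup G) ⊓ C1[u * x * u⁻¹] ≤ P)) inf_le_right
      have hRP := key _ R inf_le_left hBR (syl_isPGroup hp.out hR) (hc _ hux)
      obtain ⟨c, hc1, hc2⟩ := syl_exists_conj_le (Q := cj[u] ((P : Subgroup G) ⊓ C1[x])) hp.out hR
        (PG.isPGroup_conj_iff.2 (P.isPGroup'.to_le inf_le_left))
        (by rw [← conj_cent1]; exact conj_mono u inf_le_right)
      rw [← mul_conj] at hc2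
      have h1 := key _ (cj[c * u] (P : Subgroup G)) (hc2.trans hRP) (conj_mono _ inf_le_left)
        (PG.isPGroup_conj_iff.2 P.isPGroup') (by rw [card_conj]; exact hc x hx)
      have h2 : c * u ∈ (P : Subgroup G) := by rw [hN]; exact mem_normalizer_of_conj_le h1
      have h3 : ⁅x, u⁆ = ⁅x, c * u⁆ := by
        have := mem_cent1.1 hc1
        rw [commutatorElement_def, commutatorElement_def]
        have e : c * u * x⁻¹ * (c * u)⁻¹ = u * x⁻¹ * u⁻¹ := by
          calc c * u * x⁻¹ * (c * u)⁻¹ = (c * (u * x * u⁻¹) * c⁻¹)⁻¹ := by group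
            _ = _ := by rw [this]; group
        calc x * u * x⁻¹ * u⁻¹ = x * (u * x⁻¹ * u⁻¹) := by group
          _ = x * (c * u * x⁻¹ * (c * u)⁻¹) := by rw [e]
          _ = _ := by group
      rw [h3]
      exact commutator_mem_commutator hx h2)
  have htop : ⁅(⊤ : Subgroup G), (⊤ : Subgroup G)⁆ = ⊤ := by
    refine (IsSimpleGroup.eq_bot_or_eq_top_of_normal _ inferInstance).resolve_left fun e => hG ?_
    exact PG.isMulCommutative_top_iff.1
      (isMulCommutative_iff_le_cent.2 (le_cent_iff_commutator_eq_bot.2 e))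
  rw [htop, inf_top_eq] at hf
  exact absurd hf (not_le_of_gt (PG.commutator_lt P.isPGroup' P.isPGroup' le_normalizer hP1))

theorem sm_612 (hG : ¬ IsMulCommutative G) (h : Nat.card G = 612) : False := by
  have : Fact (Nat.Prime 17) := ⟨by norm_num⟩
  have : Fact (Nat.Prime 3) := ⟨by norm_num⟩
  have hn : Nat.card G = 17 ^ 1 * 36 := h
  have k1 := sylOK_card hG (p := 17) (a := 0) (m := 36) h (by norm_num)
  have k2 := sylOK_card hG (p := 3) (a := 1) (m := 68) h (by norm_num)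
  rw [h] at k1 k2
  have e1 := (by decide : ∀ k ≤ 36, sylOK 612 17 0 36 k → k = 18) _
    (Nat.le_of_dvd (by norm_num) k1.1) k1
  have e2 := (by decide +kernel : ∀ k ≤ 68, sylOK 612 3 1 68 k → k = 34) _
    (Nat.le_of_dvd (by norm_num) k2.1) k2
  obtain ⟨P, Q, hPQ, hD⟩ := sm_exists_meet (p := 3) (a := 0) (m := 68) h (by norm_num)
    (by rw [e2]; norm_num)
  obtain ⟨t, ht, h1, h2⟩ := exists_meetOK hG (p := 3) (a := 0) (m := 68) h (by norm_num) hPQ hD
  rw [h] at ht
  obtain rfl := (by decide +kernel : ∀ t ≤ 68, meetOK 612 3 (0 + 2) 68 t → t = 4) _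
    (Nat.le_of_dvd (by norm_num) ht.1) ht
  obtain ⟨V, hV1, hV2, hV3⟩ := exists_normal_four h1 h2
  have hVD := le_cent_of_norm_of_coprime hV1 (le_normalizer.trans hV3) (by rw [hV2, hD]; norm_num)
  obtain ⟨c, hc, hc2⟩ := exists_mem_orderOf_eq (H := V) Nat.prime_two (by rw [hV2]; norm_num)
  have m1 := four_dvd_moved (X := Sylow 17 G) hG (hc2 ▸ pow_orderOf_eq_one c)
  have m2 := card_dvd_moved (Ω := Sylow 17 G) (H := (P : Subgroup G) ⊓ Q) (c := c)
    (fun x hx => (hVD hc x hx).symm) (fun x hx y _ hy => by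
      have a1 := orderOf_dvd_card_of_mem hx
      have a2 := orderOf_dvd_card_of_mem
        (show x ∈ N[(y : Subgroup G)] from Sylow.smul_eq_iff_mem_normalizer.1 hy)
      rw [sm_card_norm y hn k1.1, e1] at a2
      rw [hD] at a1
      exact orderOf_eq_one_iff.1 (Nat.eq_one_of_dvd_coprimes (by norm_num) a1 a2))
  rw [hD] at m2
  have m3 := sm_moved_add_fixed (X := Sylow 17 G) c
  have m4 := sm_moved_pos (exists_smul_sylow_ne (p := 17) hG (by rw [h]; norm_num))
    (c := c) (by rintro rfl; simp at hc2)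
  obtain ⟨R, hR⟩ := (Set.ncard_pos (Set.toFinite {y : Sylow 17 G | c • y = y})).1 (by omega)
  have hRc : Nat.card (R : Subgroup G) = 17 := card_sylow_of_card_eq R hn (by norm_num)
  rcases sm_cent_or (P := (R : Subgroup G)) (by rw [hRc]; norm_num) c with h6 | h6
  · exact sm_cent_odd hG hRc (by norm_num) (by omega) h6 hc2
  have := sm_fixed_bound hRc (Sylow.smul_eq_iff_mem_normalizer.1 hR) h6
  omega

theorem sm_756 (hG : ¬ IsMulCommutative G) (h : Nat.card G = 756) : False := by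
  have : Fact (Nat.Prime 3) := ⟨by norm_num⟩
  have k2 := sylOK_card hG (p := 3) (a := 2) (m := 28) h (by norm_num)
  rw [h] at k2
  refine sm_self_norm hG (p := 3) (m := 28) h (by norm_num)
    ((by decide +kernel : ∀ k ≤ 28, sylOK 756 3 2 28 k → k = 28) _
      (Nat.le_of_dvd (by norm_num) k2.1) k2) fun P Q hPQ hD => ?_
  obtain ⟨t, ht, -⟩ := exists_meetOK hG (p := 3) (a := 1) (m := 28) h (by norm_num) hPQ hD
  rw [h] at ht
  exact (by decide +kernel : ∀ t ≤ 28, ¬ meetOK 756 3 (1 + 2) 28 t) _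
    (Nat.le_of_dvd (by norm_num) ht.1) ht

theorem sm_1080 (hG : ¬ IsMulCommutative G) (h : Nat.card G = 1080) : False := by
  have : Fact (Nat.Prime 3) := ⟨by norm_num⟩
  have : Fact (Nat.Prime 5) := ⟨by norm_num⟩
  have hn : Nat.card G = 5 ^ 1 * 216 := h
  have k1 := sylOK_card hG (p := 5) (a := 0) (m := 216) h (by norm_num)
  have k2 := sylOK_card hG (p := 3) (a := 2) (m := 40) h (by norm_num)
  rw [h] at k1 k2
  have e1 := (by decide +kernel : ∀ k ≤ 216, sylOK 1080 5 0 216 k → k = 36) _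
    (Nat.le_of_dvd (by norm_num) k1.1) k1
  have e2 := (by decide +kernel : ∀ k ≤ 40, sylOK 1080 3 2 40 k → k = 10 ∨ k = 40) _
    (Nat.le_of_dvd (by norm_num) k2.1) k2
  have key : ∀ H : Subgroup G, Nat.card H ≠ 108 := by
    intro H hH
    obtain ⟨P⟩ : Nonempty (Sylow 5 G) := inferInstance
    have hP : Nat.card (P : Subgroup G) = 5 := card_sylow_of_card_eq P hn (by norm_num)
    obtain ⟨e, he, he'⟩ := sm_norm_cent hP
    rw [sm_card_norm P hn k1.1, e1] at he'
    have h3 : 3 ∣ Nat.card C[(P : Subgroup G)] :=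
      ((Nat.Prime.dvd_mul Nat.prime_three).1 (he' ▸ (by norm_num))).resolve_right
        fun h => absurd (h.trans he) (by norm_num)
    obtain ⟨d, hd, hd3⟩ := exists_mem_orderOf_eq Nat.prime_three h3
    have m1 := sm_prime_dvd_moved (X := G ⧸ H) Nat.prime_three hd3
    have m2 := card_dvd_moved (Ω := G ⧸ H) (H := (P : Subgroup G)) (c := d)
      (fun x hx => (hd x hx).symm) (fun x hx y _ hy => by
        obtain ⟨g, rfl⟩ := QuotientGroup.mk_surjective y
        have e' : ((x * g : G) : G ⧸ H) = (g : G ⧸ H) := hy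
        rw [eq_comm, QuotientGroup.eq] at e'
        have a1 := orderOf_dvd_card_of_mem hx
        have a2 := orderOf_dvd_card_of_mem e'
        rw [show g⁻¹ * (x * g) = g⁻¹ * x * g⁻¹⁻¹ by group, orderOf_conj, hH] at a2
        rw [hP] at a1
        exact orderOf_eq_one_iff.1 (Nat.eq_one_of_dvd_coprimes (by norm_num) a1 a2))
    rw [hP] at m2
    have m3 := sm_moved_add_fixed (X := G ⧸ H) d
    have m4 := sm_moved_pos (exists_smul_quotient_ne (H := H) (by
      rintro rfl; rw [card_top, h] at hH; omega)) (c := d) (by rintro rfl; simp at hd3)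
    have m5 := H.card_mul_index
    rw [hH, h, index_eq_card] at m5
    omega
  rcases e2 with e2 | e2
  · obtain ⟨P⟩ : Nonempty (Sylow 3 G) := inferInstance
    have h7 := (normalizer (P : Set G)).card_mul_index
    rw [← P.card_eq_index_normalizer, e2, h] at h7
    exact key _ (by omega : Nat.card (normalizer (P : Set G)) = 108)
  refine sm_self_norm hG (p := 3) (m := 40) h (by norm_num) e2 fun P Q hPQ hD => ?_
  obtain ⟨t, ht, h1, -⟩ := exists_meetOK hG (p := 3) (a := 1) (m := 40) h (by norm_num) hPQ hD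
  rw [h] at ht
  obtain rfl := (by decide +kernel : ∀ t ≤ 40, meetOK 1080 3 (1 + 2) 40 t → t = 4) _
    (Nat.le_of_dvd (by norm_num) ht.1) ht
  exact key _ h1

theorem sm_1008 (hG : ¬ IsMulCommutative G) (h : Nat.card G = 1008) : False := by
  have : Fact (Nat.Prime 2) := ⟨by norm_num⟩
  have hn : Nat.card G = 7 ^ 1 * 144 := h
  have k1 := sylOK_card hG (p := 7) (a := 0) (m := 144) h (by norm_num)
  rw [h] at k1
  have e1 := (by decide +kernel : ∀ k ≤ 144, sylOK 1008 7 0 144 k → k = 36) _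
    (Nat.le_of_dvd (by norm_num) k1.1) k1
  obtain ⟨P⟩ : Nonempty (Sylow 7 G) := inferInstance
  have hP : Nat.card (P : Subgroup G) = 7 := card_sylow_of_card_eq P hn (by norm_num)
  obtain ⟨e, he, he'⟩ := sm_norm_cent hP
  have hN := sm_card_norm P hn k1.1
  rw [e1] at hN
  rw [hN] at he'
  have h2 : 2 ∣ Nat.card C[(P : Subgroup G)] := by
    have := Nat.le_of_dvd (by norm_num) he
    interval_cases e <;> omega
  obtain ⟨t, ht, ht2⟩ := exists_mem_orderOf_eq Nat.prime_two h2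
  obtain ⟨S⟩ : Nonempty (Sylow 2 G) := inferInstance
  obtain ⟨M, -, hM1, hM2⟩ := sm_exists_comm_eight
    (card_sylow_of_card_eq (k := 4) (m := 63) S h (by norm_num))
  have hMi := M.card_mul_index
  rw [hM2, h] at hMi
  obtain ⟨g, hg⟩ := sm_thompson hG (M := M) (by omega) (ht2 ▸ pow_orderOf_eq_one t)
  have h8 : 8 ∣ Nat.card C1[t] := by
    have a1 : M ≤ C1[g⁻¹ * t * g⁻¹⁻¹] := by
      rw [inv_inv]; exact (isMulCommutative_iff_le_cent.1 hM1).trans (cent_le_cent1 hg)
    have a2 := card_dvd_of_le a1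
    rwa [← conj_cent1, card_conj, hM2] at a2
  have hPt : (P : Subgroup G) ≤ C1[t] := mem_cent_iff_le_cent1.1 ht
  have h7 := card_dvd_of_le hPt
  rw [hP] at h7
  have t1 : t ≠ 1 := by rintro rfl; simp at ht2
  have i1 := (C1[t]).card_mul_index
  have i2 := idxOK_index hG (centralizer_ne_top_of_simple hG t1)
  have i3 : (C1[t]).index ≠ 9 := fun e =>
    not_index_centralizer_eq_pow hG t1 (q := 3) (b := 2) Nat.prime_three e
  obtain ⟨c, hc⟩ : 56 ∣ Nat.card C1[t] :=
    Nat.Coprime.mul_dvd_of_dvd_of_dvd (m := 8) (n := 7) (by norm_num) h8 h7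
  rw [h] at i1 i2
  have i4 : c * (C1[t]).index = 18 := by rw [hc, mul_assoc] at i1; omega
  have i5 := (by decide +kernel : ∀ k ≤ 18, k ∣ 18 → idxOK 1008 k → k = 9 ∨ k = 18) _
    (Nat.le_of_dvd (by norm_num) (Dvd.intro_left _ i4)) (Dvd.intro_left _ i4) i2
  have i6 : Nat.card C1[t] = 56 := by
    rw [i5.resolve_left i3] at i1; omega
  have r1 := sm_relIndex_mod P hPt
  have r2 := card_inf_mul_relIndex N[(P : Subgroup G)] C1[t]
  have r3 := card_dvd_of_le (le_inf le_normalizer hPt)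
  have r4 := orderOf_dvd_card_of_mem (show t ∈ N[(P : Subgroup G)] ⊓ C1[t] from
    ⟨cent_le_norm _ ht, self_mem_cent1 t⟩)
  have r5 := card_dvd_of_le (inf_le_left : N[(P : Subgroup G)] ⊓ C1[t] ≤ _)
  rw [hP] at r3
  rw [ht2] at r4
  rw [hN] at r5
  rw [i6] at r2
  have r6 := Nat.le_of_dvd (by norm_num) r5
  generalize Nat.card ↥(N[(P : Subgroup G)] ⊓ C1[t]) = a at *
  interval_cases a <;> omega

theorem sm_1040 (hG : ¬ IsMulCommutative G) (h : Nat.card G = 1040) : False := by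
  have : Fact (Nat.Prime 2) := ⟨by norm_num⟩
  have : Fact (Nat.Prime 5) := ⟨by norm_num⟩
  have hn : Nat.card G = 13 ^ 1 * 80 := h
  have hn' : Nat.card G = 5 ^ 1 * 208 := h
  have k1 := sylOK_card hG (p := 13) (a := 0) (m := 80) h (by norm_num)
  have k2 := sylOK_card hG (p := 5) (a := 0) (m := 208) h (by norm_num)
  rw [h] at k1 k2
  have e1 := (by decide +kernel : ∀ k ≤ 80, sylOK 1040 13 0 80 k → k = 40) _
    (Nat.le_of_dvd (by norm_num) k1.1) k1
  have e2 := (by decide +kernel : ∀ k ≤ 208, sylOK 1040 5 0 208 k → k = 26) _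
    (Nat.le_of_dvd (by norm_num) k2.1) k2
  have hQ : ∀ Q : Sylow 13 G, Nat.card (Q : Subgroup G) = 13 := fun Q =>
    card_sylow_of_card_eq Q hn (by norm_num)
  have h13 : ∀ t : G, orderOf t = 2 → ¬ 13 ∣ Nat.card C1[t] := by
    intro t ht hd
    obtain ⟨x, hx, hx2⟩ := exists_mem_orderOf_eq (by norm_num) hd
    obtain ⟨Q, hQx⟩ := (isPGroup_of_card_eq_prime (p := 13) (P := zpowers x)
      (by rw [Nat.card_zpowers, hx2])).exists_le_sylow
    refine sm_cent_odd hG (hQ Q) (by norm_num) (by omega) (c := t) ?_ ht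
    rw [cent_eq_cent1_of_card_prime (by rw [hQ]; norm_num) (hQx (mem_zpowers x))
      (by rintro rfl; simp at hx2)]
    exact mem_cent1_comm.1 hx
  have h80 : ∀ t : G, t ≠ 1 → ¬ 80 ∣ Nat.card C1[t] := by
    rintro t ht ⟨c, hc⟩
    have i1 := (C1[t]).card_mul_index
    rw [h, hc, mul_assoc] at i1
    obtain ⟨b, -, hb⟩ := (Nat.dvd_prime_pow (p := 13) (m := 1) (by norm_num)).1
      (Dvd.intro_left c (by omega : c * (C1[t]).index = 13 ^ 1))
    exact not_index_centralizer_eq_pow hG ht (by norm_num) hb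
  obtain ⟨s0, hs0, hs0c⟩ : ∃ s : G, orderOf s = 2 ∧ Nat.card C1[s] ≤ 8 := by
    obtain ⟨Q⟩ : Nonempty (Sylow 13 G) := inferInstance
    have hN := sm_card_norm Q hn k1.1
    rw [e1] at hN
    obtain ⟨s, hs, hs2⟩ := exists_mem_orderOf_eq (H := N[(Q : Subgroup G)]) Nat.prime_two
      (by rw [hN]; norm_num)
    refine ⟨s, hs2, ?_⟩
    rcases sm_cent_or (P := (Q : Subgroup G)) (by rw [hQ]; norm_num) s with h6 | h6
    · exact (sm_cent_odd hG (hQ Q) (by norm_num) (by omega) h6 hs2).elim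
    have a1 := sm_fixed_bound (hQ Q) hs h6
    have a2 := ncard_orbit_mul_card_stabilizer (G := C1[s]) Q
    have a3 : (orbit C1[s] Q).ncard ≤ {y : Sylow 13 G | s • y = y}.ncard := by
      refine Set.ncard_le_ncard ?_
      rintro _ ⟨c, rfl⟩
      change s • (c : G) • Q = (c : G) • Q
      rw [← mul_smul, ← mem_cent1.1 c.2, mul_smul, Sylow.smul_eq_iff_mem_normalizer.2 hs]
    have a4 : stabilizer C1[s] Q = (N[(Q : Subgroup G)]).subgroupOf C1[s] := by
      ext g
      rw [mem_stabilizer_iff, mem_subgroupOf]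
      exact Sylow.smul_eq_iff_mem_normalizer (g := (g : G))
    rw [a4, card_subgroupOf'] at a2
    have a5 := card_dvd_of_le (inf_le_left : N[(Q : Subgroup G)] ⊓ C1[s] ≤ _)
    have a6 : ¬ 13 ∣ Nat.card ↥(N[(Q : Subgroup G)] ⊓ C1[s]) := fun h =>
      h13 s hs2 (h.trans (card_dvd_of_le inf_le_right))
    rw [hN] at a5
    have a7 := Nat.le_of_dvd (by norm_num) a5
    generalize Nat.card ↥(N[(Q : Subgroup G)] ⊓ C1[s]) = a at *
    interval_cases a <;> omega
  obtain ⟨S⟩ : Nonempty (Sylow 2 G) := inferInstance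
  have hS : Nat.card (S : Subgroup G) = 16 :=
    card_sylow_of_card_eq (k := 4) (m := 65) S h (by norm_num)
  obtain ⟨M, hMS, hM1, hM2⟩ := sm_exists_comm_eight hS
  have hMc := isMulCommutative_iff_forall.1 hM1
  have hMi := M.card_mul_index
  rw [hM2, h] at hMi
  obtain ⟨g, hg⟩ := sm_thompson hG (M := M) (by omega) (hs0 ▸ pow_orderOf_eq_one s0)
  have hcj : ∀ s x : G, Nat.card C1[x * s * x⁻¹] = Nat.card C1[s] := fun s x => by
    rw [← conj_cent1, card_conj]
  obtain ⟨s, hs, hsc, hsM⟩ : ∃ s : G, orderOf s = 2 ∧ Nat.card C1[s] ≤ 8 ∧ s ∈ M :=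
    ⟨g⁻¹ * s0 * g⁻¹⁻¹, by rw [orderOf_conj, hs0], by rw [hcj]; exact hs0c, by rwa [inv_inv]⟩
  have hMle : ∀ x ∈ M, M ≤ C1[x] := fun x hx =>
    (isMulCommutative_iff_le_cent.1 hM1).trans (cent_le_cent1 hx)
  have hCs : M = C1[s] := eq_of_le_of_card_ge (hMle s hsM) (by omega)
  have m1 := four_dvd_moved (X := Sylow 5 G) hG (hs ▸ pow_orderOf_eq_one s)
  have m3 := sm_moved_add_fixed (X := Sylow 5 G) s
  obtain ⟨P, hPs⟩ := (Set.ncard_pos (Set.toFinite {y : Sylow 5 G | s • y = y})).1 (by omega)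
  have hsN : s ∈ N[(P : Subgroup G)] := Sylow.smul_eq_iff_mem_normalizer.1 hPs
  have hP : Nat.card (P : Subgroup G) = 5 := card_sylow_of_card_eq P hn' (by norm_num)
  have hnc : ∀ x ∈ M, Nat.card C1[x] ≤ 8 → x ∉ C[(P : Subgroup G)] := fun x hx h1 h2 => by
    have a1 := card_dvd_of_le (mem_cent_iff_le_cent1.1 h2)
    have a2 := card_dvd_of_le (hMle x hx)
    have a3 := card_pos' C1[x]
    rw [hP] at a1
    rw [hM2] at a2
    omega
  obtain ⟨e, he, he'⟩ := sm_norm_cent hP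
  rw [sm_card_norm P hn' k2.1, e2] at he'
  have h2 : 2 ∣ Nat.card C[(P : Subgroup G)] := by
    have := Nat.le_of_dvd (by norm_num) he
    interval_cases e <;> omega
  have h3 := PG.inf_cent_ne_bot_of_dvd (A := zpowers s) (p := 2)
    (isPGroup_of_card_eq_prime (by rw [Nat.card_zpowers, hs]))
    (le_norm_cent (zpowers_le.2 hsN)) h2
  rw [cent_zpowers, ← hCs] at h3
  obtain ⟨t, ht, ht2⟩ := exists_mem_orderOf_eq Nat.prime_two
    (PG.dvd_card_of_ne_bot (S.isPGroup'.to_le (inf_le_right.trans hMS)) h3)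
  have t1 : t ≠ 1 := by rintro rfl; simp at ht2
  have hPt : (P : Subgroup G) ≤ C1[t] := mem_cent_iff_le_cent1.1 ht.1
  have hCt : Nat.card C1[t] = 40 := by
    have a1 := card_dvd_of_le hPt
    have a2 := card_dvd_of_le (hMle t ht.2)
    have a3 := h13 t ht2
    have a4 := h80 t t1
    have a5 := card_subgroup_dvd_card C1[t]
    rw [hP] at a1
    rw [hM2] at a2
    rw [h] at a5
    obtain ⟨c, hc⟩ : 40 ∣ Nat.card C1[t] := by omega
    rw [hc] at a3 a4 a5 ⊢
    have a6 : c ∣ 26 := Nat.dvd_of_mul_dvd_mul_left (by norm_num : 0 < 40) a5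
    have a7 := Nat.le_of_dvd (by norm_num) a6
    interval_cases c <;> omega
  have hMN : M ≤ N[(P : Subgroup G)] := by
    refine (hMle t ht.2).trans (relIndex_eq_one.1 ?_)
    have r1 := sm_relIndex_mod P hPt
    have r2 := card_inf_mul_relIndex N[(P : Subgroup G)] C1[t]
    obtain ⟨c, r3⟩ := card_dvd_of_le (le_inf le_normalizer hPt)
    rw [r3, hP, hCt, mul_assoc] at r2
    have r4 := Nat.le_of_dvd (by norm_num)
      (Dvd.intro_left c (by omega : c * (N[(P : Subgroup G)]).relIndex C1[t] = 8))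
    have r5 : (N[(P : Subgroup G)]).relIndex C1[t] ≠ 6 := fun e => by rw [e] at r2; omega
    omega
  have hSM : Nat.card (S : Subgroup G) = 2 * Nat.card M := by rw [hS, hM2]
  obtain ⟨x, hx, hxM, hxS⟩ := PG.exists_eq_sup_zpowers_of_card_eq_mul Nat.prime_two hMS hSM
  have hMn := PG.le_norm_of_card_eq_mul S.isPGroup' hMS hSM
  have hs' : x * s * x⁻¹ ∈ M := conj_mem_of_le_norm hMn hx hsM
  have hx2 : x ^ 2 ∈ M := PG.pow_mem_of_card_eq_mul hMS hMn hSM hx
  have ss : s * s = 1 := by rw [← pow_two, ← hs, pow_orderOf_eq_one]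
  have ss' : x * s * x⁻¹ * (x * s * x⁻¹) = 1 := by
    calc x * s * x⁻¹ * (x * s * x⁻¹) = x * (s * s) * x⁻¹ := by group
      _ = 1 := by rw [ss]; group
  have hP' : (Nat.card (P : Subgroup G)).Prime := by rw [hP]; norm_num
  have w1 : s * (x * s * x⁻¹) ≠ 1 := fun e => hxM (by
    rw [hCs, mem_cent1]
    have : x * s * x⁻¹ = s := mul_left_cancel (e.trans ss.symm)
    calc x * s = x * s * x⁻¹ * x := by group
      _ = s * x := by rw [this])
  have w2 : (P : Subgroup G) ≤ C1[s * (x * s * x⁻¹)] := fun y hy => by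
    have b1 := sm_inv hP' hsN ss (hnc s hsM hsc) (inv_mem hy)
    have b2 := sm_inv hP' (hMN hs') ss' (hnc _ hs' (by rw [hcj]; exact hsc)) hy
    rw [mem_cent1]
    calc y * (s * (x * s * x⁻¹)) = (s * y⁻¹ * s⁻¹) * (s * (x * s * x⁻¹)) := by rw [b1, inv_inv]
      _ = s * (x * s * x⁻¹ * y * (x * s * x⁻¹)⁻¹) * (x * s * x⁻¹) := by rw [b2]; group
      _ = _ := by group
  have w3 : (S : Subgroup G) ≤ C1[s * (x * s * x⁻¹)] := by
    rw [hxS]
    refine sup_le (hMle _ (mul_mem hsM hs')) (zpowers_le.2 ?_)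
    rw [mem_cent1]
    have b1 := hMc _ hx2 _ hsM
    have b2 := hMc _ hsM _ hs'
    calc x * (s * (x * s * x⁻¹)) = x * s * x⁻¹ * (x ^ 2 * s) * x⁻¹ := by rw [pow_two]; group
      _ = x * s * x⁻¹ * s * x := by rw [b1, pow_two]; group
      _ = _ := by rw [← b2]
  have a1 := card_dvd_of_le w2
  have a2 := card_dvd_of_le w3
  rw [hP] at a1
  rw [hS] at a2
  exact h80 _ w1 (by omega)

end Cfsg.Agent.BS
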