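import Cfsg.Agent.BS.Small2
import Cfsg.Agent.BS.Sieve

/-! There is no simple group of order 720; orders of simple groups up to 1092. -/

set_option autoImplicit false

namespace Cfsg.Agent.BS

open MulAction Subgroup Cfsg.Agent.GT Cfsg.Agent.Cl Cfsg.Agent.Char

variable {G : Type*} [Group G] [Finite G]

theorem sm_conj_mul {P : Subgroup G} {w : G} (hw : w ∈ N[P])
    (h : ∀ y ∈ P, w * y = y * w → y = 1) {c : G} (hc : c ∈ P) : IsConj w (w * c) := by
  let f : P → P := fun b => ⟨w⁻¹ * b * w * b⁻¹,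
    mul_mem (conj_mem_of_le_norm' le_rfl hw b.2) (inv_mem b.2)⟩
  have hf : Function.Injective f := fun b b' e => by
    have e1 : w⁻¹ * b * w * (b : G)⁻¹ = w⁻¹ * b' * w * (b' : G)⁻¹ := congrArg Subtype.val e
    have := h _ (mul_mem (inv_mem b'.2) b.2) (by
      calc w * ((b' : G)⁻¹ * b) = (b' : G)⁻¹ * w * (w⁻¹ * b' * w * (b' : G)⁻¹) * b := by group
        _ = _ := by rw [← e1]; group)
    exact Subtype.ext (inv_mul_eq_one.1 this).symm
  obtain ⟨b, hb⟩ := Finite.surjective_of_injective hf ⟨c, hc⟩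
  have e1 : w⁻¹ * b * w * (b : G)⁻¹ = c := congrArg Subtype.val hb
  exact isConj_iff.2 ⟨b, by rw [← e1]; group⟩

variable [IsSimpleGroup G]

theorem sm_deg_four (hG : ¬ IsMulCommutative G) {χ : G → ℂ} (hχ : IsCharacter G χ)
    (h4 : χ 1 = 4) {y u : G} (hy : y ^ 5 = 1) (hu : u ^ 4 = 1)
    (h1 : ∀ k, 0 < k → k < 5 → χ (y ^ k) = -1)
    (h2 : ∀ j, 0 < j → j < 4 → ∀ k, χ (u ^ j * y ^ k) = χ (u ^ j)) : False := by
  obtain ⟨n, ρ, rfl⟩ := hχ
  have hn : Module.finrank ℂ (Fin n → ℂ) = 4 := by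
    rw [Representation.char_one] at h4
    exact_mod_cast h4
  have tr : ∀ g, ρ.character g = LinearMap.trace ℂ _ (ρ g) := fun _ => rfl
  set E := ∑ k ∈ Finset.range 5, ρ (y ^ k) with hE
  have a1 : ρ y * E = E := by
    simp only [hE, Finset.sum_range_succ, Finset.sum_range_zero, mul_add, ← map_mul, ← pow_succ',
      hy, pow_zero, zero_add, mul_zero]
    norm_num [hy]
    abel
  have a2 : ∀ k, ρ (y ^ k) * E = E := fun k => by
    induction k with
    | zero => simp
    | succ k ih => rw [pow_succ, map_mul, mul_assoc, a1, ih]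
  have a3 : E * E = (5 : ℂ) • E := by
    conv_lhs => lhs; rw [hE]
    rw [Finset.sum_mul, Finset.sum_congr rfl fun k _ => a2 k]
    simp only [Finset.sum_const, Finset.card_range]
    rw [← Nat.cast_smul_eq_nsmul ℂ]; norm_num
  have a4 : IsIdempotentElem ((5⁻¹ : ℂ) • E) := by
    unfold IsIdempotentElem
    rw [smul_mul_smul_comm, a3, smul_smul]; norm_num
  have a5 := LinearMap.IsIdempotentElem.eq_zero_of_trace_eq_zero a4 (by
    rw [map_smul, hE, map_sum]
    simp only [← tr, Finset.sum_range_succ, Finset.sum_range_zero, pow_zero, h4]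
    rw [h1 1 (by omega) (by omega), h1 2 (by omega) (by omega), h1 3 (by omega) (by omega),
      h1 4 (by omega) (by omega)]
    norm_num)
  have a6 : E = 0 := (smul_eq_zero.1 a5).resolve_left (by norm_num)
  have a7 : ∀ j, 0 < j → j < 4 → LinearMap.trace ℂ _ (ρ u ^ j) = 0 := fun j hj hj' => by
    have b1 := congrArg (fun X => LinearMap.trace ℂ _ (ρ (u ^ j) * X)) a6
    simp only [hE, Finset.mul_sum, ← map_mul, map_sum, ← tr, h2 j hj hj', mul_zero, map_zero,
      Finset.sum_const, Finset.card_range, nsmul_eq_mul] at b1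
    rw [← map_pow, ← tr]
    simpa using b1
  have a8 := congrArg (LinearMap.trace ℂ _) (LinearMap.aeval_self_charpoly (ρ u))
  have a9 : (ρ u).charpoly.coeff 4 = 1 := by
    have := (LinearMap.charpoly_monic (ρ u)).coeff_natDegree
    rwa [LinearMap.charpoly_natDegree, hn] at this
  rw [Polynomial.aeval_eq_sum_range, LinearMap.charpoly_natDegree, hn] at a8
  simp only [Finset.sum_range_succ, Finset.sum_range_zero, map_add, map_smul, a9,
    a7 1 (by omega) (by omega), a7 2 (by omega) (by omega), a7 3 (by omega) (by omega)] at a8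
  rw [← map_pow ρ u 4, hu, map_one, pow_zero, LinearMap.trace_one, hn] at a8
  have b1 := LinearMap.det_eq_sign_charpoly_coeff (ρ u)
  have b2 := congrArg Units.val (hom_eq_one_of_comm hG
    ((LinearMap.det : (_ →ₗ[ℂ] _) →* ℂ).comp ρ).toHomUnits u)
  change LinearMap.det (ρ u) = 1 at b2
  rw [b2, hn] at b1
  simp only [map_zero, smul_eq_mul] at a8
  have : (8 : ℂ) = 0 := by push_cast at a8; linear_combination a8 + 4 * b1
  norm_num at this

theorem sm_720_num (a : ℕ) (b : ℤ) (a1 : a ∣ 720) (a2 : ((5 : ℕ) : ℤ) ∣ a - b) (a5 : a ≠ 1)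
    (a6 : ¬ (a = 4 ∧ b = -1)) (a7 : a ≤ 26) (a8 : -2 ≤ b) (a9 : b ≤ 2) :
    b = 0 ∨ (a, b) ∈ [(6, 1), (16, 1), (9, -1), (24, -1), (2, 2), (12, 2), (3, -2), (8, -2),
      (18, -2)] := by
  simp only [List.mem_cons, List.not_mem_nil, or_false, Prod.mk.injEq]
  interval_cases a <;> omega

theorem sm_720 (hG : ¬ IsMulCommutative G) (h : Nat.card G = 720) : False := by
  classical
  have : Fact (Nat.Prime 2) := ⟨by norm_num⟩
  have : Fact (Nat.Prime 5) := ⟨by norm_num⟩
  have hn : Nat.card G = 5 ^ 1 * 144 := h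
  have k1 := sylOK_card hG (p := 5) (a := 0) (m := 144) h (by norm_num)
  rw [h] at k1
  have e1 := (by decide +kernel : ∀ k ≤ 144, sylOK 720 5 0 144 k → k = 36) _
    (Nat.le_of_dvd (by norm_num) k1.1) k1
  obtain ⟨P⟩ : Nonempty (Sylow 5 G) := inferInstance
  have hP : Nat.card (P : Subgroup G) = 5 := card_sylow_of_card_eq P hn (by norm_num)
  have hP' : (Nat.card (P : Subgroup G)).Prime := by rw [hP]; norm_num
  have hN := sm_card_norm P hn k1.1
  rw [e1] at hN
  have hodd : ¬ 2 ∣ Nat.card C[(P : Subgroup G)] := by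
    intro h2
    obtain ⟨t, ht, ht2⟩ := exists_mem_orderOf_eq Nat.prime_two h2
    obtain ⟨S⟩ : Nonempty (Sylow 2 G) := inferInstance
    obtain ⟨M, -, hM1, hM2⟩ := sm_exists_comm_eight
      (card_sylow_of_card_eq (k := 4) (m := 45) S h (by norm_num))
    have hMi := M.card_mul_index
    rw [hM2, h] at hMi
    obtain ⟨g, hg⟩ := sm_thompson hG (M := M) (by omega) (ht2 ▸ pow_orderOf_eq_one t)
    have h8 : 8 ∣ Nat.card C1[t] := by
      have a1 : M ≤ C1[g⁻¹ * t * g⁻¹⁻¹] := by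
        rw [inv_inv]; exact (isMulCommutative_iff_le_cent.1 hM1).trans (cent_le_cent1 hg)
      have a2 := card_dvd_of_le a1
      rwa [← conj_cent1, card_conj, hM2] at a2
    have hPt : (P : Subgroup G) ≤ C1[t] := mem_cent_iff_le_cent1.1 ht
    have h7 := card_dvd_of_le hPt
    rw [hP] at h7
    have t1 : t ≠ 1 := by rintro rfl; simp at ht2
    have i1 := (C1[t]).card_mul_index
    have i2 := idxOK_index hG (centralizer_ne_top_of_simple hG t1)
    have i3 : (C1[t]).index ≠ 9 := fun e =>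
      not_index_centralizer_eq_pow hG t1 (q := 3) (b := 2) Nat.prime_three e
    obtain ⟨c, hc⟩ : 40 ∣ Nat.card C1[t] := by omega
    rw [h] at i1 i2
    have i4 : c * (C1[t]).index = 18 := by rw [hc, mul_assoc] at i1; omega
    have i5 := (by decide +kernel : ∀ k ≤ 18, k ∣ 18 → idxOK 720 k → k = 9 ∨ k = 18) _
      (Nat.le_of_dvd (by norm_num) (Dvd.intro_left _ i4)) (Dvd.intro_left _ i4) i2
    have i6 : Nat.card C1[t] = 40 := by
      rw [i5.resolve_left i3] at i1; omega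
    have r1 := sm_relIndex_mod P hPt
    have r2 := card_inf_mul_relIndex N[(P : Subgroup G)] C1[t]
    have r3 := card_dvd_of_le (le_inf le_normalizer hPt)
    have r5 := card_dvd_of_le (inf_le_left : N[(P : Subgroup G)] ⊓ C1[t] ≤ _)
    rw [hP] at r3
    rw [hN] at r5
    rw [i6] at r2
    have r6 := Nat.le_of_dvd (by norm_num) r5
    generalize Nat.card ↥(N[(P : Subgroup G)] ⊓ C1[t]) = a at *
    interval_cases a <;> omega
  have hPc : (P : Subgroup G) ≤ C[(P : Subgroup G)] := isMulCommutative_iff_le_cent.1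
    (isMulCommutative_of_isCyclic (isCyclic_of_card_prime hP'))
  have hC : (P : Subgroup G) = C[(P : Subgroup G)] := by
    refine eq_of_le_of_card_ge hPc ?_
    have a1 := card_dvd_of_le (cent_le_norm (P : Subgroup G))
    rw [hN] at a1
    rw [hP]
    have a2 := Nat.le_of_dvd (by norm_num) a1
    generalize Nat.card C[(P : Subgroup G)] = a at *
    interval_cases a <;> omega
  obtain ⟨y, hy, hy5⟩ := exists_mem_orderOf_eq (H := (P : Subgroup G)) (p := 5) (by norm_num)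
    (by rw [hP])
  have y1 : y ≠ 1 := by rintro rfl; simp at hy5
  have hy0 : y ^ 5 = 1 := hy5 ▸ pow_orderOf_eq_one y
  have hPy := eq_zpowers_of_card_prime hP' hy y1
  have hCy : C1[y] = P := by rw [← cent_eq_cent1_of_card_prime hP' hy y1, ← hC]
  have hpow : ∀ (x : G) (n : ℕ), x * y * x⁻¹ = y ^ n → ∀ j : ℕ, x ^ j * y * (x ^ j)⁻¹ = y ^ n ^ j := by
    intro x n hx j
    induction j with
    | zero => simp
    | succ j ih =>
      calc x ^ (j + 1) * y * (x ^ (j + 1))⁻¹ = x * (x ^ j * y * (x ^ j)⁻¹) * x⁻¹ := by group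
        _ = _ := by rw [ih, ← conj_pow, hx, ← pow_mul, ← pow_succ']
  have hred : ∀ n, y ^ n = y ^ (n % 5) := fun n => pow_eq_pow_mod n hy0
  obtain ⟨u, huN, hu⟩ : ∃ u ∈ N[(P : Subgroup G)], u * y * u⁻¹ = y ^ 2 := by
    obtain ⟨x, hx, hx'⟩ := PG.exists_eq_inf_cent_sup_zpowers_of_card_prime (by norm_num) hP
      (le_refl N[(P : Subgroup G)])
    rw [← hC, inf_eq_right.2 le_normalizer] at hx'
    obtain ⟨n, hn⟩ := PG.exists_conj_eq_pow (a := x) (x := y) (hPy ▸ hx)
    have a1 : x ^ 2 ∉ (P : Subgroup G) := fun e => by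
      have := PG.card_sup_zpowers_dvd hx e
      rw [← hx', hN, hP] at this
      norm_num at this
    have a2 := hpow x n hn
    have a3 : n ^ 2 % 5 ≠ 1 := fun e => a1 (by
      rw [← hCy, mem_cent1]
      have := a2 2
      rw [hred, e, pow_one] at this
      exact mul_inv_eq_iff_eq_mul.1 this)
    have a4 : n % 5 ≠ 0 := fun e => y1 (by
      rw [hred, e, pow_zero] at hn
      simpa using hn)
    have a5 : n % 5 < 5 := Nat.mod_lt _ (by norm_num)
    rw [Nat.pow_mod] at a3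
    by_cases a6 : n % 5 = 2
    · exact ⟨x, hx, by rw [hn, hred, a6]⟩
    refine ⟨x ^ 3, pow_mem hx _, ?_⟩
    rw [a2, hred, Nat.pow_mod]
    generalize n % 5 = r at *
    interval_cases r <;> first | omega | norm_num
  have hu' := hpow u 2 hu
  have hfp : ∀ j, 0 < j → j < 4 → ∀ c ∈ (P : Subgroup G), u ^ j * c = c * u ^ j → c = 1 := by
    intro j hj hj'
    refine (sm_cent_or hP' _).resolve_left fun e => ?_
    rw [cent_eq_cent1_of_card_prime hP' hy y1, mem_cent1] at e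
    have a1 := hu' j
    rw [e, mul_inv_cancel_right] at a1
    have a2 := (pow_eq_pow_iff_modEq (n := 1)).1 ((pow_one y).trans a1)
    rw [hy5] at a2
    interval_cases j <;> simp [Nat.ModEq] at a2
  have hu4 : u ^ 4 = 1 := by
    refine hfp 1 one_pos (by norm_num) _ ?_ (by group)
    rw [← hCy, mem_cent1]
    have := hu' 4
    rw [hred] at this
    exact mul_inv_eq_iff_eq_mul.1 (this.trans (pow_one y))
  have hconj : ∀ k, k % 5 ≠ 0 → IsConj y (y ^ k) := by
    intro k hk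
    have a5 : k % 5 < 5 := Nat.mod_lt _ (by norm_num)
    rw [hred]
    generalize k % 5 = r at *
    interval_cases r
    · exact absurd rfl hk
    · rw [pow_one]
    · exact isConj_iff.2 ⟨u, hu⟩
    · exact isConj_iff.2 ⟨_, (hu' 3).trans (hred _)⟩
    · exact isConj_iff.2 ⟨_, hu' 2⟩
  have hdv : ∀ χ : G → ℂ, ∃ (d : ℕ) (v : ℤ), χ ∈ Irr G → χ 1 = d ∧ χ y = v := by
    intro χ
    by_cases hχ : χ ∈ Irr G
    · have hχ' := mem_Irr.1 hχ
      obtain ⟨d, hd⟩ := hχ'.isCharacter.exists_degree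
      obtain ⟨v, hv⟩ := exists_int_of_forall_ringEquiv (hχ'.isCharacter.isIntegral y) fun σ => by
        obtain ⟨k, hk, hk'⟩ := exists_pow_of_ringHom (σ : ℂ →+* ℂ) (n := 5) (by norm_num)
        have := hχ'.isCharacter.ringHom_apply (σ : ℂ →+* ℂ) (g := y) (k := k) (hy5 ▸ hk')
        refine this.trans (hχ'.isClassFunction.eq_of_isConj (hconj k fun e => ?_)).symm
        have := Nat.Coprime.eq_one_of_dvd hk.symm (Nat.dvd_of_mod_eq_zero e)
        norm_num at this
      exact ⟨d, v, fun _ => ⟨hd, hv⟩⟩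
    · exact ⟨0, 0, fun h => absurd h hχ⟩
  choose d v hdv using hdv
  have one : (fun _ => 1 : G → ℂ) ∈ Irr G := mem_Irr.2 isIrrCharacter_one
  have d1 : d (fun _ => 1) = 1 := by have := (hdv _ one).1; exact_mod_cast this.symm
  have v1 : v (fun _ => 1) = 1 := by have := (hdv _ one).2; exact_mod_cast this.symm
  set T := (Irr G).erase (fun _ => 1) with hT
  have S1 : ∑ χ ∈ T, v χ ^ 2 = 4 := by
    have a1 := sum_irr_norm_sq y
    rw [hCy, hP, Finset.sum_congr rfl (g := fun χ => ((v χ ^ 2 : ℤ) : ℝ)) fun χ hχ => by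
      rw [(hdv χ hχ).2, Complex.norm_intCast, sq_abs]; push_cast; rfl] at a1
    have a2 : ∑ χ ∈ Irr G, v χ ^ 2 = 5 := by exact_mod_cast a1
    rw [← Finset.add_sum_erase _ _ one, v1] at a2
    rw [hT]; push_cast at a2; linarith
  have S2 : ∑ χ ∈ T, (d χ : ℤ) * v χ = -1 := by
    have a1 := sum_irr_degree_mul y
    rw [if_neg y1, Finset.sum_congr rfl (g := fun χ => (((d χ : ℤ) * v χ : ℤ) : ℂ)) fun χ hχ => by
      rw [(hdv χ hχ).2, (hdv χ hχ).1]; push_cast; rfl] at a1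
    have a2 : ∑ χ ∈ Irr G, (d χ : ℤ) * v χ = 0 := by exact_mod_cast a1
    rw [← Finset.add_sum_erase _ _ one, v1, d1] at a2
    rw [hT]; push_cast at a2; linarith
  have S3 : ∑ χ ∈ T, (d χ : ℤ) ^ 2 = 719 := by
    have a1 := sum_irr_degree_sq G
    rw [h, Finset.sum_congr rfl (g := fun χ => (((d χ : ℤ) ^ 2 : ℤ) : ℂ)) fun χ hχ => by
      rw [(hdv χ hχ).1]; push_cast; rfl] at a1
    have a2 : ∑ χ ∈ Irr G, (d χ : ℤ) ^ 2 = 720 := by exact_mod_cast a1
    rw [← Finset.add_sum_erase _ _ one, d1] at a2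
    rw [hT]; push_cast at a2; linarith
  let e : ℕ → ℤ → (G → ℂ) → ℤ := fun a b χ => if d χ = a ∧ v χ = b then 1 else 0
  have key : ∀ χ ∈ T, v χ ^ 2 = e 6 1 χ + e 16 1 χ + e 9 (-1) χ + e 24 (-1) χ + 4 * e 2 2 χ +
      4 * e 12 2 χ + 4 * e 3 (-2) χ + 4 * e 8 (-2) χ + 4 * e 18 (-2) χ ∧
      (d χ : ℤ) * v χ = 6 * e 6 1 χ + 16 * e 16 1 χ - 9 * e 9 (-1) χ - 24 * e 24 (-1) χ +
        4 * e 2 2 χ + 24 * e 12 2 χ - 6 * e 3 (-2) χ - 16 * e 8 (-2) χ - 36 * e 18 (-2) χ ∧
      256 * e 16 1 χ + 576 * e 24 (-1) χ ≤ (d χ : ℤ) ^ 2 := by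
    intro χ hχ
    obtain ⟨hne, hχI⟩ := Finset.mem_erase.1 hχ
    have hχ' := mem_Irr.1 hχI
    obtain ⟨hd, hv⟩ := hdv χ hχI
    have a1 := hχ'.degree_dvd_card hd
    have a2 := hχ'.isCharacter.prime_dvd_degree_sub (p := 5) (by norm_num) (k := 1) hy0
      (d := d χ) (by rw [hd]; simp) hv
    have a3 : v χ ^ 2 ≤ 4 := S1 ▸ Finset.single_le_sum (f := fun χ => v χ ^ 2)
      (fun _ _ => sq_nonneg _) hχ
    have a4 : (d χ : ℤ) ^ 2 ≤ 719 := S3 ▸ Finset.single_le_sum (f := fun χ => (d χ : ℤ) ^ 2)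
      (fun _ _ => sq_nonneg _) hχ
    have a5 : d χ ≠ 1 := fun e => by
      obtain ⟨f, hf⟩ := hχ'.isCharacter.exists_hom_of_degree_one (by rw [hd, e]; simp)
      exact hne (by rw [hf]; funext g; rw [hom_eq_one_of_comm hG f g]; rfl)
    have a6 : ¬ (d χ = 4 ∧ v χ = -1) := by
      rintro ⟨b1, b2⟩
      refine sm_deg_four hG hχ'.isCharacter (by rw [hd, b1]; simp) hy0 hu4 (fun k hk hk' => ?_)
        fun j hj hj' k => ?_
      · rw [← hχ'.isClassFunction.eq_of_isConj (hconj k (by omega)), hv, b2]; simp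
      · exact (hχ'.isClassFunction.eq_of_isConj
          (sm_conj_mul (pow_mem huN j) (hfp j hj hj') (pow_mem hy k))).symm
    have a7 : d χ ≤ 26 := by nlinarith
    have a8 : -2 ≤ v χ := by nlinarith
    have a9 : v χ ≤ 2 := by nlinarith
    rw [h] at a1
    have b1 := sm_720_num _ _ a1 a2 a5 a6 a7 a8 a9
    simp only [List.mem_cons, List.not_mem_nil, or_false, Prod.mk.injEq] at b1
    rcases b1 with b1 | ⟨b1, b2⟩ | ⟨b1, b2⟩ | ⟨b1, b2⟩ | ⟨b1, b2⟩ | ⟨b1, b2⟩ | ⟨b1, b2⟩ | ⟨b1, b2⟩ |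
      ⟨b1, b2⟩ | ⟨b1, b2⟩
    · simp [e, b1]
    all_goals simp [e, b1, b2]
  rw [Finset.sum_congr rfl fun χ hχ => (key χ hχ).1] at S1
  rw [Finset.sum_congr rfl fun χ hχ => (key χ hχ).2.1] at S2
  have S4 := (Finset.sum_le_sum fun χ hχ => (key χ hχ).2.2).trans S3.le
  simp only [Finset.sum_add_distrib, Finset.sum_sub_distrib, ← Finset.mul_sum] at S1 S2 S4
  have p : ∀ a b, 0 ≤ ∑ χ ∈ T, e a b χ := fun a b => Finset.sum_nonneg fun χ _ => by
    simp only [e]; split_ifs <;> norm_num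
  have p1 := p 6 1
  have p2 := p 16 1
  have p3 := p 9 (-1)
  have p4 := p 24 (-1)
  have p5 := p 2 2
  have p6 := p 12 2
  have p7 := p 3 (-2)
  have p8 := p 8 (-2)
  have p9 := p 18 (-2)
  omega

theorem simple_card_le_1092 (hG : ¬ IsMulCommutative G) (h : Nat.card G ≤ 1092) :
    Nat.card G = 60 ∨ Nat.card G = 168 ∨ Nat.card G = 360 ∨ Nat.card G = 504 ∨ Nat.card G = 660 ∨
      Nat.card G = 1092 := by
  have h1 := sieve_cases hG h
  have a1 := sm_612 hG
  have a2 := sm_720 hG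
  have a3 := sm_756 hG
  have a4 := sm_1008 hG
  have a5 := sm_1040 hG
  have a6 := sm_1080 hG
  simp only [List.mem_cons, List.not_mem_nil, or_false] at h1
  tauto

end Cfsg.Agent.BS
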